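import Groth.Agent.L16.QCohSections
import Groth.Agent.L21.Modules

/-!
Quasi-coherent modules of finite type as quotients of sums of line bundles with frames on an affine cover.
-/

universe u

open CategoryTheory CategoryTheory.Limits AlgebraicGeometry TopologicalSpace Opposite

namespace Groth.L16.EpiFrames

open Groth.L18.Frame (rs ro rs_rs ro_ro rs_smul ro_mul IsFrame)

variable {X : Scheme.{u}}

lemma app_rs {P Q : X.Modules} (φ : P ⟶ Q) {U V : X.Opens} (h : V ≤ U) (s : Γ(P, U)) :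
    φ.app V (rs P h s) = rs Q h (φ.app U s) :=
  congr($(φ.mapPresheaf.naturality (homOfLE h).op) s)

lemma rs_add (P : X.Modules) {U V : X.Opens} (h : V ≤ U) (s t : Γ(P, U)) :
    rs P h (s + t) = rs P h s + rs P h t := map_add _ _ _

lemma rs_sub (P : X.Modules) {U V : X.Opens} (h : V ≤ U) (s t : Γ(P, U)) :
    rs P h (s - t) = rs P h s - rs P h t := map_sub _ _ _

lemma rs_zero (P : X.Modules) {U V : X.Opens} (h : V ≤ U) : rs P h (0 : Γ(P, U)) = 0 := map_zero _

lemma ro_pow {U V : X.Opens} (h : V ≤ U) (a : Γ(X, U)) (n : ℕ) : ro h (a ^ n) = ro h a ^ n := map_pow _ _ _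

/-- A morphism is epi when its image on global sections contains generators. -/
theorem epi_of_generators {P Q : X.Modules} (ψ : P ⟶ Q) (σ : Q.GeneratingSections)
    (h : ∀ i, ∃ z : Γ(P, ⊤), ψ.app ⊤ z = (σ.s i).eval (op ⊤)) : Epi ψ := by
  choose z hz using h
  let zs : σ.I → P.sections := fun i => P.unitHomEquiv (homOfSection P (z i))
  have h1 : (SheafOfModules.freeHomEquiv _).symm zs ≫ ψ = σ.π := by
    rw [SheafOfModules.freeHomEquiv_symm_comp]
    refine congrArg _ (funext fun i => PresheafOfModules.sections_ext _ _ fun V => ?_)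
    change ψ.app V.unop ((zs i).eval V) = _
    have e1 : (zs i).eval V = rs P (le_top : V.unop ≤ ⊤) (z i) :=
      (homOfSection_app P (z i) V.unop 1).trans (one_smul _ _)
    rw [e1, app_rs, hz i]
    exact (σ.s i).2 (homOfLE (le_top : V.unop ≤ ⊤)).op
  haveI : Epi ((SheafOfModules.freeHomEquiv _).symm zs ≫ ψ) := h1 ▸ σ.epi
  exact epi_of_epi ((SheafOfModules.freeHomEquiv _).symm zs) ψ

/-- The frames data: `a k j` plays the role of `f_k / f_j`. -/
structure Data (X : Scheme.{u}) (ι : Type u) where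
  U : ι → X.Opens
  isAffine : ∀ i, IsAffineOpen (U i)
  isAffine_inf : ∀ i j, IsAffineOpen (U i ⊓ U j)
  cover : ∀ x : X, ∃ i, x ∈ U i
  a : ∀ _ j : ι, Γ(X, U j)
  basicOpen_eq : ∀ k j, X.basicOpen (a k j) = U j ⊓ U k
  a_self : ∀ i, a i i = 1
  cocycle : ∀ (k i j : ι) (W : X.Opens) (hi : W ≤ U i) (hj : W ≤ U j),
    ro hi (a k i) * ro hj (a i j) = ro hj (a k j)
  L : ℕ → X.Modules
  e : ∀ (N : ℕ) (i : ι), Γ(L N, U i)
  isFrame : ∀ N i, IsFrame (L N) (U i) (e N i)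
  rel : ∀ (N : ℕ) (i j : ι) (W : X.Opens) (hi : W ≤ U i) (hj : W ≤ U j),
    rs (L N) hi (e N i) = ro hi (a j i) ^ N • rs (L N) hj (e N j)

variable {ι : Type u} (D : Data X ι) (M : X.Modules)

/-- Compatible sections give a morphism out of `L N`. -/
theorem exists_hom (N : ℕ) (t : ∀ i, Γ(M, D.U i))
    (ht : ∀ (i j : ι) (W : X.Opens) (hi : W ≤ D.U i) (hj : W ≤ D.U j),
      rs M hi (t i) = ro hi (D.a j i) ^ N • rs M hj (t j)) :
    ∃ φ : D.L N ⟶ M, ∀ i, φ.app (D.U i) (D.e N i) = t i := by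
  let OM : TopCat.Sheaf Ab.{u} X.toTopCat := ⟨M.presheaf, M.isSheaf⟩
  have key : ∀ (V : X.Opens) (m : Γ(D.L N, V)), ∃! y : Γ(M, V),
      ∀ (i : ι) (W : X.Opens) (hV : W ≤ V) (hi : W ≤ D.U i) (c : Γ(X, W)),
        c • rs (D.L N) hi (D.e N i) = rs (D.L N) hV m → rs M hV y = c • rs M hi (t i) := by
    intro V m
    choose c hc using fun i => (D.isFrame N i).exists_coeff (inf_le_right : V ⊓ D.U i ≤ D.U i)
      (rs (D.L N) inf_le_left m)
    have hcomp : ∀ (i j : ι) (W : X.Opens) (hi : W ≤ V ⊓ D.U i) (hj : W ≤ V ⊓ D.U j),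
        rs M hi (c i • rs M inf_le_right (t i)) = rs M hj (c j • rs M inf_le_right (t j)) := by
      intro i j W hi hj
      have e1 := congrArg (rs (D.L N) hi) (hc i)
      have e2 := congrArg (rs (D.L N) hj) (hc j)
      simp only [rs_smul, rs_rs] at e1 e2 ⊢
      rw [D.rel N i j W (hi.trans inf_le_right) (hj.trans inf_le_right), ← mul_smul] at e1
      rw [ht i j W (hi.trans inf_le_right) (hj.trans inf_le_right), ← mul_smul]
      exact congrArg (· • _) ((D.isFrame N j).inj (hj.trans inf_le_right) (e1.trans e2.symm))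
    have hcv : V ≤ ⨆ i, V ⊓ D.U i := fun x hx => by
      obtain ⟨i, hi⟩ := D.cover x
      exact Opens.mem_iSup.2 ⟨i, hx, hi⟩
    obtain ⟨y, hy, huniq⟩ := OM.existsUnique_gluing' (fun i => V ⊓ D.U i) V (fun i => homOfLE inf_le_left)
      hcv (fun i => (c i • rs M inf_le_right (t i) : Γ(M, V ⊓ D.U i)))
      (fun i j => hcomp i j _ inf_le_left inf_le_right)
    refine ⟨y, fun i W hV hi d hd => ?_, fun y' hy' => huniq y' fun i => ?_⟩
    · have e0 := congrArg (rs (D.L N) (le_inf hV hi)) (hc i)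
      simp only [rs_smul, rs_rs] at e0
      have e3 : d = ro (le_inf hV hi) (c i) := (D.isFrame N i).inj hi (hd.trans e0.symm)
      rw [e3, ← rs_rs M (inf_le_left : V ⊓ D.U i ≤ V) (le_inf hV hi) y,
        show rs M (inf_le_left : V ⊓ D.U i ≤ V) y = _ from hy i, rs_smul, rs_rs]
    · exact hy' i (V ⊓ D.U i) inf_le_left inf_le_right (c i) (hc i)
  choose ψ hψ huniq using key
  have hnat : ∀ (V V' : X.Opens) (h : V' ≤ V) (m : Γ(D.L N, V)),
      ψ V' (rs (D.L N) h m) = rs M h (ψ V m) := fun V V' h m =>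
    (huniq V' (rs (D.L N) h m) (rs M h (ψ V m)) fun i W hW hi c hc => by
      rw [rs_rs] at hc ⊢
      exact hψ V m i W (hW.trans h) hi c hc).symm
  have hsm : ∀ (V : X.Opens) (r : Γ(X, V)) (m : Γ(D.L N, V)), ψ V (r • m) = r • ψ V m := fun V r m =>
    (huniq V (r • m) (r • ψ V m) fun i W hV hi c hc => by
      obtain ⟨d, hd⟩ := (D.isFrame N i).exists_coeff hi (rs (D.L N) hV m)
      rw [rs_smul, ← hd, ← mul_smul] at hc
      rw [rs_smul, hψ V m i W hV hi d hd, ← mul_smul, (D.isFrame N i).inj hi hc]).symm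
  have hadd : ∀ (V : X.Opens) (m m' : Γ(D.L N, V)), ψ V (m + m') = ψ V m + ψ V m' := fun V m m' =>
    (huniq V (m + m') (ψ V m + ψ V m') fun i W hV hi c hc => by
      obtain ⟨d, hd⟩ := (D.isFrame N i).exists_coeff hi (rs (D.L N) hV m)
      obtain ⟨d', hd'⟩ := (D.isFrame N i).exists_coeff hi (rs (D.L N) hV m')
      rw [rs_add, ← hd, ← hd', ← add_smul] at hc
      rw [rs_add, hψ V m i W hV hi d hd, hψ V m' i W hV hi d' hd', ← add_smul,
        (D.isFrame N i).inj hi hc]).symm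
  let φ : D.L N ⟶ M := ⟨PresheafOfModules.homMk
    { app := fun V => AddCommGrpCat.ofHom (AddMonoidHom.mk' (fun m : Γ(D.L N, V.unop) => ψ V.unop m) (hadd V.unop))
      naturality := fun {V V'} f => by
        ext m
        exact hnat V.unop V'.unop f.unop.le m }
    (fun V r m => hsm V.unop r m)⟩
  refine ⟨φ, fun i => ?_⟩
  have := hψ (D.U i) (D.e N i) i (D.U i) le_rfl le_rfl 1 (one_smul _ _)
  rw [one_smul, Groth.L18.Frame.rs_self, Groth.L18.Frame.rs_self] at this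
  exact this

variable [Finite ι] [Coh.IsQCoh M]

/-- A section on a member of the cover is the image of the frame by a morphism from `L N`, `N` large. -/
theorem exists_hom_frame (k : ι) (s : Γ(M, D.U k)) :
    ∃ n₀ : ℕ, ∀ N, n₀ ≤ N → ∃ φ : D.L N ⟶ M, φ.app (D.U k) (D.e N k) = s := by
  classical
  cases nonempty_fintype ι
  have hle : ∀ j, X.basicOpen (D.a k j) ≤ D.U k := fun j => (D.basicOpen_eq k j).trans_le inf_le_right
  choose n t ht using fun j => QCohSect.exists_pow_smul_eq_res (D.isAffine j) M (D.a k j) (rs M (hle j) s)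
  let n₁ := Finset.univ.sup n
  obtain ⟨t₁, ht₁def⟩ : ∃ t₁ : ∀ j, Γ(M, D.U j), ∀ j, t₁ j = D.a k j ^ (n₁ - n j) • t j :=
    ⟨_, fun _ => rfl⟩
  -- on the intersection with `U k`
  have ht₁ : ∀ (j : ι) (W : X.Opens) (hj : W ≤ D.U j) (hk : W ≤ D.U k),
      rs M hj (t₁ j) = ro hj (D.a k j) ^ n₁ • rs M hk s := by
    intro j W hj hk
    have hb : W ≤ X.basicOpen (D.a k j) := (le_inf hj hk).trans (D.basicOpen_eq k j).ge
    have h2 := congrArg (rs M hb) (ht j)
    simp only [rs_smul, rs_rs, ro_ro, ro_pow] at h2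
    simp only [ht₁def, rs_smul, ro_pow]
    rw [h2, ← mul_smul, ← pow_add, Nat.sub_add_cancel (Finset.le_sup (Finset.mem_univ j))]
  -- the differences die on powers
  have hkill : ∀ i j, ∃ m : ℕ, ro (inf_le_left : D.U i ⊓ D.U j ≤ D.U i) (D.a k i) ^ m •
      (rs M inf_le_left (t₁ i) - ro (inf_le_left : D.U i ⊓ D.U j ≤ D.U i) (D.a j i) ^ n₁ •
        rs M inf_le_right (t₁ j)) = 0 := by
    intro i j
    refine QCohSect.exists_pow_smul_eq_zero (D.isAffine_inf i j) M _ _ ?_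
    let W := X.basicOpen (ro (inf_le_left : D.U i ⊓ D.U j ≤ D.U i) (D.a k i))
    have hW : W ≤ D.U i ⊓ D.U j := X.basicOpen_le _
    have hWk : W ≤ D.U k := by
      refine le_trans ?_ (hle i)
      change X.basicOpen (X.presheaf.map _ (D.a k i)) ≤ _
      rw [Scheme.basicOpen_res]
      exact inf_le_right
    rw [rs_sub, rs_rs, rs_smul, rs_rs, ro_pow, ro_ro, ht₁ i W (hW.trans inf_le_left) hWk,
      ht₁ j W (hW.trans inf_le_right) hWk, ← mul_smul, ← mul_pow,
      mul_comm (ro _ (D.a j i)), D.cocycle k j i W (hW.trans inf_le_right) (hW.trans inf_le_left), sub_self]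
  choose m hm using hkill
  refine ⟨n₁ + Finset.univ.sup fun p : ι × ι => m p.1 p.2, fun N hN => ?_⟩
  obtain ⟨p, rfl⟩ : ∃ p, N = n₁ + p := ⟨N - n₁, by omega⟩
  let T : ∀ j, Γ(M, D.U j) := fun j => D.a k j ^ p • t₁ j
  obtain ⟨φ, hφ⟩ := exists_hom D M (n₁ + p) T fun i j W hi hj => by
    have hmp : m i j ≤ p := by
      have := Finset.le_sup (f := fun p : ι × ι => m p.1 p.2) (Finset.mem_univ (i, j))
      simp only at this; omega
    have h0 := congrArg (rs M (le_inf hi hj)) (hm i j)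
    simp only [rs_smul, rs_rs, rs_sub, rs_zero, ro_pow, ro_ro, smul_sub, sub_eq_zero] at h0
    have h1 := congrArg (fun y => ro hi (D.a k i) ^ (p - m i j) • y) h0
    simp only [← mul_smul, ← mul_assoc, ← pow_add, Nat.sub_add_cancel hmp] at h1
    simp only [T, rs_smul, ro_pow]
    rw [h1, ← mul_smul]
    refine congrArg (· • _) ?_
    rw [← D.cocycle k j i W hj hi, mul_pow, pow_add]
    ring
  refine ⟨φ, (hφ k).trans ?_⟩
  have hs := ht₁ k (D.U k) le_rfl le_rfl
  rw [Groth.L18.Frame.rs_self, Groth.L18.Frame.rs_self, Groth.L18.Frame.ro_self, D.a_self, one_pow, one_smul] at hs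
  simp only [T, D.a_self, one_pow, one_smul, hs]

omit [Finite ι] in
/-- Finitely many local sections generate. -/
theorem exists_generators (hM : CohB1.IsFT M) (k : ι) : ∀ x ∈ D.U k, ∃ (W : X.Opens) (r : ℕ)
    (s : Fin r → Γ(M, D.U k)), x ∈ W ∧ W ≤ D.U k ∧ ∃ (σ : (M.restrict W.ι).GeneratingSections),
      ∀ i, ∃ (l : Fin r) (u : Γ(X, W)) (hW : W ≤ D.U k),
        (show Γ(M, W.ι ''ᵁ ⊤) from (σ.s i).eval (op ⊤)) =
          rs M W.ι_image_top.le (u • rs M hW (s l)) := by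
  intro x hx
  obtain ⟨V, σ, hxV, hσ⟩ := Groth.L00.Local.exists_generators_of_isFT M hM x
  obtain ⟨b, hbV, hxb⟩ := (D.isAffine k).exists_basicOpen_le ⟨x, hxV⟩ hx
  obtain ⟨τ, hτ⟩ := Groth.L00.Local.exists_generators_restrict_le M hbV σ
  have : Finite τ.I := hτ ▸ hσ
  obtain ⟨r, ⟨E⟩⟩ := Finite.exists_equiv_fin τ.I
  have hu : IsUnit (ro (X.basicOpen_le b) b) := X.toLocallyRingedSpace.toRingedSpace.isUnit_res_basicOpen b
  choose n t ht using fun i => QCohSect.exists_pow_smul_eq_res (D.isAffine k) M b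
    (rs M (X.basicOpen b).ι_image_top.ge (show Γ(M, (X.basicOpen b).ι ''ᵁ ⊤) from (τ.s i).eval (op ⊤)))
  refine ⟨X.basicOpen b, r, fun l => t (E.symm l), hxb, X.basicOpen_le b, τ, fun i =>
    ⟨E i, ↑(hu.pow (n i)).unit⁻¹, X.basicOpen_le b, ?_⟩⟩
  simp only [Equiv.symm_apply_apply]
  have hinv : (↑(hu.pow (n i)).unit⁻¹ : Γ(X, X.basicOpen b)) * ro (X.basicOpen_le b) (b ^ n i) = 1 := by
    rw [show ro (X.basicOpen_le b) (b ^ n i) = ro (X.basicOpen_le b) b ^ n i from map_pow _ _ _]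
    exact IsUnit.val_inv_mul _
  rw [ht i, ← mul_smul, hinv, one_smul, rs_rs]
  exact (Groth.L18.Frame.rs_self M _ _).symm

/-- Quotient of a sum of copies of `L N` for all large `N`. -/
theorem exists_epi (hM : CohB1.IsFT M) :
    ∃ n₀ : ℕ, ∀ N, n₀ ≤ N → ∃ (k : ℕ) (p : (∐ fun _ : Fin k => D.L N) ⟶ M), Epi p := by
  classical
  cases nonempty_fintype ι
  choose W r s hxW hWU σ hσ using fun (k : ι) (x : X) (hx : x ∈ D.U k) => exists_generators D M hM k x hx
  have hfin : ∀ k, ∃ T : Finset {x : X // x ∈ D.U k},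
      (D.U k : Set X) ⊆ ⋃ x ∈ T, (W k x.1 x.2 : Set X) := fun k =>
    (D.isAffine k).isCompact.elim_finite_subcover (fun x : {x : X // x ∈ D.U k} => (W k x.1 x.2 : Set X))
      (fun x => (W k x.1 x.2).2) (fun x hx => Set.mem_iUnion.2 ⟨⟨x, hx⟩, hxW k x hx⟩)
  choose T hT using hfin
  let I := Σ (k : ι) (x : T k), Fin (r k x.1.1 x.1.2)
  let S : ∀ q : I, Γ(M, D.U q.1) := fun q => s q.1 q.2.1.1.1 q.2.1.1.2 q.2.2
  choose n₀ hn₀ using fun q : I => exists_hom_frame D M q.1 (S q)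
  refine ⟨Finset.univ.sup n₀, fun N hN => ?_⟩
  choose φ hφ using fun q : I => hn₀ q N ((Finset.le_sup (Finset.mem_univ q)).trans hN)
  let E := Fintype.equivFin I
  refine ⟨Fintype.card I, Sigma.desc fun l => φ (E.symm l), ?_⟩
  let J := Σ (k : ι), T k
  have hcov : (⨆ q : J, W q.1 q.2.1.1 q.2.1.2) = ⊤ := by
    refine top_le_iff.1 fun x _ => ?_
    obtain ⟨k, hk⟩ := D.cover x
    obtain ⟨y, hy, hxy⟩ := Set.mem_iUnion₂.1 (hT k hk)
    exact Opens.mem_iSup.2 ⟨⟨k, y, hy⟩, hxy⟩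
  refine Groth.L21.Mod.epi_of_restrict_opens (fun q : J => W q.1 q.2.1.1 q.2.1.2) hcov _ fun q => ?_
  obtain ⟨k, x⟩ := q
  refine epi_of_generators _ (σ k x.1.1 x.1.2) fun i => ?_
  obtain ⟨l, v, hW, hv⟩ := hσ k x.1.1 x.1.2 i
  let q : I := ⟨k, x, l⟩
  let W' := W k x.1.1 x.1.2
  refine ⟨(show Γ(∐ fun _ : Fin (Fintype.card I) => D.L N, W'.ι ''ᵁ ⊤) from rs _ W'.ι_image_top.le
    (v • (Sigma.ι (fun _ : Fin (Fintype.card I) => D.L N) (E q)).app W' (rs (D.L N) hW (D.e N k)))), ?_⟩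
  refine Eq.trans ?_ hv.symm
  show (Sigma.desc fun l => φ (E.symm l)).app _ (rs _ _ _) = _
  rw [app_rs, Scheme.Modules.Hom.app_smul]
  refine congrArg (fun y => rs M _ (v • y)) ?_
  show ((Sigma.ι (fun _ : Fin (Fintype.card I) => D.L N) (E q)) ≫ Sigma.desc fun l => φ (E.symm l)).app W' _ = _
  rw [Sigma.ι_desc, Equiv.symm_apply_apply, app_rs, hφ q]

end Groth.L16.EpiFrames
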