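import Groth.Agent.L00.LocalData
import Groth.Agent.L18.Frame
import Mathlib.AlgebraicGeometry.AffineScheme

/-!
Sections of quasi-coherent modules on the basic opens of an affine open of any scheme.
-/

universe u

open CategoryTheory AlgebraicGeometry TopologicalSpace Opposite

namespace Groth.L16.QCohSect

open Groth.L18.Frame (rs ro rs_rs ro_ro rs_smul)

variable {X : Scheme.{u}} {U : X.Opens} (hU : IsAffineOpen U) (M : X.Modules)

include hU in
lemma image_le (W : (Spec Γ(X, U)).Opens) : hU.fromSpec ''ᵁ W ≤ U :=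
  (Scheme.Hom.image_le_opensRange _ _).trans_eq hU.opensRange_fromSpec

lemma appIso_inv_scalar (W : (Spec Γ(X, U)).Opens) (r : Γ(X, U)) :
    (hU.fromSpec.appIso W).inv ((Spec Γ(X, U)).presheaf.map W.leTop.op ((Scheme.ΓSpecIso Γ(X, U)).inv r)) =
      ro (image_le hU W) r := by
  have key : X.presheaf.map (homOfLE (image_le hU W)).op ≫ (hU.fromSpec.appIso W).hom =
      (Scheme.ΓSpecIso Γ(X, U)).inv ≫ (Spec Γ(X, U)).presheaf.map W.leTop.op := by
    rw [Scheme.Hom.appIso_hom', Scheme.Hom.map_appLE, Scheme.Hom.appLE, hU.fromSpec_app_self,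
      Category.assoc, ← Functor.map_comp]
    rfl
  refine (congrArg (fun φ : Γ(X, U) ⟶ Γ(Spec Γ(X, U), W) => (hU.fromSpec.appIso W).inv (φ r)) key.symm).trans ?_
  exact Iso.hom_inv_id_apply (hU.fromSpec.appIso W) _

variable [Coh.IsQCoh M]

include hU in
/-- Sections over `D(a)` extend after multiplication by a power of `a`. -/
theorem exists_pow_smul_eq_res (a : Γ(X, U)) (s : Γ(M, X.basicOpen a)) :
    ∃ (n : ℕ) (t : Γ(M, U)), rs M (X.basicOpen_le a) t = ro (X.basicOpen_le a) (a ^ n) • s := by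
  let N : (Spec Γ(X, U)).Modules := M.restrict hU.fromSpec
  haveI : N.IsQuasicoherent := Scheme.Modules.isQuasicoherent_restrictFunctor hU.fromSpec M
  have hloc := (isIso_fromTildeΓ_iff_isLocalizing N).1 inferInstance a
  have e1 : hU.fromSpec ''ᵁ PrimeSpectrum.basicOpen a = X.basicOpen a := hU.fromSpec_image_basicOpen a
  have e2 : hU.fromSpec ''ᵁ ⊤ = U := by
    rw [Scheme.Hom.image_top_eq_opensRange, hU.opensRange_fromSpec]
  let D : (Spec Γ(X, U)).Opens := PrimeSpectrum.basicOpen a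
  obtain ⟨⟨t, ⟨_, n, rfl⟩⟩, ht⟩ := IsLocalizedModule.surj (Submonoid.powers a)
    ((modulesSpecToSheaf.obj N).obj.map D.leTop.op).hom (show Γ(N, D) from rs M e1.le s)
  refine ⟨n, rs M e2.ge (show Γ(M, hU.fromSpec ''ᵁ ⊤) from t), ?_⟩
  have ht' : rs M (hU.fromSpec.image_mono (le_top : D ≤ ⊤)) (show Γ(M, hU.fromSpec ''ᵁ ⊤) from t) =
      ro (image_le hU D) (a ^ n) • rs M e1.le s := by
    rw [← appIso_inv_scalar hU D (a ^ n)]
    exact ht.symm
  have h2 := congrArg (rs M e1.ge) ht'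
  simp only [rs_rs, rs_smul, ro_ro] at h2 ⊢
  rw [Groth.L18.Frame.rs_self] at h2
  exact h2

include hU in
/-- A section vanishing on `D(a)` is killed by a power of `a`. -/
theorem exists_pow_smul_eq_zero (a : Γ(X, U)) (t : Γ(M, U)) (h : rs M (X.basicOpen_le a) t = 0) :
    ∃ n : ℕ, a ^ n • t = 0 := by
  let N : (Spec Γ(X, U)).Modules := M.restrict hU.fromSpec
  haveI : N.IsQuasicoherent := Scheme.Modules.isQuasicoherent_restrictFunctor hU.fromSpec M
  have hloc := (isIso_fromTildeΓ_iff_isLocalizing N).1 inferInstance a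
  have e1 : hU.fromSpec ''ᵁ PrimeSpectrum.basicOpen a = X.basicOpen a := hU.fromSpec_image_basicOpen a
  have e2 : hU.fromSpec ''ᵁ ⊤ = U := by
    rw [Scheme.Hom.image_top_eq_opensRange, hU.opensRange_fromSpec]
  let D : (Spec Γ(X, U)).Opens := PrimeSpectrum.basicOpen a
  let t' : Γ(N, ⊤) := rs M e2.le t
  obtain ⟨⟨_, n, rfl⟩, hn⟩ := (IsLocalizedModule.eq_zero_iff (Submonoid.powers a)
    ((modulesSpecToSheaf.obj N).obj.map D.leTop.op).hom (m := t')).1 (by
      show rs M (hU.fromSpec.image_mono (le_top : D ≤ ⊤)) (rs M e2.le t) = 0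
      rw [rs_rs, show rs M ((hU.fromSpec.image_mono (le_top : D ≤ ⊤)).trans e2.le) t =
        rs M e1.le (rs M (X.basicOpen_le a) t) from (rs_rs M _ _ t).symm, h]
      exact map_zero _)
  refine ⟨n, ?_⟩
  have hn' : ro (image_le hU ⊤) (a ^ n) • rs M e2.le t = 0 := by
    rw [← appIso_inv_scalar hU ⊤ (a ^ n)]
    exact hn
  have h2 := congrArg (rs M e2.ge) hn'
  simp only [rs_rs, rs_smul, ro_ro] at h2
  rw [Groth.L18.Frame.rs_self, Groth.L18.Frame.ro_self] at h2
  exact h2.trans (map_zero _)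

end Groth.L16.QCohSect
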