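import Groth.Agent.L16.CohSupport
import Mathlib.CategoryTheory.Subobject.Basic

/-!
# Ascending chain condition for quasi-coherent submodules
-/

set_option autoImplicit false
set_option linter.style.haveILetI false

universe u

open CategoryTheory CategoryTheory.Limits AlgebraicGeometry TopologicalSpace Opposite

noncomputable section

namespace Groth.L16.Acc

variable {X : Scheme.{u}}

/-- The image of the sections. -/
def secImage {M P : X.Modules} (a : P ⟶ M) (U : X.Opens) : Submodule Γ(X, U) Γ(M, U) where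
  carrier := Set.range (a.app U)
  zero_mem' := ⟨0, map_zero _⟩
  add_mem' := by rintro _ _ ⟨p, rfl⟩ ⟨q, rfl⟩; exact ⟨p + q, map_add _ _ _⟩
  smul_mem' := by rintro r _ ⟨p, rfl⟩; exact ⟨r • p, a.app_smul _ p⟩

/-- Surjectivity on the sections over an affine open gives surjectivity on stalks. -/
theorem stalk_surjective {P Q : X.Modules} [Coh.IsQCoh P] [Coh.IsQCoh Q] (φ : P ⟶ Q) {U : X.Opens}
    (hU : IsAffineOpen U) (h : Function.Surjective (φ.app U)) {x : X} (hx : x ∈ U) :
    Function.Surjective ((Groth.L00.Stk.F X x).map φ) := by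
  intro q
  letI := Groth.L20.ModStalk.stalkModule Q hx
  haveI := Groth.L20.ModStalk.isLocalizedModule_germ Q hU hx
  obtain ⟨⟨m, s⟩, hs⟩ := IsLocalizedModule.surj (hU.primeIdealOf ⟨x, hx⟩).asIdeal.primeCompl
    (Groth.L20.ModStalk.germₗ Q hx) q
  obtain ⟨p, rfl⟩ := h m
  letI := X.presheaf.algebra_section_stalk ⟨x, hx⟩
  haveI := hU.isLocalization_stalk ⟨x, hx⟩
  have hu : IsUnit (X.presheaf.germ U x hx (s : Γ(X, U))) :=
    IsLocalization.map_units (X.presheaf.stalk x) s
  obtain ⟨w, hw⟩ := hu.exists_left_inv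
  refine ⟨w • (show (Groth.L00.Stk.F X x).obj P from P.presheaf.germ U x hx p), ?_⟩
  refine (map_smul ((Groth.L00.Stk.F X x).map φ).hom w _).trans ?_
  have h1 : ((Groth.L00.Stk.F X x).map φ).hom (P.presheaf.germ U x hx p) = Q.presheaf.germ U x hx (φ.app U p) :=
    DerSch.stalkFunctor_map_germ x φ U hx p
  rw [h1]
  have h2 : Q.presheaf.germ U x hx (φ.app U p) = X.presheaf.germ U x hx (s : Γ(X, U)) • q := hs.symm
  rw [h2, smul_smul, hw, one_smul]

/-- Monomorphisms are injective on sections. -/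
theorem app_injective {P Q : X.Modules} (φ : P ⟶ Q) [Mono φ] (U : X.Opens) : Function.Injective (φ.app U) := by
  intro a b h
  refine TopCat.Presheaf.section_ext (⟨P.presheaf, P.isSheaf⟩ : TopCat.Sheaf Ab X.toTopCat) U a b fun x hx => ?_
  apply (ModuleCat.mono_iff_injective ((Groth.L00.Stk.F X x).map φ)).1 inferInstance
  exact (DerSch.stalkFunctor_map_germ x φ U hx a).trans ((congrArg (Q.presheaf.germ U x hx) h).trans
    (DerSch.stalkFunctor_map_germ x φ U hx b).symm)

/-- Increasing chains of quasi-coherent submodules of a coherent module are stationary. -/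
theorem exists_stable [AlgebraicGeometry.IsNoetherian X] (M : X.Modules) (hM : Coh.IsCoh M)
    (F : ℕ →o Subobject M) (hF : ∀ n, Coh.IsQCoh ((F n : Subobject M) : X.Modules)) :
    ∃ n : ℕ, ∀ m : ℕ, n ≤ m → F m = F n := by
  classical
  obtain ⟨s, hcov⟩ := isCompact_univ.elim_finite_subcover (fun V : X.affineOpens => ((V.1 : X.Opens) : Set X))
    (fun V => V.1.2) (fun x _ => by
      obtain ⟨_, ⟨V, hV, rfl⟩, hxV, -⟩ :=
        X.isBasis_affineOpens.exists_subset_of_mem_open (Set.mem_univ x) isOpen_univ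
      exact Set.mem_iUnion.2 ⟨⟨V, hV⟩, hxV⟩)
  have hmono : ∀ (V : X.affineOpens) {n m : ℕ}, n ≤ m →
      secImage (F n).arrow V.1 ≤ secImage (F m).arrow V.1 := by
    rintro V n m h _ ⟨p, rfl⟩
    refine ⟨((F n).ofLE (F m) (F.mono h)).app V.1 p, ?_⟩
    conv_rhs => rw [← Subobject.ofLE_arrow (F.mono h)]
    rfl
  have hst : ∀ V : X.affineOpens, ∃ N, ∀ m, N ≤ m → secImage (F N).arrow V.1 = secImage (F m).arrow V.1 := by
    intro V
    haveI : IsNoetherianRing Γ(X, V.1) := IsLocallyNoetherian.component_noetherian V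
    haveI := Groth.L20.ModStalk.finite_sections M hM V.2
    exact monotone_stabilizes_iff_noetherian.2 inferInstance ⟨fun n => secImage (F n).arrow V.1, fun _ _ h => hmono V h⟩
  choose N hN using hst
  refine ⟨s.sup N, fun m hm => ?_⟩
  have hle : F (s.sup N) ≤ F m := F.mono hm
  let φ := (F (s.sup N)).ofLE (F m) hle
  haveI := hF m
  haveI := hF (s.sup N)
  have hφ : φ ≫ (F m).arrow = (F (s.sup N)).arrow := Subobject.ofLE_arrow hle
  haveI : IsIso φ := by
    rw [Groth.L21.Mod.isIso_iff_stalk_bijective]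
    intro x
    obtain ⟨V, hV, hxV⟩ := Set.mem_iUnion₂.1 (hcov (Set.mem_univ x))
    refine ⟨fun a b hab => ?_, ?_⟩
    · haveI : Mono ((Groth.L00.Stk.F X x).map φ) := inferInstance
      exact (ModuleCat.mono_iff_injective ((Groth.L00.Stk.F X x).map φ)).1 inferInstance hab
    · intro q
      obtain ⟨p, hp⟩ := stalk_surjective φ V.2 (fun t => by
        have hV' := Finset.le_sup (f := N) hV
        have hmem : (F m).arrow.app V.1 t ∈ secImage (F (s.sup N)).arrow V.1 := by
          rw [← hN V _ hV', hN V m (hV'.trans hm)]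
          exact ⟨t, rfl⟩
        obtain ⟨p, hp⟩ := hmem
        refine ⟨p, ?_⟩
        rw [← hφ] at hp
        exact app_injective (F m).arrow V.1 hp) hxV q
      exact ⟨p, hp⟩
  refine le_antisymm ?_ hle
  exact Subobject.le_of_comm (inv φ) (by rw [IsIso.inv_comp_eq]; exact hφ.symm)

end Groth.L16.Acc
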