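import Groth.Agent.L16.EpiFrames
import Groth.Agent.L18.TildeFunctor
import Groth.Prelude.Def_Coh
import Mathlib.RingTheory.Noetherian.Basic

/-!
Coherent modules on locally Noetherian schemes: finite sections on affine charts, kernels and cokernels.
-/

universe u

open CategoryTheory CategoryTheory.Limits AlgebraicGeometry TopologicalSpace Opposite

namespace Groth.L16.CohKernel

open Groth.L18.Frame (rs ro rs_rs rs_smul)

variable {X : Scheme.{u}}

/-- Generators pull back along open immersions over the scheme. -/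
theorem exists_generators_of_comp {Y Z : Scheme.{u}} (g : Y ⟶ Z) (h : Z ⟶ X) (k : Y ⟶ X) [IsOpenImmersion g]
    [IsOpenImmersion h] [IsOpenImmersion k] (e : g ≫ h = k) (M : X.Modules)
    (σ : (M.restrict h).GeneratingSections) : ∃ τ : (M.restrict k).GeneratingSections, τ.I = σ.I := by
  subst e
  let F : SheafOfModules.{u} Z.ringCatSheaf ⥤ SheafOfModules.{u} Y.ringCatSheaf :=
    Scheme.Modules.restrictFunctor g
  haveI : PreservesColimitsOfSize.{u, u} F :=
    (Scheme.Modules.restrictAdjunction g).leftAdjoint_preservesColimits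
  exact ⟨(σ.map F (Scheme.Modules.restrictUnitIso g).symm).ofEpi (restrictCompIso g h M).hom, rfl⟩

/-- Restriction along an open immersion preserves finite type. -/
theorem isFT_restrict {Y : Scheme.{u}} (j : Y ⟶ X) [IsOpenImmersion j] (M : X.Modules) (hM : CohB1.IsFT M) :
    CohB1.IsFT (M.restrict j) := by
  refine Groth.L00.Local.isFT_of_generators _ fun y => ?_
  obtain ⟨V, σ, hV, hσ⟩ := Groth.L00.Local.exists_generators_of_isFT M hM (j y)
  let W := j ⁻¹ᵁ V
  let g : W.toScheme ⟶ V.toScheme := IsOpenImmersion.lift V.ι (W.ι ≫ j) (by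
    rw [Scheme.Opens.range_ι]
    rintro _ ⟨w, rfl⟩
    exact w.2)
  haveI : IsOpenImmersion (g ≫ V.ι) := by rw [IsOpenImmersion.lift_fac]; infer_instance
  haveI : IsOpenImmersion g := IsOpenImmersion.of_comp g V.ι
  obtain ⟨τ, hτ⟩ := exists_generators_of_comp g V.ι (W.ι ≫ j) (IsOpenImmersion.lift_fac _ _ _) M σ
  exact ⟨W, τ.ofEpi (restrictCompIso W.ι j M).inv, hV, hτ ▸ hσ⟩

/-- A qcoh module of finite type on an affine scheme is generated by finitely many global sections. -/
theorem exists_finite_generators [IsAffine X] (M : X.Modules) [Coh.IsQCoh M] (hM : CohB1.IsFT M) :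
    ∃ σ : M.GeneratingSections, Finite σ.I := by
  classical
  have hU : IsAffineOpen (⊤ : X.Opens) := isAffineOpen_top X
  have loc : ∀ x : X, ∃ (b : Γ(X, ⊤)) (σ : (M.restrict (X.basicOpen b).ι).GeneratingSections),
      x ∈ X.basicOpen b ∧ Finite σ.I := by
    intro x
    obtain ⟨V, σ, hxV, hσ⟩ := Groth.L00.Local.exists_generators_of_isFT M hM x
    obtain ⟨b, hbV, hxb⟩ := hU.exists_basicOpen_le ⟨x, hxV⟩ trivial
    obtain ⟨τ, hτ⟩ := Groth.L00.Local.exists_generators_restrict_le M hbV σ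
    exact ⟨b, τ, hxb, hτ ▸ hσ⟩
  choose b σ hxb hσ using loc
  obtain ⟨T, hT⟩ := hU.isCompact.elim_finite_subcover (fun x : X => (X.basicOpen (b x) : Set X))
    (fun x => (X.basicOpen (b x)).2) (fun x _ => Set.mem_iUnion.2 ⟨x, hxb x⟩)
  haveI : ∀ x, Finite (σ x).I := hσ
  let I := Σ x : ULift.{u} T, (σ x.down.1).I
  let w : ∀ q : I, Γ(M, (X.basicOpen (b q.1.down.1)).ι ''ᵁ ⊤) := fun q =>
    ((σ q.1.down.1).s q.2).eval (op ⊤)
  choose n t ht using fun q : I => QCohSect.exists_pow_smul_eq_res hU M (b q.1.down.1)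
    (rs M (X.basicOpen (b q.1.down.1)).ι_image_top.ge (w q))
  let z : I → M.sections := fun q => M.unitHomEquiv (homOfSection M (t q))
  let ψ : SheafOfModules.free I ⟶ M := M.freeHomEquiv.symm z
  have hz : ∀ q, (z q).eval (op ⊤) = t q := fun q =>
    (homOfSection_app M (t q) ⊤ 1).trans ((one_smul _ _).trans (Groth.L18.Frame.rs_self M _ _))
  have hψ : ∀ q, ∃ y, (Scheme.Modules.Hom.app ψ ⊤) y = t q := fun q =>
    ⟨(SheafOfModules.freeSection q).eval (op ⊤),
      (congrArg (fun s : M.sections => s.eval (op ⊤))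
        ((SheafOfModules.freeHomEquiv_apply ψ q).symm.trans
          (congrFun (Equiv.apply_symm_apply M.freeHomEquiv z) q))).trans (hz q)⟩
  haveI : Epi ψ := by
    have hcov : (⨆ x : T, X.basicOpen (b x.1)) = ⊤ := by
      refine top_le_iff.1 fun y _ => ?_
      obtain ⟨x, hx, hyx⟩ := Set.mem_iUnion₂.1 (hT (Set.mem_univ y))
      exact Opens.mem_iSup.2 ⟨⟨x, hx⟩, hyx⟩
    refine Groth.L21.Mod.epi_of_restrict_opens (fun x : T => X.basicOpen (b x.1)) hcov _ fun x => ?_
    refine EpiFrames.epi_of_generators _ (σ x.1) fun i => ?_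
    let q : I := ⟨ULift.up x, i⟩
    let W := X.basicOpen (b x.1)
    have hu : IsUnit (ro (X.basicOpen_le (b x.1)) (b x.1)) :=
      X.toLocallyRingedSpace.toRingedSpace.isUnit_res_basicOpen (b x.1)
    obtain ⟨y, hy⟩ := hψ q
    refine ⟨(show Γ(SheafOfModules.free I, W.ι ''ᵁ ⊤) from rs _ W.ι_image_top.le
      ((↑(hu.pow (n q)).unit⁻¹ : Γ(X, W)) • rs _ (le_top : W ≤ ⊤) y)), ?_⟩
    show (Scheme.Modules.Hom.app ψ (W.ι ''ᵁ ⊤)) (rs _ _ _) = w q
    rw [EpiFrames.app_rs, Scheme.Modules.Hom.app_smul, EpiFrames.app_rs, hy,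
      show rs M (le_top : W ≤ ⊤) (t q) = _ from ht q, ← mul_smul,
      show (↑(hu.pow (n q)).unit⁻¹ : Γ(X, W)) * ro (X.basicOpen_le (b x.1)) (b x.1 ^ n q) = 1 by
        rw [EpiFrames.ro_pow]; exact IsUnit.val_inv_mul _, one_smul, rs_rs, Groth.L18.Frame.rs_self]
  exact ⟨⟨I, z, this⟩, inferInstanceAs (Finite I)⟩

variable {R : CommRingCat.{u}}

/-- A tilde generated by finitely many global sections comes from a finite module. -/
theorem finite_of_generators (N : ModuleCat.{u} R) (σ : (tilde N).GeneratingSections) [Finite σ.I] :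
    Module.Finite R N := by
  let g : tilde (ModuleCat.of R (σ.I →₀ R)) ⟶ tilde N := (tildeFinsupp σ.I).hom ≫ σ.π
  haveI : Epi g := @epi_comp _ _ _ _ _ (tildeFinsupp σ.I).hom inferInstance σ.π σ.epi
  obtain ⟨l, hl⟩ := (tilde.functor R).map_surjective g
  haveI : Epi ((tilde.functor R).map l) := hl.symm ▸ ‹Epi g›
  exact Module.Finite.of_surjective l.hom
    ((ModuleCat.epi_iff_surjective _).1 ((tilde.functor R).epi_of_epi_map ‹_›))

/-- A finite module gives finitely many generators. -/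
theorem exists_generators_tilde (N : ModuleCat.{u} R) [Module.Finite R N] :
    ∃ σ : (tilde N).GeneratingSections, Finite σ.I := by
  obtain ⟨s, hs⟩ := Module.Finite.fg_top (R := R) (M := N)
  refine ⟨(presentationTilde N (s : Set N) hs _ (Submodule.span_eq _)).generators, ?_⟩
  exact inferInstanceAs (Finite (s : Set N))

/-- The module of a coherent sheaf on a chart is finite. -/
theorem finite_of_tilde_iso (M : X.Modules) (hM : CohB1.IsFT M) (j : Spec R ⟶ X) [IsOpenImmersion j]
    (N : ModuleCat.{u} R) (e : M.restrict j ≅ tilde N) [Coh.IsQCoh M] : Module.Finite R N := by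
  haveI : Coh.IsQCoh (M.restrict j) := Scheme.Modules.isQuasicoherent_restrictFunctor j M
  obtain ⟨σ, hσ⟩ := exists_finite_generators (M.restrict j) (isFT_restrict j M hM)
  haveI : Finite (σ.ofEpi e.hom).I := hσ
  exact finite_of_generators N (σ.ofEpi e.hom)

/-- Finite modules on charts give coherence. -/
theorem isCoh_of_tilde_charts (M : X.Modules)
    (h : ∀ x : X, ∃ (R : CommRingCat.{u}) (j : Spec R ⟶ X) (_ : IsOpenImmersion j) (N : ModuleCat.{u} R),
      x ∈ j.opensRange ∧ Module.Finite R N ∧ Nonempty (M.restrict j ≅ tilde N)) : Coh.IsCoh M := by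
  refine ⟨Groth.L00.Local.isQCoh_of_tilde_charts M fun x => ?_, Groth.L00.Local.isFT_of_generators M fun x => ?_⟩
  · obtain ⟨R, j, hj, N, hx, -, he⟩ := h x
    exact ⟨R, j, hj, N, hx, he⟩
  · obtain ⟨R, j, hj, N, hx, hN, ⟨e⟩⟩ := h x
    obtain ⟨σ, hσ⟩ := exists_generators_tilde N
    obtain ⟨τ, hτ⟩ := exists_generators_of_comp j.isoOpensRange.inv j j.opensRange.ι
      (j.isoOpensRange_inv_comp) M (σ.ofEpi e.inv)
    exact ⟨j.opensRange, τ, hx, hτ ▸ hσ⟩

/-- Kernels and cokernels of maps of coherent modules are coherent. -/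
theorem isCoh_kernel_cokernel [IsLocallyNoetherian X] {F G : X.Modules} (hF : Coh.IsCoh F)
    (hG : Coh.IsCoh G) (φ : F ⟶ G) : Coh.IsCoh (kernel φ) ∧ Coh.IsCoh (cokernel φ) := by
  haveI : Coh.IsQCoh F := hF.1
  haveI : Coh.IsQCoh G := hG.1
  have key : ∀ x : X, ∃ (R : CommRingCat.{u}) (j : Spec R ⟶ X) (_ : IsOpenImmersion j)
      (K C : ModuleCat.{u} R), x ∈ j.opensRange ∧ Module.Finite R K ∧ Module.Finite R C ∧
        Nonempty ((kernel φ).restrict j ≅ tilde K) ∧ Nonempty ((cokernel φ).restrict j ≅ tilde C) := by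
    intro x
    obtain ⟨_, ⟨U, hU, rfl⟩, hxU, -⟩ :=
      X.isBasis_affineOpens.exists_subset_of_mem_open (Set.mem_univ x) isOpen_univ
    haveI : IsNoetherianRing Γ(X, U) := IsLocallyNoetherian.component_noetherian ⟨U, hU⟩
    let j := hU.fromSpec
    obtain ⟨NF, ⟨eF⟩⟩ := Groth.L00.Local.exists_tilde_iso_restrict j F
    obtain ⟨NG, ⟨eG⟩⟩ := Groth.L00.Local.exists_tilde_iso_restrict j G
    haveI := finite_of_tilde_iso F hF.2 j NF eF
    haveI := finite_of_tilde_iso G hG.2 j NG eG
    obtain ⟨l, hl⟩ := (tilde.functor Γ(X, U)).map_surjective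
      (eF.inv ≫ (Scheme.Modules.restrictFunctor j).map φ ≫ eG.hom)
    refine ⟨_, j, inferInstance, kernel l, cokernel l, hU.opensRange_fromSpec.ge hxU, ?_, ?_, ⟨?_⟩, ⟨?_⟩⟩
    · exact Module.Finite.of_injective (kernel.ι l).hom ((ModuleCat.mono_iff_injective _).1 inferInstance)
    · exact Module.Finite.of_surjective (cokernel.π l).hom ((ModuleCat.epi_iff_surjective _).1 inferInstance)
    · exact PreservesKernel.iso (Scheme.Modules.restrictFunctor j) φ ≪≫
        kernel.mapIso _ ((tilde.functor _).map l) eF eG (by rw [hl]; simp) ≪≫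
        (PreservesKernel.iso (tilde.functor _) l).symm
    · exact PreservesCokernel.iso (Scheme.Modules.restrictFunctor j) φ ≪≫
        cokernel.mapIso _ ((tilde.functor _).map l) eF eG (by rw [hl]; simp) ≪≫
        (PreservesCokernel.iso (tilde.functor _) l).symm
  refine ⟨isCoh_of_tilde_charts _ fun x => ?_, isCoh_of_tilde_charts _ fun x => ?_⟩
  · obtain ⟨R, j, hj, K, C, hx, hK, -, hek, -⟩ := key x
    exact ⟨R, j, hj, K, hx, hK, hek⟩
  · obtain ⟨R, j, hj, K, C, hx, -, hC, -, hec⟩ := key x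
    exact ⟨R, j, hj, C, hx, hC, hec⟩

end Groth.L16.CohKernel
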