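import Groth.Agent.L16.CohClosedPush
import Mathlib.Topology.NoetherianSpace
import Mathlib.CategoryTheory.Abelian.Basic
import Mathlib.Algebra.Category.ModuleCat.Biproducts
import Mathlib.RingTheory.SimpleModule.Basic

/-!
Dévissage for coherent modules on Noetherian schemes.
-/

universe u

open CategoryTheory CategoryTheory.Limits AlgebraicGeometry TopologicalSpace Opposite

namespace Groth.L16.Devissage

open Groth.L16.CohSupport

variable {X : Scheme.{u}}

/-- `M` has a filtration-step: kernel and image of a morphism. -/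
theorem shortExact_kernel_image {A B : X.Modules} (a : A ⟶ B) :
    (ShortComplex.mk (kernel.ι a) (Abelian.factorThruImage a)
      (zero_of_comp_mono (Abelian.image.ι a) (by
        rw [Category.assoc, Abelian.image.fac, kernel.condition]))).ShortExact := by
  have hm : (ShortComplex.mk (kernel.ι a) (Abelian.factorThruImage a)
      (zero_of_comp_mono (Abelian.image.ι a) (by
        rw [Category.assoc, Abelian.image.fac, kernel.condition]))).Exact := by
    let T₁ := ShortComplex.mk (kernel.ι a) (Abelian.factorThruImage a)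
      (zero_of_comp_mono (Abelian.image.ι a) (by
        rw [Category.assoc, Abelian.image.fac, kernel.condition]))
    let φ : T₁ ⟶ ShortComplex.mk (kernel.ι a) a (kernel.condition a) :=
      ShortComplex.homMk (𝟙 _) (𝟙 _) (Abelian.image.ι a)
        ((Category.id_comp _).trans (Category.comp_id _).symm)
        ((Category.id_comp _).trans (Abelian.image.fac a).symm)
    haveI : Epi φ.τ₁ := inferInstanceAs (Epi (𝟙 _))
    haveI : IsIso φ.τ₂ := inferInstanceAs (IsIso (𝟙 _))
    haveI : Mono φ.τ₃ := inferInstanceAs (Mono (Abelian.image.ι a))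
    exact (ShortComplex.exact_iff_of_epi_of_isIso_of_mono φ).2 (ShortComplex.exact_kernel a)
  exact { exact := hm }

theorem shortExact_image_cokernel {A B : X.Modules} (a : A ⟶ B) :
    (ShortComplex.mk (Abelian.image.ι a) (cokernel.π a) (kernel.condition _)).ShortExact :=
  { exact := ShortComplex.exact_of_f_is_kernel _ (kernelIsKernel (cokernel.π a)) }

theorem len_of_mono {A B : X.Modules} (a : A ⟶ B) [Mono a] (x : X) : len x A ≤ len x B := by
  have hS : (ShortComplex.mk a (cokernel.π a) (cokernel.condition _)).ShortExact :=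
    { exact := ShortComplex.exact_cokernel a }
  rw [len_add hS x]
  exact le_self_add

theorem support_union {S : ShortComplex X.Modules} (hS : S.ShortExact) :
    CohB1.support S.X₁ ⊆ CohB1.support S.X₂ ∧ CohB1.support S.X₃ ⊆ CohB1.support S.X₂ := by
  rw [Groth.L21.Mod.support_of_shortExact hS]
  exact ⟨Set.subset_union_left, Set.subset_union_right⟩

/-- The image is nonzero at a point where the stalk map is nonzero. -/
theorem len_image_pos {A B : X.Modules} (a : A ⟶ B) (x : X)
    (h : ∃ v, (Groth.L00.Stk.F X x).map a v ≠ 0) : 1 ≤ len x (Abelian.image a) := by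
  rw [ENat.one_le_iff_ne_zero]
  intro h0
  obtain ⟨v, hv⟩ := h
  refine hv ?_
  have hs : Subsingleton ((Abelian.image a).presheaf.stalk x) := Module.length_eq_zero_iff.1 h0
  rw [← Abelian.image.fac a, Functor.map_comp, ModuleCat.comp_apply]
  rw [show (Groth.L00.Stk.F X x).map (Abelian.factorThruImage a) v = 0 from
    @Subsingleton.elim _ hs _ _]
  exact map_zero _

theorem isQCoh_cokernel {F G : X.Modules} [Coh.IsQCoh F] [Coh.IsQCoh G] (φ : F ⟶ G) :
    Coh.IsQCoh (cokernel φ) := by
  refine Groth.L00.Local.isQCoh_of_tilde_charts _ fun x => ?_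
  obtain ⟨_, ⟨U, hU, rfl⟩, hxU, -⟩ :=
    X.isBasis_affineOpens.exists_subset_of_mem_open (Set.mem_univ x) isOpen_univ
  let j := hU.fromSpec
  obtain ⟨NF, ⟨eF⟩⟩ := Groth.L00.Local.exists_tilde_iso_restrict j F
  obtain ⟨NG, ⟨eG⟩⟩ := Groth.L00.Local.exists_tilde_iso_restrict j G
  obtain ⟨l, hl⟩ := (tilde.functor Γ(X, U)).map_surjective
    (eF.inv ≫ (Scheme.Modules.restrictFunctor j).map φ ≫ eG.hom)
  exact ⟨_, j, inferInstance, cokernel l, hU.opensRange_fromSpec.ge hxU,
    ⟨PreservesCokernel.iso (Scheme.Modules.restrictFunctor j) φ ≪≫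
      cokernel.mapIso _ ((tilde.functor _).map l) eF eG (by rw [hl]; simp) ≪≫
      (PreservesCokernel.iso (tilde.functor _) l).symm⟩⟩

theorem isCoh_kernel_of_cokernel {O Q M' : X.Modules} [IsLocallyNoetherian X] (hO : Coh.IsCoh O)
    (ψ : O ⟶ Q) [Coh.IsQCoh Q] (m : M' ⟶ Q) [Mono m] (hM' : Coh.IsCoh M') :
    Coh.IsCoh (kernel (ψ ≫ cokernel.π m)) := by
  haveI : Coh.IsQCoh (cokernel m) := by
    haveI : Coh.IsQCoh M' := hM'.1
    exact Groth.L16.Devissage.isQCoh_cokernel m
  exact isCoh_kernel hO _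

theorem surjective_of_simple (y : X) {O Q : X.Modules} (ψ : O ⟶ Q)
    (hinj : Function.Injective ((Groth.L00.Stk.F X y).map ψ)) (hO : len y O = 1) (hQ : len y Q = 1) :
    Function.Surjective ((Groth.L00.Stk.F X y).map ψ) := by
  haveI : IsSimpleModule (X.presheaf.stalk y) ((Groth.L00.Stk.F X y).obj O) := Module.length_eq_one_iff.1 hO
  haveI : IsSimpleModule (X.presheaf.stalk y) ((Groth.L00.Stk.F X y).obj Q) := Module.length_eq_one_iff.1 hQ
  refine (LinearMap.surjective_or_eq_zero ((Groth.L00.Stk.F X y).map ψ).hom).resolve_right fun h => ?_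
  haveI : Nontrivial ((Groth.L00.Stk.F X y).obj O) :=
    IsSimpleModule.nontrivial (X.presheaf.stalk y) ((Groth.L00.Stk.F X y).obj O)
  obtain ⟨a, ha⟩ := exists_ne (0 : (Groth.L00.Stk.F X y).obj O)
  exact ha (hinj ((congr($h a)).trans (map_zero _).symm))

theorem isCoh_biprod [IsLocallyNoetherian X] {M G : X.Modules} (hM : Coh.IsCoh M) (hG : Coh.IsCoh G) :
    Coh.IsCoh (M ⊞ G) := by
  haveI : Coh.IsQCoh M := hM.1
  haveI : Coh.IsQCoh G := hG.1
  refine CohKernel.isCoh_of_tilde_charts _ fun x => ?_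
  obtain ⟨_, ⟨U, hU, rfl⟩, hxU, -⟩ :=
    X.isBasis_affineOpens.exists_subset_of_mem_open (Set.mem_univ x) isOpen_univ
  let j := hU.fromSpec
  obtain ⟨NF, ⟨eF⟩⟩ := Groth.L00.Local.exists_tilde_iso_restrict j M
  obtain ⟨NG, ⟨eG⟩⟩ := Groth.L00.Local.exists_tilde_iso_restrict j G
  haveI := CohKernel.finite_of_tilde_iso M hM.2 j NF eF
  haveI := CohKernel.finite_of_tilde_iso G hG.2 j NG eG
  haveI : PreservesBinaryBiproducts (Scheme.Modules.restrictFunctor j) :=
    preservesBinaryBiproducts_of_preservesBinaryProducts _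
  haveI : PreservesBinaryBiproducts (tilde.functor Γ(X, U)) :=
    preservesBinaryBiproducts_of_preservesBinaryCoproducts _
  refine ⟨_, j, inferInstance, NF ⊞ NG, hU.opensRange_fromSpec.ge hxU, ?_, ⟨?_⟩⟩
  · exact Module.Finite.equiv (ModuleCat.biprodIsoProd NF NG).toLinearEquiv.symm
  · exact (Scheme.Modules.restrictFunctor j).mapBiprod M G ≪≫ biprod.mapIso eF eG ≪≫
      ((tilde.functor Γ(X, U)).mapBiprod NF NG).symm

/-- Every nonempty closed subset of a Noetherian scheme has a point with no other generisation in it. -/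
theorem exists_maximal_point [NoetherianSpace X] {T : Set X} (hT : IsClosed T) (hne : T.Nonempty) :
    ∃ y ∈ T, ∀ z ∈ T, z ⤳ y → z = y := by
  obtain ⟨S, hSfin, hSc, hSi, hTS⟩ := NoetherianSpace.exists_finite_set_isClosed_irreducible hT
  have hSne : S.Nonempty := by
    obtain ⟨x, hx⟩ := hne
    rw [hTS] at hx
    obtain ⟨Z, hZ, -⟩ := hx
    exact ⟨Z, hZ⟩
  obtain ⟨Z, hZ, hmax⟩ := hSfin.exists_maximalFor id S hSne
  obtain ⟨y, hy⟩ := QuasiSober.sober (hSi Z hZ) (hSc Z hZ)
  refine ⟨y, hTS ▸ Set.mem_sUnion.2 ⟨Z, hZ, hy.mem⟩, fun z hz hzy => ?_⟩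
  rw [hTS] at hz
  obtain ⟨Z', hZ', hzZ'⟩ := hz
  have h1 : Z ⊆ Z' := by
    rw [← hy.def]
    exact (specializes_iff_closure_subset.1 hzy).trans (closure_minimal (Set.singleton_subset_iff.2 hzZ')
      (hSc Z' hZ'))
  have h2 : Z' ⊆ Z := hmax hZ' h1
  exact ((hy.specializes (h2 hzZ')).antisymm hzy).eq.symm

variable [IsNoetherian X] (P : X.Modules → Prop)

/-- The two-out-of-three property for coherent modules supported in `T`. -/
def TwoOutOfThree (T : Set X) : Prop :=
  ∀ S : ShortComplex X.Modules, S.ShortExact → Coh.IsCoh S.X₁ → Coh.IsCoh S.X₂ → Coh.IsCoh S.X₃ →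
    CohB1.support S.X₂ ⊆ T →
    (P S.X₁ → P S.X₂ → P S.X₃) ∧ (P S.X₁ → P S.X₃ → P S.X₂) ∧ (P S.X₂ → P S.X₃ → P S.X₁)

/-- A map with good kernel and cokernel transports `P` in both directions. -/
theorem iff_of_map {T : Set X} (h : TwoOutOfThree P T) {A B : X.Modules} (hA : Coh.IsCoh A)
    (hB : Coh.IsCoh B) (hsA : CohB1.support A ⊆ T) (hsB : CohB1.support B ⊆ T) (a : A ⟶ B)
    (hk : P (kernel a)) (hc : P (cokernel a)) : P A ↔ P B := by
  have hkc := Groth.L16.CohKernel.isCoh_kernel_cokernel hA hB a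
  haveI : Coh.IsQCoh B := hB.1
  have hI := isCoh_image hA a
  obtain ⟨e₁, e₂, e₃⟩ := h _ (shortExact_kernel_image a) hkc.1 hA hI hsA
  obtain ⟨f₁, f₂, f₃⟩ := h _ (shortExact_image_cokernel a) hI hB hkc.2 hsB
  exact ⟨fun hPA => f₂ (e₁ hk hPA) hc, fun hPB => e₂ hk (f₃ hPB hc)⟩

/-- The skyscraper maps attached to a nonzero stalk map. -/
theorem exists_map_sky (y : X) (M : X.Modules) (N : ModuleCat.{u} (X.presheaf.stalk y))
    (α : (Groth.L00.Stk.F X y).obj M ⟶ N) (hα : α ≠ 0) :
    ∃ v, (Groth.L00.Stk.F X y).map (Groth.L00.Sky.toHom M N α) v ≠ 0 := by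
  by_contra h
  push Not at h
  refine hα ?_
  have e : α = (Groth.L00.Stk.F X y).map (Groth.L00.Sky.toHom M N α) ≫ (Groth.L00.Sky.adj y).counit.app N :=
    (((Groth.L00.Sky.adj y).homEquiv M N).symm_apply_apply α).symm.trans (Adjunction.homEquiv_counit _ _ _ _)
  rw [e]
  ext v
  exact (congrArg ((Groth.L00.Sky.adj y).counit.app N) (h v)).trans (map_zero _)

/-- A simple quotient of a nonzero finite-length stalk. -/
theorem exists_quotient_simple {R : CommRingCat.{u}} [IsLocalRing R] (M N : ModuleCat.{u} R)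
    (hM : Module.length R M ≠ ⊤) (hM0 : Module.length R M ≠ 0) (hN : IsSimpleModule R N) :
    ∃ α : M ⟶ N, α ≠ 0 := by
  haveI := (isFiniteLength_iff_isNoetherian_isArtinian.1 (Module.length_ne_top_iff.1 hM)).1
  haveI : Nontrivial M := Module.length_pos_iff.1 (pos_iff_ne_zero.2 hM0)
  obtain ⟨K, hK, -⟩ := (eq_top_or_exists_le_coatom (⊥ : Submodule R M)).resolve_left bot_ne_top
  haveI : IsSimpleModule R (M ⧸ K) := isSimpleModule_iff_isCoatom.2 hK
  obtain ⟨J, hJ, ⟨eJ⟩⟩ := isSimpleModule_iff_quot_maximal.1 (‹IsSimpleModule R (M ⧸ K)›)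
  obtain ⟨J', hJ', ⟨eJ'⟩⟩ := isSimpleModule_iff_quot_maximal.1 hN
  obtain rfl : J = J' := (IsLocalRing.eq_maximalIdeal hJ).trans (IsLocalRing.eq_maximalIdeal hJ').symm
  refine ⟨ModuleCat.ofHom ((eJ.trans eJ'.symm).toLinearMap.comp K.mkQ), fun h => ?_⟩
  obtain ⟨m, hm⟩ : ∃ m : M, m ∉ K := by
    by_contra hc
    push Not at hc
    exact hK.1 (eq_top_iff.2 fun m _ => hc m)
  have h1 : (eJ.trans eJ'.symm) (K.mkQ m) = 0 := congr($(h) m)
  exact hm ((Submodule.Quotient.mk_eq_zero K).1 ((LinearEquiv.map_eq_zero_iff _).1 h1))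

theorem smul_eq_zero_of_simple {R : CommRingCat.{u}} [IsLocalRing R] (N : ModuleCat.{u} R)
    (hN : IsSimpleModule R N) (r : R) (hr : r ∈ IsLocalRing.maximalIdeal R) (m : N) : r • m = 0 := by
  obtain ⟨J, hJ, ⟨e⟩⟩ := isSimpleModule_iff_quot_maximal.1 hN
  apply e.injective
  rw [map_smul, map_zero]
  obtain ⟨t, ht⟩ := Ideal.Quotient.mk_surjective (e m)
  rw [← ht, Algebra.smul_def, Ideal.Quotient.algebraMap_eq, ← map_mul, Ideal.Quotient.eq_zero_iff_mem]
  rw [IsLocalRing.eq_maximalIdeal hJ]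
  exact Ideal.mul_mem_right _ _ hr

theorem len_sky (y : X) (N : ModuleCat.{u} (X.presheaf.stalk y)) :
    len y (Groth.L00.Sky.sky y N) = Module.length (X.presheaf.stalk y) N :=
  ((Groth.L00.Sky.counitIso y).app N).toLinearEquiv.length_eq

/-- Noetherian induction: it is enough to treat one generic point of the support. -/
theorem induction_support {Q : X.Modules → Prop} {X' : Set X} (hX' : IsClosed X')
    (h0 : ∀ M, IsZero M → Q M)
    (step : ∀ (T : Set X), IsClosed T → T ⊆ X' → ∀ y ∈ T, (∀ z ∈ T, z ⤳ y → z = y) →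
      (∀ K, Coh.IsCoh K → CohB1.support K ⊆ T → len y K = 0 → Q K) →
      ∀ (n : ℕ), (∀ K, Coh.IsCoh K → CohB1.support K ⊆ T → len y K ≤ n → Q K) →
      ∀ M, Coh.IsCoh M → CohB1.support M ⊆ T → len y M = (n + 1 : ℕ) → Q M)
    {M : X.Modules} (hM : Coh.IsCoh M) (hs : CohB1.support M ⊆ X') : Q M := by
  suffices ∀ T : Closeds X, (T : Set X) ⊆ X' → ∀ M, Coh.IsCoh M → CohB1.support M ⊆ T → Q M from
    this ⟨X', hX'⟩ subset_rfl M hM hs
  intro T
  induction T using WellFoundedLT.induction with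
  | ind T IH =>
    intro hTX M hM hs
    by_cases hT : (T : Set X).Nonempty
    swap
    · refine h0 M ((Groth.L21.Mod.isZero_iff_support_eq_empty M).2 ?_)
      exact Set.subset_empty_iff.1 (hs.trans (Set.not_nonempty_iff_eq_empty.1 hT).le)
    obtain ⟨y, hy, hmax⟩ := exists_maximal_point T.isClosed hT
    have small : ∀ K, Coh.IsCoh K → CohB1.support K ⊆ T → len y K = 0 → Q K := by
      intro K hK hsK hyK
      let T' : Closeds X := ⟨CohB1.support K, isClosed_support K hK.2⟩
      have hlt : T' < T := lt_of_le_of_ne (show T' ≤ T from hsK) fun he =>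
        (len_eq_zero_iff y K).1 hyK (show y ∈ (T' : Set X) from he.symm ▸ hy)
      exact IH T' hlt (hsK.trans hTX) K hK subset_rfl
    suffices ∀ n : ℕ, ∀ K, Coh.IsCoh K → CohB1.support K ⊆ T → len y K ≤ n → Q K by
      obtain ⟨n, hn⟩ := ENat.ne_top_iff_exists.1
        (len_ne_top hM (x := y) fun z hz hzy => hmax z (hs hz) hzy)
      exact this n M hM hs hn.symm.le
    intro n
    induction n with
    | zero => exact fun K hK hsK hlen => small K hK hsK (nonpos_iff_eq_zero.1 (by simpa using hlen))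
    | succ n ih =>
      intro K hK hsK hlen
      rcases eq_or_lt_of_le hlen with heq | hlt
      · exact step T T.isClosed hTX y hy hmax small n ih K hK hsK heq
      · exact ih K hK hsK (ENat.lt_coe_add_one_iff.1 (by push_cast at hlt; exact hlt))

/-- **Dévissage**: two out of three, and one coherent module with simple stalk for every point. -/
theorem devissage {X' : Set X} (hX' : IsClosed X') (hP : ∀ M N : X.Modules, Nonempty (M ≅ N) → P M → P N)
    (h0 : ∀ M, IsZero M → P M) (h₁ : TwoOutOfThree P X')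
    (h₂ : ∀ y ∈ X', ∃ G : X.Modules, Coh.IsCoh G ∧ P G ∧ CohB1.support G ⊆ closure {y} ∧ len y G = 1)
    {M : X.Modules} (hM : Coh.IsCoh M) (hs : CohB1.support M ⊆ X') : P M := by
  refine induction_support hX' h0 (fun T hTc hTX y hy hmax small n ih M hM hsM hlen => ?_) hM hs
  obtain ⟨G, hG, hPG, hsG, hlenG⟩ := h₂ y (hTX hy)
  have hsG' : CohB1.support G ⊆ T := hsG.trans (closure_minimal (Set.singleton_subset_iff.2 hy) hTc)
  let N : ModuleCat.{u} (X.presheaf.stalk y) := (Groth.L00.Stk.F X y).obj G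
  have hN : IsSimpleModule (X.presheaf.stalk y) N := Module.length_eq_one_iff.1 hlenG
  haveI : Coh.IsQCoh (Groth.L00.Sky.sky y N) :=
    isQCoh_sky y N (smul_eq_zero_of_simple N hN)
  obtain ⟨α, hα⟩ := exists_quotient_simple ((Groth.L00.Stk.F X y).obj M) N
    (show len y M ≠ ⊤ from hlen ▸ ENat.coe_ne_top _) (show len y M ≠ 0 from hlen ▸ by simp) hN
  have h1 : (𝟙 N : N ⟶ N) ≠ 0 := by
    intro h
    haveI : Nontrivial N := IsSimpleModule.nontrivial (X.presheaf.stalk y) N
    obtain ⟨a, ha⟩ := exists_ne (0 : N)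
    exact ha congr($(h) a)
  let φ : M ⟶ Groth.L00.Sky.sky y N := Groth.L00.Sky.toHom M N α
  let ψ : G ⟶ Groth.L00.Sky.sky y N := Groth.L00.Sky.toHom G N (𝟙 N)
  -- the sum of the two images
  haveI : HasBinaryBiproduct M G := HasBinaryBiproducts.has_binary_biproduct M G
  let s : M ⊞ G ⟶ Groth.L00.Sky.sky y N := biprod.desc φ ψ
  have hMG : Coh.IsCoh (M ⊞ G) := isCoh_biprod hM hG
  have hsMG : CohB1.support (M ⊞ G) ⊆ T := by
    have hS : (ShortComplex.mk (biprod.inl : M ⟶ M ⊞ G) biprod.snd biprod.inl_snd).ShortExact :=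
      (ShortComplex.Splitting.mk biprod.fst biprod.inr (by simp) (by simp) (by simp [biprod.total])).shortExact
    rw [Groth.L21.Mod.support_of_shortExact hS]
    exact Set.union_subset hsM hsG'
  have hH : Coh.IsCoh (Abelian.image s) := isCoh_image hMG s
  have hsH : CohB1.support (Abelian.image s) ⊆ T := (Groth.L21.Mod.support_epi (Abelian.factorThruImage s)).trans hsMG
  have hlenH : len y (Abelian.image s) ≤ 1 := by
    have := len_of_mono (Abelian.image.ι s) y
    rwa [len_sky, show Module.length (X.presheaf.stalk y) N = 1 from hlenG] at this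
  -- the two maps into it
  have key : ∀ {A : X.Modules}, Coh.IsCoh A → CohB1.support A ⊆ T → ∀ (j : A ⟶ M ⊞ G) (m : ℕ),
      len y A = (m + 1 : ℕ) → (∃ v, (Groth.L00.Stk.F X y).map (j ≫ s) v ≠ 0) →
      (∀ K, Coh.IsCoh K → CohB1.support K ⊆ T → len y K ≤ m → P K) →
      (P A ↔ P (Abelian.image s)) := by
    intro A hA hsA j m hlenA hne hsmall
    let a : A ⟶ Abelian.image s := j ≫ Abelian.factorThruImage s
    haveI : Coh.IsQCoh (Abelian.image s) := hH.1
    have hne' : 1 ≤ len y (Abelian.image a) := len_image_pos a y (by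
      obtain ⟨v, hv⟩ := hne
      refine ⟨v, fun h => hv ?_⟩
      rw [show j ≫ s = a ≫ Abelian.image.ι s by simp [a], Functor.map_comp, ModuleCat.comp_apply, h]
      exact map_zero _)
    have hkc := Groth.L16.CohKernel.isCoh_kernel_cokernel hA hH a
    have e₁ := len_add (shortExact_kernel_image a) y
    have e₂ := len_add (shortExact_image_cokernel a) y
    dsimp only at e₁ e₂
    have hI : len y (Abelian.image a) = 1 := le_antisymm
      ((le_self_add.trans e₂.ge).trans hlenH) hne'
    have hk : P (kernel a) := hsmall _ hkc.1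
      ((Groth.L21.Mod.support_mono (kernel.ι a)).trans hsA) (by
        rw [hlenA, hI] at e₁
        push_cast at e₁
        exact le_of_eq ((ENat.add_left_injective_of_ne_top (by simp) e₁).symm))
    have hc : P (cokernel a) := small _ hkc.2
      ((Groth.L21.Mod.support_epi (cokernel.π a)).trans hsH) (by
        rw [hI] at e₂
        have : 1 + len y (cokernel a) ≤ 1 + 0 := by rw [add_zero, ← e₂]; exact hlenH
        exact nonpos_iff_eq_zero.1 ((ENat.add_le_add_iff_left (by simp)).1 this))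
    exact iff_of_map P (fun S a b c d e => h₁ S a b c d (e.trans hTX)) hA hH hsA hsH a hk hc
  obtain ⟨v, hv⟩ := exists_map_sky y M N α hα
  obtain ⟨w, hw⟩ := exists_map_sky y G N (𝟙 N) h1
  have eM := key hM hsM biprod.inl n hlen ⟨v, by rw [biprod.inl_desc]; exact hv⟩ ih
  have eG := key hG hsG' biprod.inr 0 (by simpa using hlenG) ⟨w, by rw [biprod.inr_desc]; exact hw⟩
    (fun K hK hsK hK0 => small K hK hsK (nonpos_iff_eq_zero.1 (by simpa using hK0)))
  exact eM.2 (eG.1 hPG)

/-- Dévissage by extensions from ideals of integral closed subschemes. -/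
theorem devissage_ideals (hP : ∀ M N : X.Modules, Nonempty (M ≅ N) → P M → P N) (h0 : ∀ M, IsZero M → P M)
    (h₁ : ∀ S : ShortComplex X.Modules, S.ShortExact → Coh.IsCoh S.X₁ → Coh.IsCoh S.X₂ →
      Coh.IsCoh S.X₃ → P S.X₁ → P S.X₃ → P S.X₂)
    (h₂ : ∀ (Z : Scheme.{u}) (i : Z ⟶ X), IsClosedImmersion i → IsIntegral Z →
      ∀ (I : Z.Modules) (ι : I ⟶ Coh.structureModule Z), Mono ι → Coh.IsQCoh I →
        P ((Coh.push i).obj I))
    {M : X.Modules} (hM : Coh.IsCoh M) : P M := by
  refine induction_support isClosed_univ h0 (fun T hTc hTX y hy hmax small n ih M hM hsM hlen => ?_) hM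
    (Set.subset_univ _)
  obtain ⟨Z, i, hi, hZ, hgen, hrange⟩ := CohClosedPush.exists_integral y
  haveI : IsLocallyNoetherian Z := LocallyOfFiniteType.isLocallyNoetherian i
  let O := (Coh.push i).obj (Coh.structureModule Z)
  have hO : Coh.IsCoh O := CohClosedPush.isCoh_push i CohClosedPush.isCoh_structure
  have hlenO : len y O = 1 := hgen ▸ CohClosedPush.len_push_structure i
  have hsO : CohB1.support O ⊆ T := (CohClosedPush.support_push_subset i _).trans
    (hrange.le.trans (closure_minimal (Set.singleton_subset_iff.2 hy) hTc))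
  let N : ModuleCat.{u} (X.presheaf.stalk y) := (Groth.L00.Stk.F X y).obj O
  have hN : IsSimpleModule (X.presheaf.stalk y) N := Module.length_eq_one_iff.1 hlenO
  haveI : Coh.IsQCoh (Groth.L00.Sky.sky y N) := isQCoh_sky y N (smul_eq_zero_of_simple N hN)
  obtain ⟨α, hα⟩ := exists_quotient_simple ((Groth.L00.Stk.F X y).obj M) N
    (show len y M ≠ ⊤ from hlen ▸ ENat.coe_ne_top _) (show len y M ≠ 0 from hlen ▸ by simp) hN
  let φ : M ⟶ Groth.L00.Sky.sky y N := Groth.L00.Sky.toHom M N α
  let ψ : O ⟶ Groth.L00.Sky.sky y N := Groth.L00.Sky.toHom O N (𝟙 N)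
  have hψinj : Function.Injective ((Groth.L00.Stk.F X y).map ψ) := by
    have e : (𝟙 N : N ⟶ N) = (Groth.L00.Stk.F X y).map ψ ≫ (Groth.L00.Sky.adj y).counit.app N :=
      (((Groth.L00.Sky.adj y).homEquiv O N).symm_apply_apply (𝟙 N)).symm.trans (Adjunction.homEquiv_counit _ _ _ _)
    intro a b hab
    exact (congr($e a)).trans ((congrArg ((Groth.L00.Sky.adj y).counit.app N) hab).trans (congr($e b)).symm)
  haveI : Mono ψ := CohClosedPush.mono_of_injective_generic i ψ (by rw [hgen]; exact hψinj)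
  let M' := Abelian.image φ
  have hM' : Coh.IsCoh M' := isCoh_image hM φ
  have hsM' : CohB1.support M' ⊆ T := (Groth.L21.Mod.support_epi (Abelian.factorThruImage φ)).trans hsM
  have hk : Coh.IsCoh (kernel φ) := isCoh_kernel hM φ
  have hlenM' : 1 ≤ len y M' := len_image_pos φ y (exists_map_sky y M N α hα)
  have e₀ := len_add (shortExact_kernel_image φ) y
  dsimp only at e₀
  have hPk : P (kernel φ) := ih _ hk ((Groth.L21.Mod.support_mono (kernel.ι φ)).trans hsM) (by
    rw [hlen] at e₀
    by_contra hc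
    have : ((n + 1 : ℕ) : ℕ∞) + 1 ≤ len y (kernel φ) + len y M' :=
      add_le_add (by exact_mod_cast Order.add_one_le_of_lt (not_le.1 hc)) hlenM'
    rw [← e₀] at this
    exact absurd this (not_le.2 (by exact_mod_cast Nat.lt_succ_self (n + 1))))
  -- the part of `M'` inside the structure sheaf of `Z`
  let m := Abelian.image.ι φ
  let J := kernel (ψ ≫ cokernel.π m)
  let j : J ⟶ O := kernel.ι _
  let a : J ⟶ M' := (Abelian.monoLift m (j ≫ ψ) (by rw [Category.assoc]; exact kernel.condition _))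
  have ha : a ≫ m = j ≫ ψ := Abelian.monoLift_comp m _ _
  haveI : Mono (a ≫ m) := by rw [ha]; infer_instance
  haveI : Mono a := mono_of_mono a m
  haveI : Coh.IsQCoh M' := hM'.1
  haveI : Coh.IsQCoh (cokernel a) := by
    haveI : Coh.IsQCoh (Groth.L00.Sky.sky y N) := inferInstance
    have hJ : Coh.IsCoh J := isCoh_kernel_of_cokernel hO ψ m hM'
    exact (Groth.L16.CohKernel.isCoh_kernel_cokernel hJ hM' a).2.1
  have hJ : Coh.IsCoh J := isCoh_kernel_of_cokernel hO ψ m hM'
  obtain ⟨I, ι, hι, hIq, ⟨eI⟩⟩ := CohClosedPush.exists_ideal i hJ j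
  have hPJ : P J := hP _ _ ⟨eI⟩ (h₂ Z i hi hZ I ι hι hIq)
  have hS : (ShortComplex.mk a (cokernel.π a) (cokernel.condition _)).ShortExact :=
    { exact := ShortComplex.exact_cokernel a }
  have hcoh := Groth.L16.CohKernel.isCoh_kernel_cokernel hJ hM' a
  have hc : P (cokernel a) := small _ hcoh.2
    ((Groth.L21.Mod.support_epi (cokernel.π a)).trans hsM') (by
      rw [len_eq_zero_iff]
      intro hsupp
      refine hsupp ⟨?_⟩
      haveI := (Groth.L21.Mod.mono_iff_stalk m).1 inferInstance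
      suffices hsurj : Function.Surjective ((Groth.L00.Stk.F X y).map a) by
        have h0 : ∀ q : (Groth.L00.Stk.F X y).obj (cokernel a), q = 0 := by
          intro q
          obtain ⟨p, rfl⟩ := (ModuleCat.epi_iff_surjective ((Groth.L00.Stk.F X y).map (cokernel.π a))).1
            inferInstance q
          obtain ⟨r, rfl⟩ := hsurj p
          rw [← ModuleCat.comp_apply, ← Functor.map_comp, cokernel.condition, Functor.map_zero]
          rfl
        exact fun p q => (h0 p).trans (h0 q).symm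
      intro p
      obtain ⟨o, ho⟩ := surjective_of_simple y ψ hψinj hlenO (len_sky y N ▸ hlenO) ((Groth.L00.Stk.F X y).map m p)
      have hker : (Groth.L00.Stk.F X y).map (ψ ≫ cokernel.π m) o = 0 := by
        rw [Functor.map_comp, ModuleCat.comp_apply, ho, ← ModuleCat.comp_apply, ← Functor.map_comp,
          cokernel.condition, Functor.map_zero]
        rfl
      have hS' : (ShortComplex.mk j (ψ ≫ cokernel.π m) (kernel.condition _)).Exact :=
        ShortComplex.exact_kernel _
      obtain ⟨r, hr⟩ := (ShortComplex.moduleCat_exact_iff _).1 (hS'.map (Groth.L00.Stk.F X y)) o hker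
      refine ⟨r, (ModuleCat.mono_iff_injective ((Groth.L00.Stk.F X y).map m)).1 inferInstance ?_⟩
      rw [← ModuleCat.comp_apply, ← Functor.map_comp, ha, Functor.map_comp, ModuleCat.comp_apply]
      exact (congrArg _ hr).trans ho)
  exact h₁ _ (shortExact_kernel_image φ) hk hM hM' hPk (h₁ _ hS hJ hM' hcoh.2 hPJ hc)

end Groth.L16.Devissage

namespace Groth.L16.Devissage

open Groth.L16.CohSupport

variable {X : Scheme.{u}} [IsNoetherian X]

theorem length_residueField (R : Type u) [CommRing R] [IsLocalRing R] :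
    Module.length R (IsLocalRing.ResidueField R) = 1 := by
  haveI : IsSimpleModule R (R ⧸ IsLocalRing.maximalIdeal R) :=
    isSimpleModule_iff_isCoatom.2 (IsLocalRing.maximalIdeal.isMaximal R).out
  exact Module.length_eq_one_iff.2 (inferInstanceAs (IsSimpleModule R (R ⧸ IsLocalRing.maximalIdeal R)))

theorem isCoh_of_isZero {M : X.Modules} (hM : IsZero M) : Coh.IsCoh M :=
  isCoh_of_iso ((isZero_kernel_of_mono (𝟙 (Coh.structureModule X))).iso hM)
    (CohKernel.isCoh_kernel_cokernel CohClosedPush.isCoh_structure CohClosedPush.isCoh_structure _).1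

/-- `P` of one coherent module gives `P` of zero, by two out of three. -/
theorem isZero_prop (P : X.Modules → Prop) {T : Set X} (h : TwoOutOfThree P T) {G : X.Modules}
    (hG : Coh.IsCoh G) (hs : CohB1.support G ⊆ T) (hPG : P G) {M : X.Modules} (hM : IsZero M) : P M := by
  have hS : (ShortComplex.mk (0 : M ⟶ G) (𝟙 G) zero_comp).ShortExact :=
    (ShortComplex.Splitting.mk (0 : G ⟶ M) (𝟙 G) (hM.eq_of_src _ _) (by simp) (by simp)).shortExact
  exact (h _ hS (isCoh_of_isZero hM) hG hG hs).2.2 hPG hPG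

end Groth.L16.Devissage
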