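import Groth.Agent.L16.RatMapBasic
import Mathlib.Topology.Sober

/-! Uniqueness of spreading out for targets locally of finite type; largest representative of a
rational map into a separated scheme; irreducible components through a point. -/

open CategoryTheory AlgebraicGeometry

namespace Groth.L16

universe u

theorem spread_out_unique_of_locallyOfFiniteType {S X Y : Scheme.{u}} (sX : X ⟶ S) (sY : Y ⟶ S)
    [LocallyOfFiniteType sY] (f g : X ⟶ Y) (hf : f ≫ sY = sX) (hg : g ≫ sY = sX) (x : X)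
    (e : X.fromSpecStalk x ≫ f = X.fromSpecStalk x ≫ g) :
    ∃ (W : X.Opens), x ∈ W ∧ W.ι ≫ f = W.ι ≫ g := by
  have hpt : f x = g x := by
    have := congr($e (IsLocalRing.closedPoint (X.presheaf.stalk x)))
    change f (X.fromSpecStalk x _) = g (X.fromSpecStalk x _) at this
    rwa [Scheme.fromSpecStalk_closedPoint] at this
  obtain ⟨_, ⟨U, hU, rfl⟩, hxU, -⟩ :=
    S.isBasis_affineOpens.exists_subset_of_mem_open (Set.mem_univ (sY (f x))) isOpen_univ
  obtain ⟨_, ⟨V : Y.Opens, hV, rfl⟩, hyV, iVU⟩ :=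
    Y.isBasis_affineOpens.exists_subset_of_mem_open hxU (sY ⁻¹ᵁ U).2
  obtain ⟨_, ⟨W : X.Opens, hW, rfl⟩, hxW, hWV⟩ :=
    X.isBasis_affineOpens.exists_subset_of_mem_open
      (show x ∈ f ⁻¹ᵁ V ⊓ g ⁻¹ᵁ V from ⟨hyV, show g x ∈ V from hpt ▸ hyV⟩) (f ⁻¹ᵁ V ⊓ g ⁻¹ᵁ V).2
  replace hU : IsAffineOpen U := hU
  replace iVU : V ≤ sY ⁻¹ᵁ U := iVU
  replace hV : IsAffineOpen V := hV
  replace hW : IsAffineOpen W := hW
  have eWf : W ≤ f ⁻¹ᵁ V := hWV.trans inf_le_left
  have eWg : W ≤ g ⁻¹ᵁ V := hWV.trans inf_le_right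
  have hstalk : f.appLE V W eWf ≫ X.presheaf.germ W x hxW =
      g.appLE V W eWg ≫ X.presheaf.germ W x hxW := by
    apply Spec.map_injective
    rw [← cancel_mono hV.fromSpec, Spec.map_comp, Spec.map_comp, Category.assoc, Category.assoc,
      IsAffineOpen.SpecMap_appLE_fromSpec f hV hW eWf, IsAffineOpen.SpecMap_appLE_fromSpec g hV hW eWg]
    change hW.fromSpecStalk hxW ≫ f = hW.fromSpecStalk hxW ≫ g
    rw [IsAffineOpen.fromSpecStalk_eq_fromSpecStalk, e]
  have hfin := sY.finiteType_appLE hU hV iVU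
  algebraize [(sY.appLE U V iVU).hom]
  obtain ⟨s, hs⟩ := hfin
  have hnb : ∀ t : Γ(Y, V), ∃ (D : X.Opens) (_ : x ∈ D) (i : D ⟶ W),
      X.presheaf.map i.op (f.appLE V W eWf t) = X.presheaf.map i.op (g.appLE V W eWg t) := by
    intro t
    obtain ⟨D, hxD, i, j, hij⟩ := X.presheaf.germ_eq x hxW hxW (f.appLE V W eWf t) (g.appLE V W eWg t)
      (by exact congr($hstalk t))
    exact ⟨D, hxD, i, by rw [hij, Subsingleton.elim j i]⟩
  choose D hxD i hD using hnb
  have hxinf : x ∈ s.inf D ⊓ W := by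
    refine ⟨?_, hxW⟩
    rw [TopologicalSpace.Opens.coe_finset_inf]
    simp [hxD]
  obtain ⟨_, ⟨W' : X.Opens, hW', rfl⟩, hxW', hW'le⟩ :=
    X.isBasis_affineOpens.exists_subset_of_mem_open hxinf (s.inf D ⊓ W).2
  replace hW'le : W' ≤ s.inf D ⊓ W := hW'le
  replace hW' : IsAffineOpen W' := hW'
  have e' : W' ≤ W := hW'le.trans inf_le_right
  have happ : f.appLE V W' (e'.trans eWf) = g.appLE V W' (e'.trans eWg) := by
    have hA : ∀ r : Γ(S, U), f.appLE V W' (e'.trans eWf) (sY.appLE U V iVU r) =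
        g.appLE V W' (e'.trans eWg) (sY.appLE U V iVU r) := by
      intro r
      have h1 : sY.appLE U V iVU ≫ f.appLE V W' (e'.trans eWf) =
          sY.appLE U V iVU ≫ g.appLE V W' (e'.trans eWg) := by
        rw [Scheme.Hom.appLE_comp_appLE, Scheme.Hom.appLE_comp_appLE]
        congr 1
        · rw [hf, hg]
      exact congr($h1 r)
    ext t
    have ht : t ∈ Algebra.adjoin Γ(S, U) (s : Set Γ(Y, V)) := by rw [hs]; trivial
    induction ht using Algebra.adjoin_induction with
    | mem t ht =>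
      have key : X.presheaf.map (homOfLE e').op (f.appLE V W eWf t) =
          X.presheaf.map (homOfLE e').op (g.appLE V W eWg t) := by
        have hle : W' ≤ D t := hW'le.trans (inf_le_left.trans (Finset.inf_le ht))
        have h2 := congrArg (X.presheaf.map (homOfLE hle).op) (hD t)
        simp only [← ConcreteCategory.comp_apply, Category.assoc, ← Functor.map_comp] at h2 ⊢
        exact h2
      simp only [← ConcreteCategory.comp_apply, Scheme.Hom.appLE_map] at key
      exact key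
    | algebraMap r => exact hA r
    | add a b _ _ ha hb => simp [map_add, ha, hb]
    | mul a b _ _ ha hb => simp [map_mul, ha, hb]
  refine ⟨W', hxW', ?_⟩
  rw [← cancel_epi hW'.isoSpec.inv, ← Category.assoc, ← Category.assoc, IsAffineOpen.isoSpec_inv_ι,
    ← IsAffineOpen.SpecMap_appLE_fromSpec f hV hW' (e'.trans eWf),
    ← IsAffineOpen.SpecMap_appLE_fromSpec g hV hW' (e'.trans eWg), happ]

theorem eq_of_fromFunctionField_eq_of_irreducible {S X Y : Scheme.{u}} [X.Over S] [Y.Over S]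
    [IrreducibleSpace X] [LocallyOfFiniteType (Y ↘ S)] (f g : X ⤏ Y) [f.IsOver S] [g.IsOver S]
    (h : f.fromFunctionField = g.fromFunctionField) : f = g := by
  obtain ⟨f, hf, rfl⟩ := f.exists_partialMap_over S
  obtain ⟨g, hg, rfl⟩ := g.exists_partialMap_over S
  have hd : Dense ((f.domain ⊓ g.domain : X.Opens) : Set X) :=
    f.dense_domain.inter_of_isOpen_left g.dense_domain f.domain.2
  have hη : genericPoint X ∈ f.domain ⊓ g.domain :=
    (genericPoint_specializes _).mem_open (f.domain ⊓ g.domain).2 hd.nonempty.choose_spec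
  let η' : (f.domain ⊓ g.domain : X.Opens).toScheme := ⟨genericPoint X, hη⟩
  let F : (f.domain ⊓ g.domain).toScheme ⟶ Y := X.homOfLE inf_le_left ≫ f.hom
  let G : (f.domain ⊓ g.domain).toScheme ⟶ Y := X.homOfLE inf_le_right ≫ g.hom
  have hf2 : F ≫ (Y ↘ S) = (f.domain ⊓ g.domain).ι ≫ (X ↘ S) := by
    simp only [F, Category.assoc, hf.comp_over]
    exact Scheme.homOfLE_ι_assoc _ _ _
  have hg2 : G ≫ (Y ↘ S) = (f.domain ⊓ g.domain).ι ≫ (X ↘ S) := by
    simp only [G, Category.assoc, hg.comp_over]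
    exact Scheme.homOfLE_ι_assoc _ _ _
  have heq : (f.restrict _ hd inf_le_left).fromSpecStalkOfMem (x := genericPoint X) hη =
      (g.restrict _ hd inf_le_right).fromSpecStalkOfMem (x := genericPoint X) hη := by
    rw [Scheme.PartialMap.fromSpecStalkOfMem_restrict, Scheme.PartialMap.fromSpecStalkOfMem_restrict]
    exact h
  have e : (f.domain ⊓ g.domain).toScheme.fromSpecStalk η' ≫ F =
      (f.domain ⊓ g.domain).toScheme.fromSpecStalk η' ≫ G := by
    refine (cancel_epi (Spec.map (inv ((f.domain ⊓ g.domain).ι.stalkMap η')))).mp ?_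
    rw [← Category.assoc, ← Category.assoc]
    exact heq
  obtain ⟨W, hW, hWeq⟩ := spread_out_unique_of_locallyOfFiniteType
    ((f.domain ⊓ g.domain).ι ≫ (X ↘ S)) (Y ↘ S) F G hf2 hg2 η' e
  let W' : X.Opens := (f.domain ⊓ g.domain).ι ''ᵁ W
  have hW' : Dense (W' : Set X) := W'.2.dense ⟨_, ⟨η', hW, rfl⟩⟩
  refine Scheme.PartialMap.toRationalMap_eq_iff.mpr ⟨W', hW',
    (Scheme.Opens.ι_image_le _ W).trans inf_le_left, (Scheme.Opens.ι_image_le _ W).trans inf_le_right, ?_⟩
  show X.homOfLE _ ≫ f.hom = X.homOfLE _ ≫ g.hom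
  rw [← cancel_epi ((f.domain ⊓ g.domain).ι.isoImage W).hom]
  simp only [F, G, Scheme.PartialMap.restrict_hom, ← Category.assoc] at hWeq ⊢
  convert! hWeq using 2 <;> rw [← cancel_mono (Scheme.Opens.ι _)] <;> simp <;>
    exact Scheme.Hom.isoImage_hom_ι _ _

theorem exists_largest_over {S X Y : Scheme.{u}} [X.Over S] [Y.Over S] [IsReduced X]
    [IsSeparated (Y ↘ S)] (f : X ⤏ Y) [f.IsOver S] :
    ∃ g : X.PartialMap Y, g.IsOver S ∧ g.toRationalMap = f ∧
      ∀ h : X.PartialMap Y, h.IsOver S → h.toRationalMap = f →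
        ∃ hle : h.domain ≤ g.domain, h = g.restrict h.domain h.dense_domain hle := by
  let ι := {h : X.PartialMap Y // h.IsOver S ∧ h.toRationalMap = f}
  obtain ⟨h₀, hh₀⟩ : Nonempty ι := by
    obtain ⟨g, hg, hgf⟩ := f.exists_partialMap_over S
    exact ⟨⟨g, hg, hgf⟩⟩
  let U : ι → X.Opens := fun h => h.1.domain
  have compat : ∀ (a b : ι) (W : X.Opens) (ha : W ≤ U a) (hb : W ≤ U b),
      X.homOfLE ha ≫ a.1.hom = X.homOfLE hb ≫ b.1.hom := by
    intro a b W ha hb
    have := a.2.1
    have := b.2.1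
    have h1 := Scheme.PartialMap.equiv_iff_of_isSeparated (S := S) (f := a.1) (g := b.1) |>.1
      (Scheme.PartialMap.toRationalMap_eq_iff.1 (a.2.2.trans b.2.2.symm))
    simp only [Scheme.PartialMap.restrict_hom] at h1
    have h2 := congrArg (X.homOfLE (le_inf ha hb) ≫ ·) h1
    simpa using h2
  let 𝒰 := Scheme.Opens.iSupOpenCover U
  have hglue : ∀ a b : ι, Limits.pullback.fst (𝒰.f a) (𝒰.f b) ≫ a.1.hom =
      Limits.pullback.snd (𝒰.f a) (𝒰.f b) ≫ b.1.hom := by
    intro a b
    refine (cancel_epi (isPullback_opens_inf_le (le_iSup U a) (le_iSup U b)).isoPullback.hom).mp ?_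
    simp only [𝒰, Scheme.Opens.iSupOpenCover, IsPullback.isoPullback_hom_fst_assoc,
      IsPullback.isoPullback_hom_snd_assoc]
    exact compat a b _ _ _
  let G : (⨆ a, U a).toScheme ⟶ Y := 𝒰.glueMorphisms (fun a => a.1.hom) hglue
  have hG : ∀ a : ι, X.homOfLE (le_iSup U a) ≫ G = a.1.hom := fun a =>
    Scheme.Cover.ι_glueMorphisms 𝒰 _ hglue a
  have hdense : Dense ((⨆ a, U a : X.Opens) : Set X) :=
    h₀.dense_domain.mono (SetLike.coe_subset_coe.2 (le_iSup U ⟨h₀, hh₀⟩))
  refine ⟨⟨_, hdense, G⟩, ⟨?_⟩, ?_, ?_⟩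
  · refine Scheme.Cover.hom_ext 𝒰 _ _ fun a => ?_
    have := a.2.1.comp_over
    simp only [𝒰, Scheme.Opens.iSupOpenCover]
    rw [← Category.assoc, hG a, this]
    exact (Scheme.homOfLE_ι_assoc _ _ _).symm
  · rw [← hh₀.2]
    refine Scheme.PartialMap.toRationalMap_eq_iff.2 ⟨h₀.domain, h₀.dense_domain, le_iSup U ⟨h₀, hh₀⟩, le_rfl, ?_⟩
    simp only [Scheme.PartialMap.restrict_hom, Scheme.homOfLE_rfl, Category.id_comp]
    exact (hG ⟨h₀, hh₀⟩).trans (by simp)
  · intro h hh hhf
    refine ⟨le_iSup U ⟨h, hh, hhf⟩, Scheme.PartialMap.ext _ _ rfl ?_⟩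
    simp only [Scheme.PartialMap.restrict_hom, Scheme.isoOfEq_rfl, Iso.refl_hom, Category.id_comp]
    refine ((hG ⟨h, hh, hhf⟩).symm).trans ?_
    erw [Scheme.isoOfEq_rfl, Category.id_comp]

theorem closure_singleton_mem_irreducibleComponents_iff {α : Type*} [TopologicalSpace α] [QuasiSober α]
    (z : α) : closure {z} ∈ irreducibleComponents α ↔ ∀ w : α, w ⤳ z → z ⤳ w := by
  constructor
  · intro h w hw
    have hle : closure ({z} : Set α) ⊆ closure {w} := closure_minimal
      (Set.singleton_subset_iff.2 (specializes_iff_mem_closure.1 hw)) isClosed_closure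
    exact specializes_iff_mem_closure.2 (h.2 isIrreducible_singleton.closure hle
      (subset_closure (Set.mem_singleton w)))
  · intro h
    refine ⟨isIrreducible_singleton.closure, fun t ht hle y hy => ?_⟩
    have hgen : IsGenericPoint ht.genericPoint (closure t) := ht.isGenericPoint_genericPoint_closure
    have h1 : ht.genericPoint ⤳ z := hgen.specializes (subset_closure (hle (subset_closure (Set.mem_singleton z))))
    exact specializes_iff_mem_closure.1 ((h _ h1).trans (hgen.specializes (subset_closure hy)))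

theorem bijOn_irreducibleComponents_specStalk (X : Scheme.{u}) (x : X) :
    Set.BijOn (fun z : Spec (X.presheaf.stalk x) => closure ({X.fromSpecStalk x z} : Set X))
      {z | closure ({z} : Set (Spec (X.presheaf.stalk x))) ∈
        irreducibleComponents (Spec (X.presheaf.stalk x) : Type u)}
      {Z | Z ∈ irreducibleComponents (X : Type u) ∧ x ∈ Z} := by
  have he := (X.fromSpecStalk x).isEmbedding
  have hsp : ∀ z, X.fromSpecStalk x z ⤳ x := fun z =>
    (Scheme.range_fromSpecStalk (X := X) (x := x)).le ⟨z, rfl⟩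
  have hgen : ∀ y : X, y ⤳ x → ∃ z, X.fromSpecStalk x z = y := fun y hy =>
    (Scheme.range_fromSpecStalk (X := X) (x := x)).ge hy
  refine ⟨fun z hz => ⟨?_, specializes_iff_mem_closure.1 (hsp z)⟩, ?_, ?_⟩
  · simp only [Set.mem_setOf_eq, closure_singleton_mem_irreducibleComponents_iff] at hz ⊢
    intro w hw
    obtain ⟨w', rfl⟩ := hgen w (hw.trans (hsp z))
    exact (hz w' (he.isInducing.specializes_iff.1 hw)).map (X.fromSpecStalk x).continuous
  · intro z _ z' _ h
    refine he.injective (((inseparable_iff_closure_eq).2 h).eq)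
  · rintro Z ⟨hZ, hxZ⟩
    have hg : IsGenericPoint hZ.1.genericPoint Z := by
      have := hZ.1.isGenericPoint_genericPoint_closure
      rwa [(isClosed_of_mem_irreducibleComponents Z hZ).closure_eq] at this
    obtain ⟨z, hz⟩ := hgen _ (hg.specializes hxZ)
    refine ⟨z, ?_, by simp only [hz]; exact hg.def⟩
    simp only [Set.mem_setOf_eq, closure_singleton_mem_irreducibleComponents_iff]
    intro w hw
    refine he.isInducing.specializes_iff.1 ?_
    rw [← hg.def, closure_singleton_mem_irreducibleComponents_iff] at hZ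
    rw [hz]
    exact hZ _ (hz ▸ hw.map (X.fromSpecStalk x).continuous)

end Groth.L16
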