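import Groth.Agent.L16.QCohSections
import Groth.Agent.L00.PullStalk
import Mathlib.AlgebraicGeometry.Morphisms.QuasiSeparated
import Mathlib.Topology.Sheaves.SheafCondition.UniqueGluing

/-!
The qcqs lemma for quasi-coherent modules, and quasi-coherence of direct images along qcqs morphisms.
-/

universe u

open CategoryTheory AlgebraicGeometry TopologicalSpace Opposite

namespace Groth.L16.QcqsPush

open Groth.L18.Frame (rs ro rs_rs ro_ro rs_smul rs_self ro_self)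

variable {X Y : Scheme.{u}}

/-- Two conditions on sections over basic opens of an affine cover give quasi-coherence. -/
theorem isQCoh_of_sections (M : Y.Modules)
    (h : ∀ y : Y, ∃ V : Y.Opens, y ∈ V ∧ IsAffineOpen V ∧ ∀ a : Γ(Y, V),
      (∀ s : Γ(M, Y.basicOpen a), ∃ (n : ℕ) (t : Γ(M, V)),
        rs M (Y.basicOpen_le a) t = ro (Y.basicOpen_le a) (a ^ n) • s) ∧
      (∀ t : Γ(M, V), rs M (Y.basicOpen_le a) t = 0 → ∃ n : ℕ, a ^ n • t = 0)) :
    Coh.IsQCoh M := by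
  refine Groth.L00.Local.isQCoh_of_tilde_charts M fun y => ?_
  obtain ⟨V, hyV, hV, hV'⟩ := h y
  let N : (Spec Γ(Y, V)).Modules := M.restrict hV.fromSpec
  have : IsIso N.fromTildeΓ := by
    rw [isIso_fromTildeΓ_iff_isLocalizing]
    intro a
    obtain ⟨hs, ht⟩ := hV' a
    let D : (Spec Γ(Y, V)).Opens := PrimeSpectrum.basicOpen a
    have e1 : hV.fromSpec ''ᵁ D = Y.basicOpen a := hV.fromSpec_image_basicOpen a
    have e2 : hV.fromSpec ''ᵁ ⊤ = V := by
      rw [Scheme.Hom.image_top_eq_opensRange, hV.opensRange_fromSpec]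
    refine (isLocalizedModule_iff _ _).2 ⟨fun x => ?_, fun s => ?_, fun {t₁ t₂} he => ?_⟩
    · obtain ⟨_, n, rfl⟩ := x
      show IsUnit (algebraMap Γ(Y, V) (Module.End Γ(Y, V) ((modulesSpecToSheaf.obj N).obj.obj (op D))) (a ^ n))
      rw [map_pow]
      exact (Scheme.Modules.isUnit_algebraMap_end_of_le_basicOpen (M := N) a le_rfl).pow n
    · obtain ⟨n, t, ht'⟩ := hs (rs M e1.ge (show Γ(M, hV.fromSpec ''ᵁ D) from s))
      refine ⟨⟨(show Γ(N, ⊤) from rs M e2.le t), ⟨_, n, rfl⟩⟩, ?_⟩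
      show (a ^ n) • s = rs M (hV.fromSpec.image_mono (le_top : D ≤ ⊤)) (rs M e2.le t)
      refine Eq.trans (show _ = ro (Groth.L16.QCohSect.image_le hV D) (a ^ n) • (show Γ(M, hV.fromSpec ''ᵁ D) from s)
        from ?_) ?_
      · rw [← Groth.L16.QCohSect.appIso_inv_scalar hV D (a ^ n)]
        rfl
      · have h2 := congrArg (rs M e1.le) ht'
        simp only [rs_rs, rs_smul, ro_ro, rs_self] at h2 ⊢
        exact h2.symm
    · let t : Γ(M, V) := rs M e2.ge (show Γ(M, hV.fromSpec ''ᵁ ⊤) from (t₁ - t₂ : Γ(N, ⊤)))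
      have h0 : rs M (Y.basicOpen_le a) t = 0 := by
        have h1 : rs M (hV.fromSpec.image_mono (le_top : D ≤ ⊤))
            (show Γ(M, hV.fromSpec ''ᵁ ⊤) from (t₁ - t₂ : Γ(N, ⊤))) = 0 :=
          (map_sub _ _ _).trans (sub_eq_zero.2 he)
        have h2 := congrArg (rs M e1.ge) h1
        rw [rs_rs] at h2
        simp only [t, rs_rs]
        exact h2.trans (map_zero _)
      obtain ⟨n, hn⟩ := ht t h0
      refine ⟨⟨_, n, rfl⟩, ?_⟩
      show (a ^ n) • t₁ = (a ^ n) • t₂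
      rw [← sub_eq_zero, ← smul_sub]
      show (show Γ(M, hV.fromSpec ''ᵁ ⊤) from (a ^ n • (t₁ - t₂) : Γ(N, ⊤))) = 0
      refine Eq.trans (show _ = ro (Groth.L16.QCohSect.image_le hV ⊤) (a ^ n) •
        (show Γ(M, hV.fromSpec ''ᵁ ⊤) from (t₁ - t₂ : Γ(N, ⊤))) from ?_) ?_
      · rw [← Groth.L16.QCohSect.appIso_inv_scalar hV ⊤ (a ^ n)]
        rfl
      · have h2 := congrArg (rs M e2.le) hn
        simp only [t, rs_smul, rs_rs, rs_self] at h2
        exact h2.trans (map_zero _)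
  exact ⟨_, hV.fromSpec, inferInstance, (moduleSpecΓFunctor (R := Γ(Y, V))).obj N,
    hV.opensRange_fromSpec.ge hyV, ⟨(asIso N.fromTildeΓ).symm⟩⟩

lemma ro_pow {U W : X.Opens} (h : W ≤ U) (a : Γ(X, U)) (n : ℕ) : ro h (a ^ n) = ro h a ^ n := map_pow _ _ _

lemma basicOpen_ro {U W : X.Opens} (h : W ≤ U) (a : Γ(X, U)) :
    X.basicOpen (ro h a) = W ⊓ X.basicOpen a := X.basicOpen_res a _

/-- Finite affine covers of quasi-compact opens. -/
theorem exists_affine_cover {U : X.Opens} (hU : IsCompact (U : Set X)) :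
    ∃ (ι : Type u) (_ : Finite ι) (W : ι → X.Opens),
      (∀ i, IsAffineOpen (W i)) ∧ (∀ i, W i ≤ U) ∧ U ≤ iSup W := by
  classical
  have : ∀ x : U, ∃ W : X.Opens, IsAffineOpen W ∧ x.1 ∈ W ∧ W ≤ U := fun x => by
    obtain ⟨_, ⟨W, hW, rfl⟩, hxW, hWU⟩ :=
      X.isBasis_affineOpens.exists_subset_of_mem_open x.2 U.2
    exact ⟨W, hW, hxW, hWU⟩
  choose W hW hxW hWU using this
  obtain ⟨T, hT⟩ := hU.elim_finite_subcover (fun x : U => (W x : Set X)) (fun x => (W x).2)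
    (fun x hx => Set.mem_iUnion.2 ⟨⟨x, hx⟩, hxW _⟩)
  refine ⟨T, inferInstance, fun x => W x.1, fun x => hW _, fun x => hWU _, fun x hx => ?_⟩
  obtain ⟨y, hy, hxy⟩ := Set.mem_iUnion₂.1 (hT hx)
  exact Opens.mem_iSup.2 ⟨⟨y, hy⟩, hxy⟩

variable (M : X.Modules) [Coh.IsQCoh M]

/-- A section over a quasi-compact open vanishing on `X_a` is killed by a power of `a`. -/
theorem exists_pow_smul_eq_zero {U : X.Opens} (hU : IsCompact (U : Set X)) (a : Γ(X, U)) (t : Γ(M, U))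
    (h : rs M (X.basicOpen_le a) t = 0) : ∃ n : ℕ, a ^ n • t = 0 := by
  obtain ⟨ι, _, W, hW, hWU, hcov⟩ := exists_affine_cover hU
  have h0 : ∀ i, ∃ n : ℕ, ro (hWU i) a ^ n • rs M (hWU i) t = 0 := fun i => by
    refine Groth.L16.QCohSect.exists_pow_smul_eq_zero (hW i) M _ _ ?_
    have hle : X.basicOpen (ro (hWU i) a) ≤ X.basicOpen a := (basicOpen_ro (hWU i) a).trans_le inf_le_right
    have h1 := congrArg (rs M hle) h
    rw [rs_rs] at h1
    rw [rs_rs]
    exact h1.trans (map_zero _)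
  choose n hn using h0
  obtain ⟨N, hN⟩ := (Set.finite_range n).bddAbove
  refine ⟨N, TopCat.Sheaf.eq_of_locally_eq' (⟨M.presheaf, M.isSheaf⟩ : TopCat.Sheaf Ab X.toTopCat) W U
    (fun i => homOfLE (hWU i)) hcov _ _ fun i => ?_⟩
  show rs M (hWU i) (a ^ N • t) = rs M (hWU i) 0
  rw [rs_smul, ro_pow, ← Nat.sub_add_cancel (hN ⟨i, rfl⟩), pow_add, mul_smul, hn i, smul_zero]
  exact (map_zero _).symm

/-- A section over `X_a` extends over a qcqs open after multiplication by a power of `a`. -/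
theorem exists_pow_smul_eq_res {U : X.Opens} (hU : IsCompact (U : Set X))
    (hU' : IsQuasiSeparated (U : Set X)) (a : Γ(X, U)) (s : Γ(M, X.basicOpen a)) :
    ∃ (n : ℕ) (t : Γ(M, U)), rs M (X.basicOpen_le a) t = ro (X.basicOpen_le a) (a ^ n) • s := by
  obtain ⟨ι, _, W, hW, hWU, hcov⟩ := exists_affine_cover hU
  have hle : ∀ i, X.basicOpen (ro (hWU i) a) ≤ X.basicOpen a := fun i =>
    (basicOpen_ro (hWU i) a).trans_le inf_le_right
  choose n t ht using fun i =>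
    Groth.L16.QCohSect.exists_pow_smul_eq_res (hW i) M (ro (hWU i) a) (rs M (hle i) s)
  obtain ⟨N, hN⟩ := (Set.finite_range n).bddAbove
  let t' : ∀ i, Γ(M, W i) := fun i => ro (hWU i) a ^ (N - n i) • t i
  have ht' : ∀ i, rs M (X.basicOpen_le _) (t' i) =
      ro ((X.basicOpen_le _).trans (hWU i)) (a ^ N) • rs M (hle i) s := fun i => by
    refine (rs_smul M _ _ _).trans ((congrArg _ (ht i)).trans ((mul_smul _ _ _).symm.trans ?_))
    congr 1
    simp only [← ro_pow, ro_ro]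
    rw [← Groth.L18.Frame.ro_mul, ← pow_add, Nat.sub_add_cancel (hN ⟨i, rfl⟩)]
  have h0 : ∀ p : ι × ι, ∃ m : ℕ, ro (inf_le_left.trans (hWU p.1) : W p.1 ⊓ W p.2 ≤ U) a ^ m •
      (rs M (inf_le_left : W p.1 ⊓ W p.2 ≤ W p.1) (t' p.1) -
        rs M (inf_le_right : W p.1 ⊓ W p.2 ≤ W p.2) (t' p.2)) = 0 := fun ⟨i, j⟩ => by
    refine exists_pow_smul_eq_zero M
      (hU' (W i) (W j) (hWU i) (W i).2 (hW i).isCompact (hWU j) (W j).2 (hW j).isCompact) _ _ ?_
    have hb : ∀ k (hk : W i ⊓ W j ≤ W k),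
        X.basicOpen (ro (inf_le_left.trans (hWU i) : W i ⊓ W j ≤ U) a) ≤ X.basicOpen (ro (hWU k) a) := by
      intro k hk
      rw [basicOpen_ro, basicOpen_ro]
      exact inf_le_inf_right _ hk
    have h1 := congrArg (rs M (hb i inf_le_left)) (ht' i)
    have h2 := congrArg (rs M (hb j inf_le_right)) (ht' j)
    simp only [rs_rs, rs_smul, ro_ro] at h1 h2
    refine (map_sub _ _ _).trans (sub_eq_zero.2 ?_)
    show rs M _ (rs M _ _) = rs M _ (rs M _ _)
    rw [rs_rs, rs_rs, h1, h2]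
  choose m hm using h0
  obtain ⟨K, hK⟩ := (Set.finite_range m).bddAbove
  let t'' : ∀ i, Γ(M, W i) := fun i => ro (hWU i) a ^ K • t' i
  have hc : TopCat.Presheaf.IsCompatible (X := X.toTopCat) M.presheaf W t'' := fun i j => by
    show rs M (inf_le_left : W i ⊓ W j ≤ W i) (t'' i) = rs M (inf_le_right : W i ⊓ W j ≤ W j) (t'' j)
    simp only [t'', rs_smul, ← ro_pow, ro_ro]
    rw [← sub_eq_zero, ← smul_sub, ro_pow, ← Nat.sub_add_cancel (hK ⟨(i, j), rfl⟩), pow_add, mul_smul,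
      hm (i, j), smul_zero]
  obtain ⟨g, hg, -⟩ := TopCat.Sheaf.existsUnique_gluing' (⟨M.presheaf, M.isSheaf⟩ : TopCat.Sheaf Ab X.toTopCat)
    W U (fun i => homOfLE (hWU i)) hcov t'' hc
  refine ⟨K + N, g, TopCat.Sheaf.eq_of_locally_eq' (⟨M.presheaf, M.isSheaf⟩ : TopCat.Sheaf Ab X.toTopCat)
    (fun i => X.basicOpen (ro (hWU i) a)) (X.basicOpen a) (fun i => homOfLE (hle i)) ?_ _ _ fun i => ?_⟩
  · intro x hx
    obtain ⟨i, hi⟩ := Opens.mem_iSup.1 (hcov (X.basicOpen_le a hx))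
    exact Opens.mem_iSup.2 ⟨i, (basicOpen_ro (hWU i) a).ge ⟨hi, hx⟩⟩
  · show rs M (hle i) (rs M (X.basicOpen_le a) g) = rs M (hle i) _
    rw [rs_rs]
    have hgi : rs M (hWU i) g = t'' i := hg i
    rw [show rs M ((hle i).trans (X.basicOpen_le a)) g = rs M (X.basicOpen_le _) (rs M (hWU i) g) from
      (rs_rs M _ _ g).symm, hgi]
    simp only [t'', rs_smul, ht', ← ro_pow, ro_ro, ← mul_smul, ← Groth.L18.Frame.ro_mul, ← pow_add]

/-- Direct images of quasi-coherent modules along qcqs morphisms are quasi-coherent. -/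
theorem isQCoh_push (f : X ⟶ Y) [QuasiCompact f] [QuasiSeparated f] :
    Coh.IsQCoh ((Scheme.Modules.pushforward f).obj M) := by
  refine isQCoh_of_sections _ fun y => ?_
  obtain ⟨_, ⟨V, hV, rfl⟩, hyV, -⟩ :=
    Y.isBasis_affineOpens.exists_subset_of_mem_open (Set.mem_univ y) isOpen_univ
  have hc : IsCompact (f ⁻¹ᵁ V : Set X) := f.isCompact_preimage hV.isCompact
  have hq : IsQuasiSeparated (f ⁻¹ᵁ V : Set X) := f.isQuasiSeparated_preimage hV.isQuasiSeparated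
  refine ⟨V, hyV, hV, fun a => ⟨fun s => ?_, fun t h => ?_⟩⟩
  · have e : f ⁻¹ᵁ Y.basicOpen a = X.basicOpen (f.app V a) := Scheme.preimage_basicOpen f a
    obtain ⟨n, t, ht⟩ := exists_pow_smul_eq_res M hc hq (f.app V a)
      (rs M e.ge (show Γ(M, f ⁻¹ᵁ Y.basicOpen a) from s))
    refine ⟨n, t, ?_⟩
    have h2 := congrArg (rs M e.le) ht
    rw [rs_rs, rs_smul, rs_rs, rs_self, ro_ro] at h2
    rw [Groth.L00.PullStalk.push_smul]
    show rs M _ (show Γ(M, f ⁻¹ᵁ V) from t) = _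
    rw [h2]
    congr 1
    rw [← map_pow (f.app V).hom]
    exact (ConcreteCategory.congr_hom (f.naturality (homOfLE (Y.basicOpen_le a)).op) (a ^ n)).symm
  · have e : f ⁻¹ᵁ Y.basicOpen a = X.basicOpen (f.app V a) := Scheme.preimage_basicOpen f a
    have h2 : rs M (X.basicOpen_le (f.app V a)) (show Γ(M, f ⁻¹ᵁ V) from t) = 0 := by
      have h3 := congrArg (rs M e.ge) (show rs M (Scheme.Hom.preimage_mono f (Y.basicOpen_le a))
        (show Γ(M, f ⁻¹ᵁ V) from t) = 0 from h)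
      rw [rs_rs] at h3
      exact h3.trans (map_zero _)
    obtain ⟨n, hn⟩ := exists_pow_smul_eq_zero M hc (f.app V a) _ h2
    refine ⟨n, ?_⟩
    rw [Groth.L00.PullStalk.push_smul, map_pow (f.app V).hom]
    exact hn

end Groth.L16.QcqsPush
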