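import Groth.Prelude.Def_Coh
import Groth.Agent.L21.Mod.Stalks
import Groth.Agent.L17.SheafExt
import Mathlib.Algebra.Homology.DerivedCategory.Ext.ExactSequences
import Mathlib.RingTheory.Noetherian.Basic
import Mathlib.CategoryTheory.Preadditive.Biproducts

/-!
`Coh.HH` is a linear functor; the long exact sequence is linear; finiteness along short exact sequences.
-/

universe u

open CategoryTheory CategoryTheory.Limits CategoryTheory.Abelian AlgebraicGeometry Opposite TopologicalSpace

namespace Groth.L16.CohLinear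

variable {X : Scheme.{u}}

/-- The underlying abelian sheaf as a functor. -/
noncomputable abbrev tF (X : Scheme.{u}) : X.Modules ⥤ Sheaf (Opens.grothendieckTopology X) AddCommGrpCat.{u} :=
  SheafOfModules.toSheaf X.ringCatSheaf

noncomputable instance : (tF X).Additive :=
  inferInstanceAs (SheafOfModules.toSheaf X.ringCatSheaf).Additive

instance : PreservesFiniteLimits (tF X) := inferInstanceAs (PreservesFiniteLimits (Groth.L21.Mod.toAbSh X))

instance : PreservesFiniteColimits (tF X) :=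
  inferInstanceAs (PreservesFiniteColimits (Groth.L21.Mod.toAbSh X))

/-- The map on underlying abelian sheaves. -/
noncomputable abbrev tm {M N : X.Modules} (f : M ⟶ N) : Coh.toAb M ⟶ Coh.toAb N := (tF X).map f

theorem smulAb_naturality {M N : X.Modules} (f : M ⟶ N) (r : Coh.Γtop X) :
    Coh.smulAb M r ≫ tm f = tm f ≫ Coh.smulAb N r := by
  ext U m
  exact (f.val.app U).hom.map_smul (Coh.resTop X U r) m

/-- The map on cohomology, linear over global functions. -/
noncomputable def hmap {M N : X.Modules} (f : M ⟶ N) (n : ℕ) :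
    Coh.HH X M n →ₗ[Coh.Γtop X] Coh.HH X N n :=
  { Sheaf.H.map (tm f) n with
    map_smul' := fun r x => by
      change Sheaf.H.map (tm f) n (Sheaf.H.map (Coh.smulAb M r) n x) =
        Sheaf.H.map (Coh.smulAb N r) n (Sheaf.H.map (tm f) n x)
      rw [← Sheaf.H.map_comp_apply, ← Sheaf.H.map_comp_apply, smulAb_naturality] }

theorem hmap_comp {M N P : X.Modules} (f : M ⟶ N) (g : N ⟶ P) (n : ℕ) (x : Coh.HH X M n) :
    hmap (f ≫ g) n x = hmap g n (hmap f n x) := by
  change Sheaf.H.map (tm (f ≫ g)) n x = Sheaf.H.map (tm g) n (Sheaf.H.map (tm f) n x)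
  rw [← Sheaf.H.map_comp_apply, tm, Functor.map_comp]

theorem hmap_id {M : X.Modules} (n : ℕ) (x : Coh.HH X M n) : hmap (𝟙 M) n x = x := by
  change Sheaf.H.map (tm (𝟙 M)) n x = x
  rw [tm, CategoryTheory.Functor.map_id]
  exact Sheaf.H.map_id_apply x

section Aux

universe w v t

variable {C : Type t} [Category.{v} C] [Abelian C] [HasExt.{w} C] {Z : C}
  {S : ShortComplex C} (hS : S.ShortExact) (n : ℕ)

include hS in
theorem ext_delta_comm (a₁ : S.X₁ ⟶ S.X₁) (a₂ : S.X₂ ⟶ S.X₂) (a₃ : S.X₃ ⟶ S.X₃)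
    (h₁₂ : a₁ ≫ S.f = S.f ≫ a₂) (h₂₃ : a₂ ≫ S.g = S.g ≫ a₃) (x : Ext Z S.X₃ n) :
    (x.comp (Ext.mk₀ a₃) (add_zero n)).comp hS.extClass (rfl : n + 1 = n + 1) =
      (x.comp hS.extClass (rfl : n + 1 = n + 1)).comp (Ext.mk₀ a₁) (add_zero (n + 1)) := by
  let τ : S ⟶ S := { τ₁ := a₁, τ₂ := a₂, τ₃ := a₃, comm₁₂ := h₁₂, comm₂₃ := h₂₃ }
  rw [Ext.comp_assoc_of_second_deg_zero, Ext.comp_assoc_of_third_deg_zero]
  exact congrArg (fun z => Ext.comp x z (rfl : n + 1 = n + 1))
    (ShortComplex.ShortExact.extClass_naturality hS hS τ).symm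

include hS in
theorem ext_exact₂ : Function.Exact (fun x : Ext Z S.X₁ n => x.comp (Ext.mk₀ S.f) (add_zero n))
    (fun x : Ext Z S.X₂ n => x.comp (Ext.mk₀ S.g) (add_zero n)) := fun y =>
  ⟨fun hy => Ext.covariant_sequence_exact₂ _ hS y hy, by
    rintro ⟨x, rfl⟩
    simp⟩

include hS in
theorem ext_exact₃ : Function.Exact (fun x : Ext Z S.X₂ n => x.comp (Ext.mk₀ S.g) (add_zero n))
    (fun x : Ext Z S.X₃ n => x.comp hS.extClass (rfl : n + 1 = n + 1)) := fun y =>
  ⟨fun hy => Ext.covariant_sequence_exact₃ _ hS y rfl hy, by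
    rintro ⟨x, rfl⟩
    simp only
    rw [Ext.comp_assoc_of_second_deg_zero, hS.comp_extClass, Ext.comp_zero]⟩

include hS in
theorem ext_exact₁ : Function.Exact (fun x : Ext Z S.X₃ n => x.comp hS.extClass (rfl : n + 1 = n + 1))
    (fun x : Ext Z S.X₁ (n + 1) => x.comp (Ext.mk₀ S.f) (add_zero (n + 1))) := fun y =>
  ⟨fun hy => Ext.covariant_sequence_exact₁ _ hS y hy rfl, by
    rintro ⟨x, rfl⟩
    simp only
    rw [Ext.comp_assoc_of_third_deg_zero, hS.extClass_comp, Ext.comp_zero]⟩

end Aux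

theorem hMap_sum {C : Type*} [Category C] {J : GrothendieckTopology C} [HasSheafify J AddCommGrpCat.{u}]
    [HasExt.{u} (Sheaf J AddCommGrpCat.{u})] {F G : Sheaf J AddCommGrpCat.{u}} {ι : Type*} (s : Finset ι)
    (f : ι → (F ⟶ G)) (n : ℕ) (x : Sheaf.H F n) :
    Sheaf.H.map (∑ j ∈ s, f j) n x = ∑ j ∈ s, Sheaf.H.map (f j) n x := by
  classical
  induction s using Finset.induction_on with
  | empty =>
    rw [Finset.sum_empty, Finset.sum_empty]
    change ((Sheaf.functorH _ n).map (0 : F ⟶ G)).hom x = 0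
    rw [Functor.map_zero]; rfl
  | insert j s hj ih => rw [Finset.sum_insert hj, Finset.sum_insert hj, Sheaf.H.map_add_apply, ih]

section SES

variable {S : ShortComplex X.Modules} (hS : S.ShortExact)

/-- The sequence of underlying sheaves. -/
noncomputable abbrev abS (S : ShortComplex X.Modules) :
    ShortComplex (Sheaf (Opens.grothendieckTopology X) AddCommGrpCat.{u}) :=
  ShortComplex.mk (X₁ := Coh.toAb S.X₁) (X₂ := Coh.toAb S.X₂) (X₃ := Coh.toAb S.X₃) (tm S.f) (tm S.g)
    (((tF X).map_comp S.f S.g).symm.trans ((congrArg (tF X).map S.zero).trans ((tF X).map_zero _ _)))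

include hS in
theorem abS_shortExact : (abS S).ShortExact := hS.map_of_exact (tF X)

/-- The constant sheaf `ℤ`. -/
noncomputable abbrev ZS (X : Scheme.{u}) : Sheaf (Opens.grothendieckTopology X) AddCommGrpCat.{u} :=
  (constantSheaf (Opens.grothendieckTopology X) AddCommGrpCat.{u}).obj (AddCommGrpCat.of (ULift.{u} ℤ))

/-- The connecting map as an additive map. -/
noncomputable def deltaAdd (n : ℕ) : Coh.HH X S.X₃ n →+ Coh.HH X S.X₁ (n + 1) :=
  (abS_shortExact hS).extClass.postcomp (ZS X) (rfl : n + 1 = n + 1)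

theorem deltaAdd_apply (n : ℕ) (x : Ext (ZS X) (Coh.toAb S.X₃) n) :
    deltaAdd hS n x = x.comp (abS_shortExact hS).extClass (rfl : n + 1 = n + 1) := rfl

theorem hMap_apply {M N : X.Modules} (f : Coh.toAb M ⟶ Coh.toAb N) (n : ℕ) (x : Ext (ZS X) (Coh.toAb M) n) :
    Sheaf.H.map f n x = x.comp (Ext.mk₀ f) (add_zero n) := rfl

theorem smul_apply (M : X.Modules) (n : ℕ) (r : Coh.Γtop X) (x : Coh.HH X M n) :
    r • x = Sheaf.H.map (Coh.smulAb M r) n x := rfl

theorem hmap_apply {M N : X.Modules} (f : M ⟶ N) (n : ℕ) (x : Coh.HH X M n) :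
    hmap f n x = Sheaf.H.map (tm f) n x := rfl

include hS in
theorem deltaAdd_smul (n : ℕ) (r : Coh.Γtop X) (x : Coh.HH X S.X₃ n) :
    deltaAdd hS n (r • x) = r • deltaAdd hS n x := by
  rw [smul_apply, smul_apply, hMap_apply, hMap_apply, deltaAdd_apply, deltaAdd_apply]
  exact ext_delta_comm (abS_shortExact hS) n (Coh.smulAb S.X₁ r) (Coh.smulAb S.X₂ r)
      (Coh.smulAb S.X₃ r) (smulAb_naturality S.f r) (smulAb_naturality S.g r) x

/-- The connecting map, linear over global functions. -/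
noncomputable def delta (n : ℕ) : Coh.HH X S.X₃ n →ₗ[Coh.Γtop X] Coh.HH X S.X₁ (n + 1) where
  toFun x := deltaAdd hS n x
  map_add' := map_add _
  map_smul' r x := deltaAdd_smul hS n r x

theorem delta_apply (n : ℕ) (x : Coh.HH X S.X₃ n) : delta hS n x = deltaAdd hS n x := rfl

include hS in
theorem exact_hmap_hmap (n : ℕ) : Function.Exact (hmap S.f n) (hmap S.g n) := by
  have h := ext_exact₂ (Z := ZS X) (abS_shortExact hS) n
  intro y
  constructor
  · intro hy
    rw [hmap_apply, hMap_apply] at hy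
    obtain ⟨x, hx⟩ := (h y).1 hy
    exact ⟨x, (hmap_apply S.f n x).trans ((hMap_apply _ n x).trans hx)⟩
  · rintro ⟨x, rfl⟩
    rw [hmap_apply, hmap_apply, hMap_apply, hMap_apply]
    exact (h _).2 ⟨x, rfl⟩

include hS in
theorem exact_hmap_delta (n : ℕ) : Function.Exact (hmap S.g n) (delta hS n) := by
  have h := ext_exact₃ (Z := ZS X) (abS_shortExact hS) n
  intro y
  constructor
  · intro hy
    rw [delta_apply, deltaAdd_apply] at hy
    obtain ⟨x, hx⟩ := (h y).1 hy
    exact ⟨x, (hmap_apply S.g n x).trans ((hMap_apply _ n x).trans hx)⟩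
  · rintro ⟨x, rfl⟩
    rw [hmap_apply, hMap_apply, delta_apply, deltaAdd_apply]
    exact (h _).2 ⟨x, rfl⟩

include hS in
theorem exact_delta_hmap (n : ℕ) : Function.Exact (delta hS n) (hmap S.f (n + 1)) := by
  have h := ext_exact₁ (Z := ZS X) (abS_shortExact hS) n
  intro y
  constructor
  · intro hy
    rw [hmap_apply, hMap_apply] at hy
    obtain ⟨x, hx⟩ := (h y).1 hy
    exact ⟨x, (delta_apply hS n x).trans ((deltaAdd_apply hS n x).trans hx)⟩
  · rintro ⟨x, rfl⟩
    rw [delta_apply, deltaAdd_apply, hmap_apply, hMap_apply]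
    exact (h _).2 ⟨x, rfl⟩

end SES

section Over

variable (A : Type u) [CommRing A] [X.Over (Spec (CommRingCat.of A))]

/-- A map linear over global functions is linear over the base. -/
noncomputable def overLin {M N : X.Modules} {m n : ℕ} (f : Coh.HH X M m →ₗ[Coh.Γtop X] Coh.HH X N n) :
    Coh.HH X M m →ₗ[A] Coh.HH X N n :=
  { f.toAddMonoidHom with map_smul' := fun _ x => f.map_smul _ x }

variable [IsNoetherianRing A]

theorem finite_of_exact {P Q S : Type*} [AddCommGroup P] [Module A P] [AddCommGroup Q] [Module A Q]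
    [AddCommGroup S] [Module A S] (f : P →ₗ[A] Q) (g : Q →ₗ[A] S) (h : Function.Exact f g)
    [Module.Finite A P] [Module.Finite A S] : Module.Finite A Q := by
  refine ⟨Submodule.fg_of_fg_map_of_fg_inf_ker g (IsNoetherian.noetherian _) ?_⟩
  rw [top_inf_eq, LinearMap.exact_iff.1 h, LinearMap.range_eq_map]
  exact Module.Finite.fg_top.map f

/-- The middle of a short exact sequence. -/
theorem finite_middle {S : ShortComplex X.Modules} (hS : S.ShortExact) (n : ℕ)
    [Module.Finite A (Coh.HH X S.X₁ n)] [Module.Finite A (Coh.HH X S.X₃ n)] :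
    Module.Finite A (Coh.HH X S.X₂ n) :=
  finite_of_exact A (overLin A (hmap S.f n)) (overLin A (hmap S.g n)) (exact_hmap_hmap hS n)

/-- The quotient of a short exact sequence. -/
theorem finite_right {S : ShortComplex X.Modules} (hS : S.ShortExact) (n : ℕ)
    [Module.Finite A (Coh.HH X S.X₂ n)] [Module.Finite A (Coh.HH X S.X₁ (n + 1))] :
    Module.Finite A (Coh.HH X S.X₃ n) :=
  finite_of_exact A (overLin A (hmap S.g n)) (overLin A (delta hS n)) (exact_hmap_delta hS n)

theorem finite_left {S : ShortComplex X.Modules} (hS : S.ShortExact) (n : ℕ)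
    [Module.Finite A (Coh.HH X S.X₃ n)] [Module.Finite A (Coh.HH X S.X₂ (n + 1))] :
    Module.Finite A (Coh.HH X S.X₁ (n + 1)) :=
  finite_of_exact A (overLin A (delta hS n)) (overLin A (hmap S.f (n + 1))) (exact_delta_hmap hS n)

omit [IsNoetherianRing A] in
theorem finite_of_iso {M N : X.Modules} (e : M ≅ N) (n : ℕ) [Module.Finite A (Coh.HH X M n)] :
    Module.Finite A (Coh.HH X N n) :=
  Module.Finite.of_surjective (overLin A (hmap e.hom n)) fun y =>
    ⟨hmap e.inv n y, (hmap_comp e.inv e.hom n y).symm.trans (by rw [e.inv_hom_id]; exact hmap_id n y)⟩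

omit [IsNoetherianRing A] in
/-- Finite coproducts. -/
theorem finite_sigma {r : ℕ} (M : Fin r → X.Modules) (n : ℕ)
    [∀ j, Module.Finite A (Coh.HH X (M j) n)] : Module.Finite A (Coh.HH X (∐ M) n) := by
  classical
  let L := LinearMap.lsum A (fun j => Coh.HH X (M j) n) A fun j => overLin A (hmap (Sigma.ι M j) n)
  refine Module.Finite.of_surjective L fun x => ?_
  let p : ∀ j, ∐ M ⟶ M j := fun j => Sigma.desc fun i =>
    if h : i = j then eqToHom (congrArg M h) else 0
  refine ⟨fun j => hmap (p j) n x, ?_⟩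
  have hid : 𝟙 (∐ M) = ∑ j, p j ≫ Sigma.ι M j := by
    refine Sigma.hom_ext _ _ fun i => ?_
    rw [Category.comp_id, Preadditive.comp_sum, Finset.sum_eq_single i]
    · simp [p]
    · intro j _ hj
      simp [p, Ne.symm hj]
    · simp
  rw [show L (fun j => hmap (p j) n x) = ∑ j, hmap (Sigma.ι M j) n (hmap (p j) n x) from
    (LinearMap.congr_fun (LinearMap.lsum_apply A (fun j => Coh.HH X (M j) n) A _) _).trans
      ((LinearMap.sum_apply _ _ _).trans (Finset.sum_congr rfl fun j _ => rfl))]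
  conv_rhs => rw [← hmap_id n x, hid]
  simp only [← hmap_comp]
  change _ = Sheaf.H.map (tm (∑ j, p j ≫ Sigma.ι M j)) n x
  rw [tm, Functor.map_sum]
  exact (hMap_sum Finset.univ _ n x).symm

end Over

end Groth.L16.CohLinear
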