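import Groth.Agent.L16.CohSupport
import Groth.Agent.L17.ClosedPush
import Groth.Agent.L18.KerReduced
import Mathlib.AlgebraicGeometry.FunctionField

/-!
Direct images of coherent modules along closed immersions; integral closed subschemes at points.
-/

universe u

open CategoryTheory CategoryTheory.Limits AlgebraicGeometry TopologicalSpace Opposite

namespace Groth.L16.CohClosedPush

open Groth.L18.Frame (rs ro rs_rs ro_ro rs_smul rs_self)

variable {X Z : Scheme.{u}}

/-- Quasi-coherent modules with finite sections on affine opens are coherent. -/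
theorem isCoh_of_finite_sections (M : X.Modules) [Coh.IsQCoh M]
    (h : ∀ x : X, ∃ V : X.Opens, x ∈ V ∧ IsAffineOpen V ∧ Module.Finite Γ(X, V) Γ(M, V)) : Coh.IsCoh M := by
  refine CohKernel.isCoh_of_tilde_charts _ fun x => ?_
  obtain ⟨V, hxV, hV, hfin⟩ := h x
  haveI : (M.restrict hV.fromSpec).IsQuasicoherent := Scheme.Modules.isQuasicoherent_restrictFunctor _ M
  refine ⟨_, hV.fromSpec, inferInstance, (moduleSpecΓFunctor (R := Γ(X, V))).obj (M.restrict hV.fromSpec),
    hV.opensRange_fromSpec.ge hxV, ?_, ⟨(asIso (M.restrict hV.fromSpec).fromTildeΓ).symm⟩⟩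
  have e2 : hV.fromSpec ''ᵁ ⊤ = V := by
    rw [Scheme.Hom.image_top_eq_opensRange, hV.opensRange_fromSpec]
  let φ : (moduleSpecΓFunctor (R := Γ(X, V))).obj (M.restrict hV.fromSpec) →ₗ[Γ(X, V)] Γ(M, V) :=
    { toFun := fun s => rs M e2.ge (show Γ(M, hV.fromSpec ''ᵁ ⊤) from s)
      map_add' := fun a b => map_add (M.presheaf.map (homOfLE e2.ge).op).hom a b
      map_smul' := fun r s => Groth.L20.ModStalk.finitePresentation_sections_affine.appIso_smul M hV r
        (show Γ(M, hV.fromSpec ''ᵁ ⊤) from s) }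
  have hφ : Function.Bijective φ := by
    refine Function.bijective_iff_has_inverse.2
      ⟨fun t => (show Γ(M, hV.fromSpec ''ᵁ ⊤) from rs M e2.le t), fun s => ?_, fun t => ?_⟩
    · show rs M e2.le (rs M e2.ge _) = _
      rw [rs_rs]
      exact rs_self M _ _
    · show rs M e2.ge (rs M e2.le t) = t
      rw [rs_rs]
      exact rs_self M _ _
  exact Module.Finite.equiv (LinearEquiv.ofBijective φ hφ).symm

variable (i : Z ⟶ X) [IsClosedImmersion i]

/-- Direct image along a closed immersion preserves coherence. -/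
theorem isCoh_push {M : Z.Modules} (hM : Coh.IsCoh M) : Coh.IsCoh ((Coh.push i).obj M) := by
  haveI : Coh.IsQCoh M := hM.1
  haveI : Coh.IsQCoh ((Coh.push i).obj M) := QcqsPush.isQCoh_push M i
  refine isCoh_of_finite_sections _ fun x => ?_
  obtain ⟨_, ⟨V, hV, rfl⟩, hxV, -⟩ :=
    X.isBasis_affineOpens.exists_subset_of_mem_open (Set.mem_univ x) isOpen_univ
  haveI : Module.Finite Γ(Z, i ⁻¹ᵁ V) Γ(M, i ⁻¹ᵁ V) :=
    Groth.L20.ModStalk.finite_sections M hM (hV.preimage i)
  refine ⟨V, hxV, hV, ?_⟩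
  obtain ⟨s, hs⟩ := Module.Finite.fg_top (R := Γ(Z, i ⁻¹ᵁ V)) (M := Γ(M, i ⁻¹ᵁ V))
  classical
  refine ⟨⟨s.image (fun z : Γ(M, i ⁻¹ᵁ V) => (show Γ((Coh.push i).obj M, V) from z)), top_le_iff.1 fun m _ => ?_⟩⟩
  rw [Finset.coe_image]
  have hall : ∀ m' : Γ(M, i ⁻¹ᵁ V), m' ∈ Submodule.span Γ(Z, i ⁻¹ᵁ V) (s : Set Γ(M, i ⁻¹ᵁ V)) :=
    fun m' => hs ▸ Submodule.mem_top
  have hm := hall m
  refine Submodule.span_induction (p := fun (z : Γ(M, i ⁻¹ᵁ V)) _ => (show Γ((Coh.push i).obj M, V) from z) ∈
    Submodule.span Γ(X, V) ((fun z : Γ(M, i ⁻¹ᵁ V) => (show Γ((Coh.push i).obj M, V) from z)) '' s))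
    (fun z hz => Submodule.subset_span ⟨z, hz, rfl⟩) (Submodule.zero_mem _)
    (fun _ _ _ _ h₁ h₂ => Submodule.add_mem _ h₁ h₂) (fun a z _ hz => ?_) hm
  obtain ⟨b, rfl⟩ := i.app_surjective V hV a
  exact Submodule.smul_mem _ b hz

/-- The direct image lives on the image. -/
theorem support_push_subset (M : Z.Modules) : CohB1.support ((Coh.push i).obj M) ⊆ Set.range i := by
  intro p hp
  by_contra h
  exact hp (Groth.L17.ClosedPush.subsingleton_stalk_push i M h)

/-- If a direct image along a closed immersion is quasi-coherent, so is the module. -/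
theorem isQCoh_of_push (M : Z.Modules) [Coh.IsQCoh ((Coh.push i).obj M)] : Coh.IsQCoh M := by
  refine QcqsPush.isQCoh_of_sections _ fun z => ?_
  obtain ⟨_, ⟨V, hV, rfl⟩, hzV, -⟩ :=
    X.isBasis_affineOpens.exists_subset_of_mem_open (Set.mem_univ (i z)) isOpen_univ
  refine ⟨i ⁻¹ᵁ V, hzV, hV.preimage i, fun a => ?_⟩
  obtain ⟨b, rfl⟩ := i.app_surjective V hV a
  have e : i ⁻¹ᵁ X.basicOpen b = Z.basicOpen (i.app V b) := Scheme.preimage_basicOpen i b
  let P := (Coh.push i).obj M
  refine ⟨fun s => ?_, fun t ht => ?_⟩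
  · obtain ⟨n, t, ht⟩ := Groth.L16.QCohSect.exists_pow_smul_eq_res hV P b
      (show Γ(P, X.basicOpen b) from rs M e.le s)
    refine ⟨n, t, ?_⟩
    rw [Groth.L00.PullStalk.push_smul] at ht
    have h2 := congrArg (rs M e.ge) (show rs M (Scheme.Hom.preimage_mono i (X.basicOpen_le b))
      (show Γ(M, i ⁻¹ᵁ V) from t) = i.app _ (ro (X.basicOpen_le b) (b ^ n)) • rs M e.le s from ht)
    rw [rs_rs, rs_smul, rs_rs, rs_self] at h2
    refine h2.trans ?_
    congr 1
    rw [show i.app _ (ro (X.basicOpen_le b) (b ^ n)) =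
        ro (Scheme.Hom.preimage_mono i (X.basicOpen_le b)) (i.app V (b ^ n)) from
      ConcreteCategory.congr_hom (i.naturality (homOfLE (X.basicOpen_le b)).op) (b ^ n), ro_ro, map_pow]
  · obtain ⟨n, hn⟩ := Groth.L16.QCohSect.exists_pow_smul_eq_zero hV P b (show Γ(P, V) from t) (by
      show rs M (Scheme.Hom.preimage_mono i (X.basicOpen_le b)) t = 0
      have h3 := congrArg (rs M e.le) ht
      rw [rs_rs] at h3
      exact h3.trans (map_zero _))
    refine ⟨n, ?_⟩
    rw [Groth.L00.PullStalk.push_smul, map_pow] at hn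
    exact hn

theorem isCoh_structure [IsLocallyNoetherian X] : Coh.IsCoh (Coh.structureModule X) := by
  haveI : Coh.IsQCoh (Coh.structureModule X) := by
    refine QcqsPush.isQCoh_of_sections _ fun x => ?_
    obtain ⟨_, ⟨V, hV, rfl⟩, hxV, -⟩ :=
      X.isBasis_affineOpens.exists_subset_of_mem_open (Set.mem_univ x) isOpen_univ
    refine ⟨V, hxV, hV, fun a => ?_⟩
    haveI := hV.isLocalization_basicOpen a
    refine ⟨fun s => ?_, fun t ht => ?_⟩
    · obtain ⟨n, t, ht⟩ := IsLocalization.Away.surj a (show Γ(X, X.basicOpen a) from s)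
      exact ⟨n, t, (ht.symm.trans (mul_comm _ _)).trans (congrArg (· * _) (map_pow _ a n).symm)⟩
    · obtain ⟨⟨_, n, rfl⟩, hn⟩ := (IsLocalization.map_eq_zero_iff (Submonoid.powers a)
        Γ(X, X.basicOpen a) (show Γ(X, V) from t)).1 ht
      exact ⟨n, hn⟩
  refine isCoh_of_finite_sections _ fun x => ?_
  obtain ⟨_, ⟨V, hV, rfl⟩, hxV, -⟩ :=
    X.isBasis_affineOpens.exists_subset_of_mem_open (Set.mem_univ x) isOpen_univ
  exact ⟨V, hxV, hV, inferInstanceAs (Module.Finite Γ(X, V) Γ(X, V))⟩

/-- Integral closed subschemes through every point as generic point. -/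
theorem exists_integral (y : X) :
    ∃ (Z : Scheme.{u}) (i : Z ⟶ X) (_ : IsClosedImmersion i) (_ : IsIntegral Z),
      i (genericPoint Z) = y ∧ Set.range i = closure {y} := by
  let T : Closeds X := ⟨closure {y}, isClosed_closure⟩
  set I := Scheme.IdealSheafData.vanishingIdeal T
  have hr : Set.range I.subschemeι = closure {y} := by
    rw [Scheme.IdealSheafData.range_subschemeι, Groth.L18.support_vanishingIdeal]; rfl
  haveI : IsReduced I.subscheme := Groth.L18.isReduced_vanishingIdeal_subscheme T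
  let e := I.subschemeι.isEmbedding.toHomeomorph
  have hir : IsIrreducible (Set.range I.subschemeι) := by
    rw [hr]; exact isIrreducible_singleton.closure
  haveI : IrreducibleSpace (Set.range I.subschemeι) := Subtype.irreducibleSpace hir
  haveI : IrreducibleSpace I.subscheme := by
    rw [irreducibleSpace_def, Set.top_eq_univ, ← Set.image_univ_of_surjective e.symm.surjective]
    exact ((irreducibleSpace_def _).mp inferInstance).image e.symm e.symm.continuous.continuousOn
  haveI : IsIntegral I.subscheme := isIntegral_of_irreducibleSpace_of_isReduced _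
  refine ⟨I.subscheme, I.subschemeι, inferInstance, inferInstance, ?_, hr⟩
  have h1 := (genericPoint_spec I.subscheme).image I.subschemeι.continuous
  rw [Set.image_univ, hr, closure_closure] at h1
  exact h1.eq isGenericPoint_closure

/-- The stalk of the structure sheaf of an integral closed subscheme at its generic point is simple. -/
theorem len_push_structure [IsIntegral Z] :
    CohSupport.len (i (genericPoint Z)) ((Coh.push i).obj (Coh.structureModule Z)) = 1 := by
  let η := genericPoint Z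
  let c := Groth.L17.ClosedPush.c₀ i (Coh.structureModule Z) η
  have hb : Function.Bijective c := Groth.L17.ClosedPush.c₀_bijective i _ η
  letI : Field (Z.presheaf.stalk η) := inferInstanceAs (Field Z.functionField)
  let P := Groth.L00.Tensor.pre (Coh.structureModule Z)
  let one : Groth.L00.StalkTensor.St P η :=
    Groth.L00.StalkTensor.germ P η (U := ⊤) trivial (1 : Γ(Z, ⊤))
  have hgen : ∀ v : Groth.L00.StalkTensor.St P η, ∃ r : Z.presheaf.stalk η, r • one = v := by
    intro v
    obtain ⟨U, hU, m, rfl⟩ := Groth.L00.StalkTensor.exists_germ P η v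
    refine ⟨Z.presheaf.germ U η hU m, ?_⟩
    have h1 : one = Groth.L00.StalkTensor.germ P η hU (1 : Γ(Z, U)) := by
      refine (Groth.L00.StalkTensor.germ_rs P η (homOfLE (le_top : U ≤ ⊤)) hU (1 : Γ(Z, ⊤))).symm.trans ?_
      exact congrArg _ (map_one (Z.presheaf.map (homOfLE (le_top : U ≤ ⊤)).op).hom)
    rw [h1, ← Groth.L00.StalkTensor.germ_smul']
    exact congrArg _ (mul_one (show Γ(Z, U) from m))
  have hone : one ≠ 0 := by
    intro h
    obtain ⟨W, hW, i₁, i₂, hi⟩ := Groth.L00.StalkTensor.germ_eq P η (U := ⊤) (V := ⊤) trivial trivial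
      (m := (1 : Γ(Z, ⊤))) (n := 0) (h.trans (map_zero _).symm)
    have : Nonempty W := ⟨⟨η, hW⟩⟩
    exact one_ne_zero (α := Γ(Z, W)) ((map_one (Z.presheaf.map i₁.op).hom).symm.trans (hi.trans (map_zero _)))
  refine Module.length_eq_one_iff.2 ?_
  rw [isSimpleModule_iff_toSpanSingleton_surjective]
  refine ⟨?_, fun m hm z => ?_⟩
  · obtain ⟨o, ho⟩ := hb.2 one
    exact ⟨⟨o, 0, fun h => hone (ho.symm.trans ((congrArg c h).trans (map_zero c)))⟩⟩
  · obtain ⟨a, ha⟩ := hgen (c m)
    obtain ⟨b, hb'⟩ := hgen (c z)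
    have ha0 : a ≠ 0 := fun h => hm (hb.1 ((ha.symm.trans
      ((congrArg (· • one) h).trans (zero_smul _ _))).trans (map_zero c).symm))
    obtain ⟨r, hr⟩ := i.stalkMap_surjective η (b * a⁻¹)
    refine ⟨r, hb.1 ?_⟩
    refine (Groth.L17.ClosedPush.c₀_smul i _ η r m).trans ?_
    show ((i.stalkMap η) r : Z.presheaf.stalk η) • c m = c z
    rw [← ha, ← hb', hr, smul_smul, inv_mul_cancel_right₀ ha0]

omit [IsClosedImmersion i] in
/-- A map out of the structure sheaf of an integral closed subscheme which is injective at the generic point. -/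
theorem mono_of_injective_generic [IsIntegral Z] {Q : X.Modules}
    (φ : (Coh.push i).obj (Coh.structureModule Z) ⟶ Q)
    (h : Function.Injective ((Groth.L00.Stk.F X (i (genericPoint Z))).map φ)) : Mono φ := by
  let η := genericPoint Z
  rw [Groth.L21.Mod.mono_iff_stalk_injective]
  intro p
  refine (injective_iff_map_eq_zero _).2 fun v hv => ?_
  obtain ⟨U, hpU, s, rfl⟩ := TopCat.Presheaf.exists_germ_eq
    (F := ((Coh.push i).obj (Coh.structureModule Z)).presheaf) v
  rw [Groth.L21.Mod.stalkF_map_germ] at hv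
  obtain ⟨W, hpW, i₁, i₂, hW⟩ := TopCat.Presheaf.germ_eq Q.presheaf p hpU hpU _ 0 (hv.trans (map_zero _).symm)
  let s' := rs ((Coh.push i).obj (Coh.structureModule Z)) i₁.le s
  have hs' : φ.app W s' = 0 := by
    refine (EpiFrames.app_rs φ i₁.le s).trans ?_
    exact hW.trans (map_zero _)
  have h0 : s' = 0 := by
    by_cases hne : Nonempty (i ⁻¹ᵁ W : Z.Opens)
    · have hη : η ∈ (i ⁻¹ᵁ W : Z.Opens) :=
        ((genericPoint_spec Z).mem_open_set_iff (i ⁻¹ᵁ W).2).2 (by
          obtain ⟨⟨z, hz⟩⟩ := hne; exact ⟨z, trivial, hz⟩)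
      have h1 := Groth.L20.ModStalk.germ_rs ((Coh.push i).obj (Coh.structureModule Z)) le_rfl
        (show i η ∈ W from hη) s'
      have h2 : ((Coh.push i).obj (Coh.structureModule Z)).presheaf.germ W (i η) hη s' = 0 := by
        apply h
        refine (DerSch.stalkFunctor_map_germ (i η) φ W hη s').trans ?_
        rw [hs', map_zero]
        exact (map_zero _).symm
      have h3 := congrArg (Groth.L17.ClosedPush.c₀ i (Coh.structureModule Z) η) h2
      have h4 : Groth.L00.StalkTensor.germ (Groth.L00.Tensor.pre (Coh.structureModule Z)) η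
          (show η ∈ i ⁻¹ᵁ W from hη) (show Γ(Z, i ⁻¹ᵁ W) from s') = 0 :=
        (Groth.L17.ClosedPush.c₀_germ i (Coh.structureModule Z) η (V := W) hη s').symm.trans
          (h3.trans (map_zero _))
      obtain ⟨W', hW', j₁, j₂, hj⟩ := Groth.L00.StalkTensor.germ_eq _ η hη hη
        (n := (0 : Γ(Z, i ⁻¹ᵁ W))) (h4.trans (map_zero _).symm)
      refine germ_injective_of_isIntegral Z η (show η ∈ i ⁻¹ᵁ W from hη) ?_
      refine (Z.presheaf.germ_res_apply j₁ η hW' _).symm.trans ((congrArg _ hj).trans ?_)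
      exact Z.presheaf.germ_res_apply j₂ η hW' (0 : Γ(Z, i ⁻¹ᵁ W))
    · haveI : Subsingleton Γ(Z, i ⁻¹ᵁ W) := by
        rw [show i ⁻¹ᵁ W = ⊥ from TopologicalSpace.Opens.ext (Set.eq_empty_iff_forall_notMem.2 fun z hz => hne ⟨⟨z, hz⟩⟩)]
        exact CommRingCat.subsingleton_of_isTerminal Z.sheaf.isTerminalOfEmpty
      exact Subsingleton.elim (α := Γ(Z, i ⁻¹ᵁ W)) _ _
  rw [← Groth.L20.ModStalk.germ_rs ((Coh.push i).obj (Coh.structureModule Z)) i₁.le hpW s]
  show ((Coh.push i).obj (Coh.structureModule Z)).presheaf.germ W p hpW s' = 0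
  rw [h0, map_zero]

/-- A submodule of the structure sheaf of a closed subscheme is the direct image of an ideal. -/
theorem exists_ideal [IsLocallyNoetherian X] {N : X.Modules} (hN : Coh.IsCoh N)
    (n : N ⟶ (Coh.push i).obj (Coh.structureModule Z)) [Mono n] :
    ∃ (I : Z.Modules) (ι : I ⟶ Coh.structureModule Z), Mono ι ∧ Coh.IsQCoh I ∧
      Nonempty ((Coh.push i).obj I ≅ N) := by
  let adj := Scheme.Modules.pullbackPushforwardAdjunction i
  let g := (adj.homEquiv N (Coh.structureModule Z)).symm n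
  haveI := Groth.L17.ClosedPush.preservesColimits_push i
  haveI : PreservesColimitsOfSize.{0, 0} (Coh.push i) := preservesColimitsOfSize_shrink.{0, u, 0, u} _
  haveI : (Coh.push i).IsRightAdjoint := adj.isRightAdjoint
  haveI : Epi (adj.unit.app N) := by
    rw [Groth.L21.Mod.epi_iff_stalk_surjective]
    intro p
    by_cases hp : p ∈ Set.range i
    · obtain ⟨x, rfl⟩ := hp
      intro w
      obtain ⟨q, hq⟩ := Groth.L17.ClosedPush.unit_extend_surjective i x _
        ((Groth.L00.PullStalk.stalkIso i x).hom.app N (Groth.L17.ClosedPush.c₀ i _ x w))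
      refine ⟨q, (Groth.L17.ClosedPush.c₀_bijective i _ x).1 ?_⟩
      apply (ConcreteCategory.bijective_of_isIso ((Groth.L00.PullStalk.stalkIso i x).hom.app N)).1
      exact (Groth.L17.ClosedPush.stalkIso_unit i N x q).trans hq
    · exact fun w => ⟨0, @Subsingleton.elim _
        (Groth.L17.ClosedPush.subsingleton_stalk_push i ((Scheme.Modules.pullback i).obj N) hp) _ _⟩
  let m := (Coh.push i).map (Abelian.image.ι g)
  let e := adj.unit.app N ≫ (Coh.push i).map (Abelian.factorThruImage g)
  have hfac : e ≫ m = n := by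
    rw [Category.assoc, ← Functor.map_comp, Abelian.image.fac]
    exact (adj.homEquiv_unit _ _ g).symm.trans (Equiv.apply_symm_apply _ n)
  haveI : Epi ((Coh.push i).map (Abelian.factorThruImage g)) := inferInstance
  haveI : Epi e := epi_comp _ _
  haveI : Mono (e ≫ m) := hfac ▸ ‹Mono n›
  haveI : Mono e := mono_of_mono e m
  haveI : IsIso e := isIso_of_mono_of_epi e
  haveI : Coh.IsQCoh ((Coh.push i).obj (Abelian.image g)) :=
    (CohSupport.isCoh_of_iso (asIso e) hN).1
  exact ⟨Abelian.image g, Abelian.image.ι g, inferInstance, isQCoh_of_push i _, ⟨(asIso e).symm⟩⟩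

end Groth.L16.CohClosedPush
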