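import Groth.Agent.L16.ProjSpace.SerreVanishing
import Groth.Agent.L16.CohClosedPush
import Groth.Agent.L18.SpecLine
import Groth.Agent.L21.Extend.Semilocal
import Groth.Agent.L17.AffinePush
import Groth.Agent.L17.OpenTransfer
import Mathlib.AlgebraicGeometry.Morphisms.Immersion
import Mathlib.AlgebraicGeometry.Morphisms.Proper

/-!
`π_* q^* O(d)`: vanishing and coherence over an affine open of the target, `d` large.
-/

universe u

open CategoryTheory CategoryTheory.Limits AlgebraicGeometry TopologicalSpace Opposite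

namespace Groth.L16.ProperVanishing

open Groth.L18.Frame (rs ro)

/-- Global sections of a module with finite `H⁰` are finitely generated over the base. -/
theorem finite_sections_top {X : Scheme.{u}} (A : Type u) [CommRing A] [X.Over (Spec (CommRingCat.of A))]
    (M : X.Modules) [Module.Finite A (Coh.HH X M 0)] :
    ∃ s : Finset Γ(M, ⊤), ∀ m : Γ(M, ⊤), ∃ c : Γ(M, ⊤) → A,
      m = ∑ x ∈ s, (show Γ(X, ⊤) from Coh.toGlobal (X ↘ Spec (CommRingCat.of A)) (c x)) • x := by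
  classical
  let hT : Limits.IsTerminal (⊤ : TopologicalSpace.Opens X) :=
    Limits.IsTerminal.ofUniqueHom (fun U => homOfLE le_top) (fun _ _ => Subsingleton.elim _ _)
  let E : Coh.HH X M 0 ≃+ Γ(M, ⊤) := CategoryTheory.Sheaf.H.equiv₀ (Coh.toAb M) hT
  have hE : ∀ (a : A) (x : Coh.HH X M 0),
      E (a • x) = (show Γ(X, ⊤) from Coh.toGlobal (X ↘ Spec (CommRingCat.of A)) a) • E x := by
    intro a x
    obtain ⟨y, rfl⟩ := E.symm.surjective x
    apply E.symm.injective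
    rw [AddEquiv.symm_apply_apply, AddEquiv.apply_symm_apply]
    refine (CategoryTheory.Sheaf.H.equiv₀_symm_naturality hT
      (Coh.smulAb M (Coh.toGlobal (X ↘ Spec (CommRingCat.of A)) a)) y).trans (congrArg E.symm ?_)
    refine (Coh.smulAb_app M _ (op ⊤) y).trans ?_
    exact congrArg (fun r => @HSMul.hSMul (X.ringCatSheaf.obj.obj (op ⊤)) (M.val.obj (op ⊤)) (M.val.obj (op ⊤)) _ r y)
      (Groth.L18.Frame.ro_self (le_rfl : (⊤ : X.Opens) ≤ ⊤) _)
  obtain ⟨t, ht⟩ := Module.Finite.fg_top (R := A) (M := Coh.HH X M 0)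
  refine ⟨t.image E, fun m => ?_⟩
  obtain ⟨c, -, hc⟩ := (Submodule.mem_span_finset.1 (ht ▸ Submodule.mem_top : E.symm m ∈ Submodule.span A (t : Set _)))
  refine ⟨fun x => c (E.symm x), ?_⟩
  rw [Finset.sum_image fun _ _ _ _ h => E.injective h]
  apply E.symm.injective
  rw [← hc, map_sum]
  refine Finset.sum_congr rfl fun x _ => ?_
  refine Eq.trans ?_ (congrArg E.symm (hE (c (E.symm (E x))) x))
  exact ((E.symm_apply_apply _).trans (congrArg (fun y => c y • x) (E.symm_apply_apply x))).symm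

variable {A : Type u} [CommRing A] {N : ℕ} {Γ' Z : Scheme.{u}} (z : Z ⟶ Spec (CommRingCat.of A))
  (π : Γ' ⟶ Z) [IsProper π] (q : Γ' ⟶ CohB1.ProjSpace N A) [IsImmersion q]
  (h : q ≫ CohB1.ProjSpace.toSpec N A = π ≫ z) {V : Z.Opens} (hV : IsAffineOpen V)

include h in
/-- The closed immersion of `π⁻¹ V` into projective space over `Γ(V)`. -/
theorem exists_closedImmersion :
    ∃ (φ : A →+* Γ(Z, V)) (j : (π ⁻¹ᵁ V).toScheme ⟶ CohB1.ProjSpace N Γ(Z, V)),
      IsClosedImmersion j ∧ j ≫ ProjSpace.map N φ = (π ⁻¹ᵁ V).ι ≫ q ∧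
      j ≫ CohB1.ProjSpace.toSpec N Γ(Z, V) = (π ∣_ V) ≫ hV.isoSpec.hom := by
  let k : Spec Γ(Z, V) ⟶ Spec (CommRingCat.of A) := hV.isoSpec.inv ≫ V.ι ≫ z
  obtain ⟨φ₀, hφ₀⟩ := Spec.map_surjective k
  let φ : A →+* Γ(Z, V) := φ₀.hom
  have hk : Spec.map (CommRingCat.ofHom φ) = k := hφ₀
  let P := ProjSpace.isPullback_map N φ
  have hcomm : ((π ⁻¹ᵁ V).ι ≫ q) ≫ CohB1.ProjSpace.toSpec N A =
      ((π ∣_ V) ≫ hV.isoSpec.hom) ≫ Spec.map (CommRingCat.ofHom φ) := by
    rw [hk, Category.assoc, Category.assoc, h, Iso.hom_inv_id_assoc, morphismRestrict_ι_assoc]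
  let j := P.lift ((π ⁻¹ᵁ V).ι ≫ q) ((π ∣_ V) ≫ hV.isoSpec.hom) hcomm
  have h1 : j ≫ ProjSpace.map N φ = (π ⁻¹ᵁ V).ι ≫ q := P.lift_fst _ _ _
  have h2 : j ≫ CohB1.ProjSpace.toSpec N Γ(Z, V) = (π ∣_ V) ≫ hV.isoSpec.hom := P.lift_snd _ _ _
  haveI : IsImmersion (j ≫ ProjSpace.map N φ) := by rw [h1]; infer_instance
  haveI : IsImmersion j := IsImmersion.of_comp j (ProjSpace.map N φ)
  haveI : IsProper (j ≫ CohB1.ProjSpace.toSpec N Γ(Z, V)) := by
    rw [h2]
    haveI : IsProper (π ∣_ V) := IsZariskiLocalAtTarget.restrict ‹_› V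
    infer_instance
  haveI : IsProper j := IsProper.of_comp j (CohB1.ProjSpace.toSpec N Γ(Z, V))
  exact ⟨φ, j, IsClosedImmersion.of_isPreimmersion j j.isClosedMap.isClosed_range, h1, h2⟩

omit [IsProper π] [IsImmersion q] in
/-- The twists of `π⁻¹ V` in projective space over `Γ(V)`. -/
theorem nonempty_twist_iso (φ : A →+* Γ(Z, V)) (j : (π ⁻¹ᵁ V).toScheme ⟶ CohB1.ProjSpace N Γ(Z, V))
    [IsClosedImmersion j] (hj : j ≫ ProjSpace.map N φ = (π ⁻¹ᵁ V).ι ≫ q) (d : ℕ) :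
    Nonempty (CohB1.tensorMod (Twist.twistProjSpace N Γ(Z, V) (d : ℤ))
        ((Coh.push j).obj (Coh.structureModule (π ⁻¹ᵁ V).toScheme)) ≅
      (Coh.push j).obj (((Scheme.Modules.pullback q).obj (Twist.twistProjSpace N A (d : ℤ))).restrict
        (π ⁻¹ᵁ V).ι)) := by
  obtain ⟨e⟩ := ProjSpace.nonempty_pullback_twist_iso N φ d
  let O := Twist.twistProjSpace N A (d : ℤ)
  let e1 : (Scheme.Modules.pullback j).obj (Twist.twistProjSpace N Γ(Z, V) (d : ℤ)) ≅
      ((Scheme.Modules.pullback q).obj O).restrict (π ⁻¹ᵁ V).ι :=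
    (Scheme.Modules.pullback j).mapIso e.symm ≪≫
      (Scheme.Modules.pullbackComp j (ProjSpace.map N φ)).app O ≪≫
      (Scheme.Modules.pullbackCongr hj).app O ≪≫
      (Scheme.Modules.pullbackComp (π ⁻¹ᵁ V).ι q).symm.app O ≪≫
      ((Scheme.Modules.restrictFunctorIsoPullback (π ⁻¹ᵁ V).ι).symm.app ((Scheme.Modules.pullback q).obj O))
  exact ⟨(Groth.L17.ClosedPush.thetaIso j (Coh.structureModule (π ⁻¹ᵁ V).toScheme)).app
      (Twist.twistProjSpace N Γ(Z, V) (d : ℤ)) ≪≫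
    (Scheme.Modules.pushforward j).mapIso (Groth.L00.Tensor.tensorUnitRight _ ≪≫ e1)⟩

variable [IsNoetherianRing Γ(Z, V)]

include h hV in
/-- Vanishing of higher cohomology over an affine open, `d` large. -/
theorem exists_vanishing :
    ∃ d₀ : ℕ, ∀ d : ℕ, d₀ ≤ d → ∀ m : ℕ,
      Subsingleton (Groth.L17.HU (X := Γ'.toTopCat) (π ⁻¹ᵁ V)
        (Coh.toAb ((Scheme.Modules.pullback q).obj (Twist.twistProjSpace N A (d : ℤ)))) (m + 1)) := by
  obtain ⟨φ, j, hjc, hj, -⟩ := exists_closedImmersion z π q h hV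
  haveI : IsLocallyNoetherian (π ⁻¹ᵁ V).toScheme := LocallyOfFiniteType.isLocallyNoetherian j
  obtain ⟨d₀, hd₀⟩ := ProjSpace.exists_vanishing N Γ(Z, V) _
    (CohClosedPush.isCoh_push j (CohClosedPush.isCoh_structure (X := (π ⁻¹ᵁ V).toScheme)))
  refine ⟨d₀, fun d hd m => ?_⟩
  obtain ⟨e⟩ := nonempty_twist_iso π q φ j hj d
  let F := (Scheme.Modules.pullback q).obj (Twist.twistProjSpace N A (d : ℤ))
  have h1 : Subsingleton (Coh.HH _ ((Coh.push j).obj (F.restrict (π ⁻¹ᵁ V).ι)) (m + 1)) :=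
    ProjSpace.subsingleton_of_iso e.symm (m + 1) (hd₀ d hd (m + 1) (Nat.succ_pos _))
  obtain ⟨e2⟩ := Groth.L17.nonempty_HH_push_of_isClosedImmersion j (F.restrict (π ⁻¹ᵁ V).ι) (m + 1)
  have h2 : Subsingleton (Coh.HH _ (F.restrict (π ⁻¹ᵁ V).ι) (m + 1)) := e2.toEquiv.subsingleton
  obtain ⟨e3⟩ := Groth.L17.nonempty_hu_image (π ⁻¹ᵁ V).ι (⊤ : (π ⁻¹ᵁ V).toScheme.Opens) (Coh.toAb F) (m + 1)
  rw [Scheme.Hom.image_top_eq_opensRange, Scheme.Opens.opensRange_ι] at e3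
  exact @Equiv.subsingleton _ _ (e3.trans (Groth.L17.hTopEquiv (X := (π ⁻¹ᵁ V).toScheme.toTopCat)
    (Coh.toAb (F.restrict (π ⁻¹ᵁ V).ι)) (m + 1)).symm).toEquiv h2

omit [IsProper π] [IsNoetherianRing Γ(Z, V)] in
/-- The scalars through the affine chart are the scalars of the preimage. -/
theorem scalar_eq (hV : IsAffineOpen V) (b : Γ(Z, V)) :
    (show Γ(Γ', (π ⁻¹ᵁ V).ι ''ᵁ ⊤) from
      ((π ∣_ V) ≫ hV.isoSpec.hom).appTop ((Scheme.ΓSpecIso Γ(Z, V)).inv b)) =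
      ro (π ⁻¹ᵁ V).ι_image_top.le (π.app V b) := by
  have e : (Scheme.ΓSpecIso Γ(Z, V)).inv ≫ ((π ∣_ V) ≫ hV.isoSpec.hom).appTop =
      π.app V ≫ Γ'.presheaf.map (homOfLE (π ⁻¹ᵁ V).ι_image_top.le).op := by
    rw [Scheme.Hom.comp_appTop, hV.isoSpec_hom_appTop, Category.assoc, Iso.inv_hom_id_assoc]
    show V.topIso.inv ≫ (π ∣_ V).app ⊤ = _
    rw [morphismRestrict_app', Scheme.Opens.topIso_inv]
    exact Scheme.Hom.map_appLE π _ _
  exact ConcreteCategory.congr_hom e b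

include h in
/-- The sections of `π_* q^* O(d)` over an affine open form a finite module. -/
theorem finite_push (hV : IsAffineOpen V) (d : ℕ) :
    Module.Finite Γ(Z, V)
      Γ((Coh.push π).obj ((Scheme.Modules.pullback q).obj (Twist.twistProjSpace N A (d : ℤ))), V) := by
  classical
  obtain ⟨φ, j, hjc, hj, hj2⟩ := exists_closedImmersion z π q h hV
  haveI : IsLocallyNoetherian (π ⁻¹ᵁ V).toScheme := LocallyOfFiniteType.isLocallyNoetherian j
  let W := π ⁻¹ᵁ V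
  let F := (Scheme.Modules.pullback q).obj (Twist.twistProjSpace N A (d : ℤ))
  let G := (Coh.push π).obj F
  have hO : Coh.IsCoh ((Coh.push j).obj (Coh.structureModule W.toScheme)) :=
    CohClosedPush.isCoh_push j CohClosedPush.isCoh_structure
  have hT : Coh.IsCoh (Twist.twistProjSpace N Γ(Z, V) (d : ℤ)) :=
    CohSupport.isCoh_of_iso (coproductUniqueIso fun _ : Fin 1 => Twist.twistProjSpace N Γ(Z, V) (d : ℤ))
      (ProjSpace.isCoh_sigma_twist N Γ(Z, V) fun _ : Fin 1 => (d : ℤ))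
  haveI : Coh.IsQCoh ((Coh.push j).obj (Coh.structureModule W.toScheme)) := hO.1
  haveI : Coh.IsQCoh (Twist.twistProjSpace N Γ(Z, V) (d : ℤ)) := hT.1
  obtain ⟨e⟩ := nonempty_twist_iso π q φ j hj d
  have hM : Coh.IsCoh ((Coh.push j).obj (F.restrict W.ι)) :=
    CohSupport.isCoh_of_iso e ⟨Groth.L00.Tensor.isQCoh_tensorMod _ _,
      Groth.L00.Tensor.isFT_tensorMod _ _ hT.2 hO.2⟩
  haveI := ProjSpace.finite_HH_of_isCoh N Γ(Z, V) _ hM 0
  obtain ⟨s, hs⟩ := finite_sections_top Γ(Z, V) ((Coh.push j).obj (F.restrict W.ι))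
  let toV : Γ((Coh.push j).obj (F.restrict W.ι), ⊤) → Γ(G, V) := fun x =>
    (show Γ(F, W) from rs F W.ι_image_top.ge (show Γ(F, W.ι ''ᵁ ⊤) from x))
  refine ⟨⟨s.image toV, top_le_iff.1 fun m _ => ?_⟩⟩
  obtain ⟨c, hc⟩ := hs (show Γ(F, W.ι ''ᵁ ⊤) from rs F W.ι_image_top.le (show Γ(F, W) from m))
  have hm : m = toV (rs F W.ι_image_top.le (show Γ(F, W) from m)) :=
    ((Groth.L18.Frame.rs_rs F _ _ _).trans (Groth.L18.Frame.rs_self F _ _)).symm
  rw [hm, show toV (rs F W.ι_image_top.le (show Γ(F, W) from m)) = toV _ from congrArg toV hc]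
  rw [show toV (∑ x ∈ s, _) = ∑ x ∈ s, toV _ from map_sum (F.presheaf.map (homOfLE W.ι_image_top.ge).op).hom _ _]
  refine Submodule.sum_mem _ fun x hx => ?_
  have key : toV ((show Γ(CohB1.ProjSpace N Γ(Z, V), ⊤) from
      Coh.toGlobal (CohB1.ProjSpace N Γ(Z, V) ↘ Spec (CommRingCat.of Γ(Z, V))) (c x)) • x) = c x • toV x := by
    have h1 : (show Γ(Γ', W.ι ''ᵁ ⊤) from j.app ⊤
        (Coh.toGlobal (CohB1.ProjSpace N Γ(Z, V) ↘ Spec (CommRingCat.of Γ(Z, V))) (c x))) =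
        ro W.ι_image_top.le (π.app V (c x)) := by
      rw [← scalar_eq π hV (c x), ← hj2]
      rfl
    show rs F W.ι_image_top.ge _ = _
    rw [Groth.L00.PullStalk.push_smul]
    refine (congrArg (rs F W.ι_image_top.ge) (Groth.L18.Frame.restrict_smul' F W ⊤ _ _)).trans ?_
    refine (Groth.L18.Frame.rs_smul F _ _ _).trans ((congrArg (· • _) ?_).trans
      (Groth.L00.PullStalk.push_smul π F V (c x) (toV x)).symm)
    refine (congrArg (ro W.ι_image_top.ge) h1).trans ?_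
    exact (Groth.L18.Frame.ro_ro _ _ _).trans (Groth.L18.Frame.ro_self _ _)
  rw [key]
  exact Submodule.smul_mem _ _ (Submodule.subset_span (Finset.mem_coe.2 (Finset.mem_image_of_mem toV hx)))

omit [IsImmersion q] [IsProper π] [IsNoetherianRing Γ(Z, V)] in
/-- `q^* O(d)` is invertible. -/
theorem isInvertible_pullback_twist (d : ℕ) :
    PicF.IsInvertible ((Scheme.Modules.pullback q).obj (Twist.twistProjSpace N A (d : ℤ))) :=
  Groth.L18.SpecLine.isInvertible_of_frames fun x => by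
    obtain ⟨i, hi⟩ := ProjSpace.exists_mem_basicOpen_X N A (q x)
    let f : CohB1.polyGrading N A 1 := ⟨MvPolynomial.X i, ProjSpace.X_mem N A i⟩
    exact ⟨_, _, hi, (ProjTwist.isFrame_posFrame (CohB1.polyGrading N A) d f).pullback q _⟩

include h in
omit [IsNoetherianRing Γ(Z, V)] in
/-- `π_* q^* O(d)` is coherent. -/
theorem isCoh_push [IsLocallyNoetherian Z] (d : ℕ) :
    Coh.IsCoh ((Coh.push π).obj ((Scheme.Modules.pullback q).obj (Twist.twistProjSpace N A (d : ℤ)))) := by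
  haveI := Groth.L21.Extend.isQCoh_of_isInvertible (isInvertible_pullback_twist q d)
  haveI := QcqsPush.isQCoh_push ((Scheme.Modules.pullback q).obj (Twist.twistProjSpace N A (d : ℤ))) π
  refine CohClosedPush.isCoh_of_finite_sections _ fun x => ?_
  obtain ⟨_, ⟨W, hW, rfl⟩, hxW, -⟩ :=
    Z.isBasis_affineOpens.exists_subset_of_mem_open (Set.mem_univ x) isOpen_univ
  haveI : IsNoetherianRing Γ(Z, W) := IsLocallyNoetherian.component_noetherian ⟨W, hW⟩
  exact ⟨W, hxW, hW, finite_push z π q h hW d⟩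

end Groth.L16.ProperVanishing
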