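import Groth.Agent.L16.CechEndo
import Groth.Agent.L10.TopCoh
import Groth.Prelude.Def_Coh

/-!
Cohomology along a morphism with acyclic preimages of a cover, compatibly with endomorphisms (hence
linear over the functions on the target).
-/

universe u

open CategoryTheory CategoryTheory.Limits CategoryTheory.Abelian Opposite TopologicalSpace AlgebraicGeometry

set_option backward.defeqAttrib.useBackward true
set_option backward.isDefEq.respectTransparency false

namespace Groth.L16.PushCompare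

open Groth.L10 Groth.L10.SiteCoh Groth.L10.Cech

section Top

variable {X Y : TopCat.{u}} (f : X ⟶ Y) {ι : Type u} (V : ι → Opens Y)

/-- The preimages of a family form a nerve. -/
theorem isNerve_preimage : IsNerve (Opens.map f) V
    (fun i => homOfLE (le_iSup (fun i => (Opens.map f).obj (V i)) i)) where
  comp _ _ _ := Subsingleton.elim _ _
  lift {n} a {W} g _ := by
    let O : Opens Y := ⟨⋂ k, (V (a k) : Set Y), isOpen_iInter_of_finite fun k => (V (a k)).2⟩
    have hO : O ≤ tup V a :=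
      (Pi.lift (fun k => homOfLE (show O ≤ V (a k) from fun y hy => Set.mem_iInter.1 hy k))).le
    exact ⟨homOfLE fun x hx => hO (Set.mem_iInter.2 fun k => (g k).le hx), fun k => Subsingleton.elim _ _⟩
  hom_ext _ _ _ _ _ := Subsingleton.elim _ _

theorem cover_preimage :
    Sieve.ofArrows (fun i => (Opens.map f).obj (V i))
      (fun i => homOfLE (le_iSup (fun i => (Opens.map f).obj (V i)) i)) ∈
      Opens.grothendieckTopology X (⨆ i, (Opens.map f).obj (V i)) :=
  cover_opens (X := X) fun i => (Opens.map f).obj (V i)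

/-- The comparison at the level of `Ext` out of free sheaves. -/
theorem exists_ext_equiv (F : CohTop.Ab X) (hV : ⨆ i, V i = ⊤)
    (h1 : ∀ (n : ℕ) (a : Fin (n+1) → ι) (q : ℕ),
      Subsingleton (Ext (fs (Opens.grothendieckTopology X) ((Opens.map f).obj (tup V a))) F (q+1)))
    (h2 : ∀ (n : ℕ) (a : Fin (n+1) → ι) (q : ℕ),
      Subsingleton (Ext (fs (Opens.grothendieckTopology Y) (tup V a)) ((CohTop.push f).obj F) (q+1)))
    (p : ℕ) :
    ∃ e : Ext (fs (Opens.grothendieckTopology X) (⊤ : Opens X)) F p ≃+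
        Ext (fs (Opens.grothendieckTopology Y) (⊤ : Opens Y)) ((CohTop.push f).obj F) p,
      ∀ (φ : F ⟶ F) x, e (x.comp (Ext.mk₀ φ) (add_zero p)) =
        (e x).comp (Ext.mk₀ ((CohTop.push f).map φ)) (add_zero p) := by
  obtain ⟨eX, hX⟩ := CechEndo.exists_homology_addEquiv_endo F (isNerve_preimage f V) (cover_preimage f V) h1 p
  obtain ⟨eY, hY⟩ := CechEndo.exists_homology_addEquiv_endo ((CohTop.push f).obj F) (isNerve_opens V)
    (cover_opens V) h2 p
  have hX' : ⨆ i, (Opens.map f).obj (V i) = ⊤ := by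
    refine top_le_iff.1 fun x _ => ?_
    obtain ⟨i, hi⟩ := Opens.mem_iSup.1 (hV.ge (Opens.mem_top (f x)))
    exact Opens.mem_iSup.2 ⟨i, hi⟩
  have hcastX : ∀ U, U = (⊤ : Opens X) → ∃ h : Ext (fs (Opens.grothendieckTopology X) U) F p ≃+
      Ext (fs (Opens.grothendieckTopology X) (⊤ : Opens X)) F p, ∀ (φ : F ⟶ F) x,
        h (x.comp (Ext.mk₀ φ) (add_zero p)) = (h x).comp (Ext.mk₀ φ) (add_zero p) := by
    rintro U rfl
    exact ⟨AddEquiv.refl _, fun _ _ => rfl⟩
  have hcastY : ∀ U, U = (⊤ : Opens Y) → ∃ h : Ext (fs (Opens.grothendieckTopology Y) U) ((CohTop.push f).obj F) p ≃+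
      Ext (fs (Opens.grothendieckTopology Y) (⊤ : Opens Y)) ((CohTop.push f).obj F) p,
      ∀ (φ : (CohTop.push f).obj F ⟶ (CohTop.push f).obj F) x,
        h (x.comp (Ext.mk₀ φ) (add_zero p)) = (h x).comp (Ext.mk₀ φ) (add_zero p) := by
    rintro U rfl
    exact ⟨AddEquiv.refl _, fun _ _ => rfl⟩
  obtain ⟨gX, hgX⟩ := hcastX _ hX'
  obtain ⟨gY, hgY⟩ := hcastY _ hV
  let c : (cx (Opens.map f) V F.obj).homology p ≃+ (cx (𝟭 (Opens Y)) V ((CohTop.push f).obj F).obj).homology p :=
    AddEquiv.refl _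
  refine ⟨gX.symm.trans (eX.symm.trans (c.trans (eY.trans gY))), fun φ x => ?_⟩
  obtain ⟨x, rfl⟩ := gX.surjective x
  obtain ⟨x, rfl⟩ := eX.surjective x
  simp only [AddEquiv.trans_apply]
  rw [← hgX, ← hX, AddEquiv.symm_apply_apply, AddEquiv.symm_apply_apply, AddEquiv.symm_apply_apply,
    AddEquiv.symm_apply_apply, ← hgY, ← hY]
  rfl

/-- The comparison for cohomology. -/
theorem exists_H_equiv (F : CohTop.Ab X) (hV : ⨆ i, V i = ⊤)
    (h1 : ∀ (n : ℕ) (a : Fin (n+1) → ι) (q : ℕ),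
      Subsingleton (Ext (fs (Opens.grothendieckTopology X) ((Opens.map f).obj (tup V a))) F (q+1)))
    (h2 : ∀ (n : ℕ) (a : Fin (n+1) → ι) (q : ℕ),
      Subsingleton (Ext (fs (Opens.grothendieckTopology Y) (tup V a)) ((CohTop.push f).obj F) (q+1)))
    (p : ℕ) :
    ∃ e : CohTop.H F p ≃+ CohTop.H ((CohTop.push f).obj F) p,
      ∀ (φ : F ⟶ F) x, e (Sheaf.H.map φ p x) = Sheaf.H.map ((CohTop.push f).map φ) p (e x) := by
  obtain ⟨e, he⟩ := exists_ext_equiv f V F hV h1 h2 p
  let eX := Groth.L17.hTopEquiv (X := X) F p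
  let eY := Groth.L17.hTopEquiv (X := Y) ((CohTop.push f).obj F) p
  have hXn : ∀ (φ : F ⟶ F) x, eX (Sheaf.H.map φ p x) = (eX x).comp (Ext.mk₀ φ) (add_zero p) := fun φ x => by
    obtain ⟨x, rfl⟩ := eX.symm.surjective x
    apply eX.symm.injective
    rw [AddEquiv.symm_apply_apply, AddEquiv.apply_symm_apply]
    exact (Ext.comp_assoc_of_third_deg_zero _ _ _ (zero_add p))
  have hYn : ∀ (φ : (CohTop.push f).obj F ⟶ (CohTop.push f).obj F) x,
      eY.symm (x.comp (Ext.mk₀ φ) (add_zero p)) = Sheaf.H.map φ p (eY.symm x) := fun φ x =>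
    (Ext.comp_assoc_of_third_deg_zero _ _ _ (zero_add p)).symm
  refine ⟨eX.trans (e.trans eY.symm), fun φ x => ?_⟩
  simp only [AddEquiv.trans_apply]
  rw [hXn, he]
  exact hYn _ _

end Top

variable {X Y : Scheme.{u}} (f : X ⟶ Y) (M : X.Modules)

theorem smulAb_push (r : Coh.Γtop Y) :
    Coh.smulAb ((Coh.push f).obj M) r =
      (CohTop.push f.base).map (Coh.smulAb M (f.appTop r)) := by
  ext U m
  rw [Coh.smulAb_app]
  refine Eq.trans ?_ (Coh.smulAb_app M _ ((Opens.map f.base).op.obj U) m).symm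
  refine congrArg (fun a => @HSMul.hSMul (X.ringCatSheaf.obj.obj ((Opens.map f.base).op.obj U))
    (M.val.obj ((Opens.map f.base).op.obj U)) (M.val.obj ((Opens.map f.base).op.obj U)) _ a m) ?_
  exact ConcreteCategory.congr_hom (f.naturality (homOfLE (le_top : U.unop ≤ ⊤)).op) r

/-- Cohomology of a direct image when the preimages of an affine cover are acyclic. -/
theorem exists_HH_push {ι : Type u} (V : ι → Y.Opens) (hV : ⨆ i, V i = ⊤)
    (h1 : ∀ (n : ℕ) (a : Fin (n+1) → ι) (q : ℕ),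
      Subsingleton (Groth.L17.HU (X := X.toTopCat) (f ⁻¹ᵁ ⨅ k, V (a k)) (Coh.toAb M) (q+1)))
    (h2 : ∀ (n : ℕ) (a : Fin (n+1) → ι) (q : ℕ),
      Subsingleton (Groth.L17.HU (X := Y.toTopCat) (⨅ k, V (a k)) (Coh.toAb ((Coh.push f).obj M)) (q+1)))
    (p : ℕ) :
    ∃ e : Coh.HH X M p ≃+ Coh.HH Y ((Coh.push f).obj M) p,
      ∀ (r : Coh.Γtop Y) x, e ((show Coh.Γtop X from f.appTop r) • x) = r • e x := by
  obtain ⟨e, he⟩ := exists_H_equiv (X := X.toTopCat) (Y := Y.toTopCat) f.base V (Coh.toAb M) hV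
    (fun n a q => (tup_eq_iInf (X := Y.toTopCat) V a).symm ▸ h1 n a q)
    (fun n a q => (tup_eq_iInf (X := Y.toTopCat) V a).symm ▸ h2 n a q) p
  exact ⟨e, fun r x => (he (Coh.smulAb M (f.appTop r)) x).trans
    (congrArg (fun (φ : Coh.toAb ((Coh.push f).obj M) ⟶ Coh.toAb ((Coh.push f).obj M)) => Sheaf.H.map φ p (e x))
      (smulAb_push f M r).symm)⟩

/-- Finiteness over a base ring is preserved. -/
theorem finite_iff_of_equiv (A : Type u) [CommRing A] [X.Over (Spec (CommRingCat.of A))]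
    [Y.Over (Spec (CommRingCat.of A))] (hf : f ≫ (Y ↘ Spec (CommRingCat.of A)) = X ↘ Spec (CommRingCat.of A))
    (N : Y.Modules) (p : ℕ) (e : Coh.HH X M p ≃+ Coh.HH Y N p)
    (he : ∀ (r : Coh.Γtop Y) x, e ((show Coh.Γtop X from f.appTop r) • x) = r • e x) :
    Module.Finite A (Coh.HH X M p) ↔ Module.Finite A (Coh.HH Y N p) := by
  let L : Coh.HH X M p ≃ₗ[A] Coh.HH Y N p :=
    { e with
      map_smul' := fun a x => by
        have h0 : Coh.toGlobal (X ↘ Spec (CommRingCat.of A)) a =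
            (show Coh.Γtop X from f.appTop (Coh.toGlobal (Y ↘ Spec (CommRingCat.of A)) a)) :=
          congrArg (fun g : X ⟶ Spec (CommRingCat.of A) => Coh.toGlobal g a) hf.symm
        exact (congrArg e (congrArg (fun c : Coh.Γtop X => c • x) h0)).trans
          (he (Coh.toGlobal (Y ↘ Spec (CommRingCat.of A)) a) x) }
  exact ⟨fun _ => Module.Finite.equiv L, fun _ => Module.Finite.equiv L.symm⟩

end Groth.L16.PushCompare
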