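import Groth.Agent.L16.Chow.Core
import Groth.Agent.L16.Chow.Affine
import Groth.Agent.L16.ProperVanishing
import Groth.Agent.L16.PushCompare
import Groth.Agent.L16.Devissage
import Groth.Agent.L16.CohLinear
import Groth.Agent.L16.ProjSpace.CohFinite
import Groth.Agent.L17.AffineVanishing
import Groth.Agent.L17.CechComparison

/-!
# Finiteness of coherent cohomology on proper schemes over a Noetherian ring
-/

set_option autoImplicit false
universe u

open CategoryTheory CategoryTheory.Limits AlgebraicGeometry TopologicalSpace Opposite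

namespace Groth.L16.ProperFinite

open Groth.L18.Frame (rs ro IsFrame rs_rs rs_self rs_smul ro_ro ro_self)

/-- Invertible modules on locally Noetherian schemes are coherent. -/
theorem isCoh_of_isInvertible {X : Scheme.{u}} [IsLocallyNoetherian X] {L : X.Modules}
    (hL : PicF.IsInvertible L) : Coh.IsCoh L := by
  haveI := Groth.L21.Extend.isQCoh_of_isInvertible hL
  refine CohClosedPush.isCoh_of_finite_sections L fun x => ?_
  obtain ⟨W, e, hxW, he⟩ := Groth.L18.Frame.exists_frame hL x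
  obtain ⟨_, ⟨V, hV, rfl⟩, hxV, hVW : V ≤ W⟩ :=
    X.isBasis_affineOpens.exists_subset_of_mem_open hxW W.isOpen
  exact ⟨V, hxV, hV, Module.Finite.of_surjective (LinearMap.toSpanSingleton Γ(X, V) Γ(L, V) (rs L hVW e))
    (he V hVW).2⟩

section AffineHom

variable {X Y : Scheme.{u}} (f : X ⟶ Y) (M : X.Modules) (A : Type u) [CommRing A]
  [X.Over (Spec (CommRingCat.of A))] [Y.Over (Spec (CommRingCat.of A))]

/-- Finiteness of cohomology along affine morphisms to separated schemes. -/
theorem finite_push_iff [IsAffineHom f] [Y.IsSeparated] [Coh.IsQCoh M]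
    (hf : f ≫ (Y ↘ Spec (CommRingCat.of A)) = X ↘ Spec (CommRingCat.of A)) (p : ℕ) :
    Module.Finite A (Coh.HH X M p) ↔ Module.Finite A (Coh.HH Y ((Coh.push f).obj M) p) := by
  haveI : Coh.IsQCoh ((Coh.push f).obj M) := QcqsPush.isQCoh_push M f
  let V : Y.affineOpens → Y.Opens := fun U => U.1
  have hV : ∀ (n : ℕ) (a : Fin (n + 1) → Y.affineOpens), IsAffineOpen (⨅ k, V (a k)) :=
    fun n a => IsAffineOpen.iInf fun k => (a k).2
  obtain ⟨e, he⟩ := PushCompare.exists_HH_push f M V (iSup_affineOpens_eq_top Y)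
    (fun n a q => subsingleton_of_forall_eq 0 (Groth.L17.hu_affine_eq_zero M ((hV n a).preimage f) q))
    (fun n a q => subsingleton_of_forall_eq 0 (Groth.L17.hu_affine_eq_zero _ (hV n a) q)) p
  exact PushCompare.finite_iff_of_equiv f M A hf _ p e he

end AffineHom

/-- A frame gives length one at the generic point after pushing to the ambient scheme. -/
theorem len_push_of_frame {X Z : Scheme.{u}} (i : Z ⟶ X) [IsClosedImmersion i] [IsIntegral Z]
    (N : Z.Modules) {W : Z.Opens} {e : Γ(N, W)} (he : IsFrame N W e) (hη : genericPoint Z ∈ W) :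
    CohSupport.len (i (genericPoint Z)) ((Coh.push i).obj N) = 1 := by
  let η := genericPoint Z
  let c := Groth.L17.ClosedPush.c₀ i N η
  have hb : Function.Bijective c := Groth.L17.ClosedPush.c₀_bijective i _ η
  letI : Field (Z.presheaf.stalk η) := inferInstanceAs (Field Z.functionField)
  let P := Groth.L00.Tensor.pre N
  let one : Groth.L00.StalkTensor.St P η := Groth.L00.StalkTensor.germ P η (U := W) hη e
  have hgen : ∀ v : Groth.L00.StalkTensor.St P η, ∃ r : Z.presheaf.stalk η, r • one = v := by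
    intro v
    obtain ⟨U, hU, m, rfl⟩ := Groth.L00.StalkTensor.exists_germ P η v
    obtain ⟨a, ha⟩ := he.exists_coeff (inf_le_right : U ⊓ W ≤ W) (rs N inf_le_left (show Γ(N, U) from m))
    refine ⟨Z.presheaf.germ (U ⊓ W) η ⟨hU, hη⟩ a, ?_⟩
    have h1 : one = Groth.L00.StalkTensor.germ P η (show η ∈ U ⊓ W from ⟨hU, hη⟩) (rs N inf_le_right e) :=
      (Groth.L00.StalkTensor.germ_rs P η (homOfLE inf_le_right) _ e).symm
    rw [h1, ← Groth.L00.StalkTensor.germ_smul']
    exact (congrArg _ ha).trans (Groth.L00.StalkTensor.germ_rs P η (homOfLE inf_le_left) _ m)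
  have hone : one ≠ 0 := by
    intro h
    obtain ⟨W', hW', i₁, i₂, hi⟩ := Groth.L00.StalkTensor.germ_eq P η (U := W) (V := W) hη hη
      (m := e) (n := 0) (h.trans (map_zero _).symm)
    have : Nonempty W' := ⟨⟨η, hW'⟩⟩
    refine one_ne_zero (α := Γ(Z, W')) (he.inj i₁.le ?_)
    rw [one_smul, zero_smul]
    exact hi.trans (map_zero _)
  refine Module.length_eq_one_iff.2 ?_
  rw [isSimpleModule_iff_toSpanSingleton_surjective]
  refine ⟨?_, fun m hm z => ?_⟩
  · obtain ⟨o, ho⟩ := hb.2 one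
    exact ⟨⟨o, 0, fun h => hone (ho.symm.trans ((congrArg c h).trans (map_zero c)))⟩⟩
  · obtain ⟨a, ha⟩ := hgen (c m)
    obtain ⟨b, hb'⟩ := hgen (c z)
    have ha0 : a ≠ 0 := fun h => hm (hb.1 ((ha.symm.trans
      ((congrArg (· • one) h).trans (zero_smul _ _))).trans (map_zero c).symm))
    obtain ⟨r, hr⟩ := i.stalkMap_surjective η (b * a⁻¹)
    refine ⟨r, hb.1 ?_⟩
    refine (Groth.L17.ClosedPush.c₀_smul i _ η r m).trans ?_
    show ((i.stalkMap η) r : Z.presheaf.stalk η) • c m = c z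
    rw [← ha, ← hb', hr, smul_smul, inv_mul_cancel_right₀ ha0]

/-- Frames push forward along a morphism which is an isomorphism over the open. -/
theorem exists_frame_push {Γ' Z : Scheme.{u}} (π : Γ' ⟶ Z) (L : Γ'.Modules) (hL : PicF.IsInvertible L)
    (U₀ : Z.Opens) [IsIso (π ∣_ U₀)] (hne : (U₀ : Set Z).Nonempty) :
    ∃ (V : Z.Opens) (e : Γ((Coh.push π).obj L, V)), (V : Set Z).Nonempty ∧
      IsFrame ((Coh.push π).obj L) V e := by
  obtain ⟨u, hu⟩ := hne
  let x : (π ⁻¹ᵁ U₀).toScheme := inv (π ∣_ U₀) ⟨u, hu⟩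
  obtain ⟨WL, e, hxW, he⟩ := Groth.L18.Frame.exists_frame hL x.1
  let W' := (π ⁻¹ᵁ U₀).ι ⁻¹ᵁ WL
  let V'' := (π ∣_ U₀) ''ᵁ W'
  let V := U₀.ι ''ᵁ V''
  have hVU : V ≤ U₀ := (Scheme.Hom.image_le_opensRange _ _).trans_eq U₀.opensRange_ι
  have hpre : π ⁻¹ᵁ V ≤ WL := by
    rw [← image_morphismRestrict_preimage, Scheme.Hom.preimage_image_eq,
      Scheme.Hom.image_preimage_eq_opensRange_inf]
    exact inf_le_right
  refine ⟨V, (show Γ(L, π ⁻¹ᵁ V) from rs L hpre e),
    ⟨_, ⟨_, ⟨x, hxW, rfl⟩, rfl⟩⟩, fun V' hV' => ?_⟩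
  have hbij : Function.Bijective (π.app V') := by
    have key : ∀ O, O = V' → Function.Bijective (π.app O) → Function.Bijective (π.app V') := by
      rintro _ rfl h; exact h
    refine key (U₀.ι ''ᵁ (U₀.ι ⁻¹ᵁ V')) (by
      rw [Scheme.Hom.image_preimage_eq_opensRange_inf, Scheme.Opens.opensRange_ι, inf_eq_right]
      exact hV'.trans hVU) ?_
    haveI : IsIso (π.app (U₀.ι ''ᵁ (U₀.ι ⁻¹ᵁ V'))) := by
      have h := morphismRestrict_app π U₀ (U₀.ι ⁻¹ᵁ V')
      haveI : IsIso (π.app (U₀.ι ''ᵁ (U₀.ι ⁻¹ᵁ V')) ≫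
          Γ'.presheaf.map (eqToHom (image_morphismRestrict_preimage π U₀ (U₀.ι ⁻¹ᵁ V'))).op) := by
        rw [← h]
        exact Scheme.Hom.isIso_app (π ∣_ U₀) _ (by
          rw [Scheme.Hom.opensRange_of_isIso]; exact le_top)
      exact IsIso.of_isIso_comp_right _
        (Γ'.presheaf.map (eqToHom (image_morphismRestrict_preimage π U₀ (U₀.ι ⁻¹ᵁ V'))).op)
    exact ConcreteCategory.bijective_of_isIso _
  have hfr := (he.mono hpre) (π ⁻¹ᵁ V') (Scheme.Hom.preimage_mono π hV')
  exact hfr.comp hbij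

section Integral

variable {A : Type u} [CommRing A] [IsNoetherianRing A] {Z : Scheme.{u}}
  (z : Z ⟶ Spec (CommRingCat.of A)) [IsProper z] [IsIntegral Z]

/-- On an integral proper scheme there is a coherent module, invertible near the generic point, with
finite cohomology. -/
theorem exists_good :
    letI : Z.Over (Spec (CommRingCat.of A)) := ⟨z⟩
    ∃ G : Z.Modules, Coh.IsCoh G ∧ (∀ p, Module.Finite A (Coh.HH Z G p)) ∧
      ∃ (W : Z.Opens) (e : Γ(G, W)), IsFrame G W e ∧ genericPoint Z ∈ W := by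
  letI oZ : Z.Over (Spec (CommRingCat.of A)) := ⟨z⟩
  haveI : IsLocallyNoetherian Z := LocallyOfFiniteType.isLocallyNoetherian z
  haveI : CompactSpace Z := QuasiCompact.compactSpace_of_compactSpace z
  haveI : IsNoetherian Z := {}
  haveI : Z.IsSeparated := ⟨by rw [← terminal.comp_from z]; infer_instance⟩
  obtain ⟨k, U, hUa, hUne, hU⟩ : ∃ (k : ℕ) (U : Fin k → Z.Opens), (∀ i, IsAffineOpen (U i)) ∧
      (∀ i, genericPoint Z ∈ U i) ∧ ∀ x, ∃ i, x ∈ U i := by
    obtain ⟨s, hcov⟩ := isCompact_univ.elim_finite_subcover (fun V : Z.affineOpens => ((V.1 : Z.Opens) : Set Z))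
      (fun V => V.1.2) (fun x _ => by
        obtain ⟨_, ⟨V, hV, rfl⟩, hxV, -⟩ :=
          Z.isBasis_affineOpens.exists_subset_of_mem_open (Set.mem_univ x) isOpen_univ
        exact Set.mem_iUnion.2 ⟨⟨V, hV⟩, hxV⟩)
    let t := {V : Z.affineOpens | V ∈ s ∧ ((V.1 : Z.Opens) : Set Z).Nonempty}
    haveI : Fintype t := (s.finite_toSet.subset (fun _ h => h.1)).fintype
    refine ⟨Fintype.card t, fun i => ((Fintype.equivFin t).symm i).1.1,
      fun i => ((Fintype.equivFin t).symm i).1.2, fun i => ?_, fun x => ?_⟩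
    · exact ((genericPoint_spec Z).mem_open_set_iff ((Fintype.equivFin t).symm i).1.1.2).2 (by
        obtain ⟨y, hy⟩ := ((Fintype.equivFin t).symm i).2.2
        exact ⟨y, trivial, hy⟩)
    · obtain ⟨V, hV, hxV⟩ := Set.mem_iUnion₂.1 (hcov (Set.mem_univ x))
      exact ⟨Fintype.equivFin t ⟨V, hV, x, hxV⟩, by simpa using hxV⟩
  have hemb := fun i => Chow.exists_immersion z (hUa i) (isAffineOpen_top (Spec (CommRingCat.of A))) le_top
  choose n e hei he using hemb
  let U₀ : Z.Opens := ⨅ i : Fin k, U i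
  have hη : genericPoint Z ∈ U₀ := by
    rw [← SetLike.mem_coe, TopologicalSpace.Opens.coe_iInf, Set.mem_iInter]
    exact hUne
  haveI : QuasiCompact U₀.ι := inferInstance
  obtain ⟨N, Γ', π, q', hq', hqπ, hπ, hiso, -⟩ :=
    Chow.exists_chow z U n e he hU U₀ fun i => iInf_le U i
  let ω := ProjSpace.isoOver N A
  let q : Γ' ⟶ CohB1.ProjSpace N A := q' ≫ ω.inv
  have hq : q ≫ CohB1.ProjSpace.toSpec N A = π ≫ z := by
    rw [← hqπ, Category.assoc]
    congr 1
    rw [Iso.inv_comp_eq]
    exact (IsPullback.isoPullback_hom_snd _).symm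
  haveI : IsImmersion q := inferInstance
  haveI : IsClosedImmersion q := by
    haveI : IsProper (q ≫ CohB1.ProjSpace.toSpec N A) := by rw [hq]; infer_instance
    haveI : IsProper q := IsProper.of_comp q (CohB1.ProjSpace.toSpec N A)
    exact IsClosedImmersion.of_isPreimmersion q q.isClosedMap.isClosed_range
  haveI : IsLocallyNoetherian Γ' := LocallyOfFiniteType.isLocallyNoetherian π
  -- the degree
  let V : ULift.{u} (Fin k) → Z.Opens := fun i => U i.down
  have hVa : ∀ s : Finset (ULift.{u} (Fin k)), s.Nonempty → IsAffineOpen (⨅ i ∈ s, V i) := by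
    intro s hs
    haveI : Nonempty s := hs.to_subtype
    rw [iInf_subtype']
    exact IsAffineOpen.iInf fun i => hUa i.1.down
  have hd : ∀ s : Finset (ULift.{u} (Fin k)), ∃ d₀ : ℕ, ∀ d, d₀ ≤ d → s.Nonempty → ∀ m : ℕ,
      Subsingleton (Groth.L17.HU (X := Γ'.toTopCat) (π ⁻¹ᵁ ⨅ i ∈ s, V i)
        (Coh.toAb ((Scheme.Modules.pullback q).obj (Twist.twistProjSpace N A (d : ℤ)))) (m + 1)) := by
    intro s
    by_cases hs : s.Nonempty
    · haveI : IsNoetherianRing Γ(Z, ⨅ i ∈ s, V i) :=
        IsLocallyNoetherian.component_noetherian ⟨_, hVa s hs⟩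
      obtain ⟨d₀, h⟩ := ProperVanishing.exists_vanishing z π q hq (hVa s hs)
      exact ⟨d₀, fun d hd _ => h d hd⟩
    · exact ⟨0, fun d _ h => absurd h hs⟩
  choose d₀ hd₀ using hd
  let d := Finset.univ.sup d₀
  let L := (Scheme.Modules.pullback q).obj (Twist.twistProjSpace N A (d : ℤ))
  have hLinv : PicF.IsInvertible L := ProperVanishing.isInvertible_pullback_twist q d
  have hLcoh : Coh.IsCoh L := isCoh_of_isInvertible hLinv
  haveI : Coh.IsQCoh L := hLcoh.1
  have hG : Coh.IsCoh ((Coh.push π).obj L) := ProperVanishing.isCoh_push z π q hq d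
  haveI : Coh.IsQCoh ((Coh.push π).obj L) := hG.1
  obtain ⟨Vf, ef, hVne, hVf⟩ := exists_frame_push π L hLinv U₀ ⟨_, hη⟩
  refine ⟨(Coh.push π).obj L, hG, fun p => ?_, Vf, ef, hVf,
    ((genericPoint_spec Z).mem_open_set_iff Vf.2).2 (by
      obtain ⟨y, hy⟩ := hVne; exact ⟨y, trivial, hy⟩)⟩
  letI oΓ : Γ'.Over (Spec (CommRingCat.of A)) := ⟨π ≫ z⟩
  have hVcov : ⨆ i, V i = ⊤ := top_le_iff.1 fun x _ => by
    obtain ⟨i, hi⟩ := hU x
    exact TopologicalSpace.Opens.mem_iSup.2 ⟨⟨i⟩, hi⟩
  have htup : ∀ (m : ℕ) (a : Fin (m + 1) → ULift.{u} (Fin k)),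
      (⨅ i ∈ Finset.univ.image a, V i) = ⨅ l, V (a l) := by
    intro m a
    refine le_antisymm (le_iInf fun l => iInf₂_le (a l) (Finset.mem_image_of_mem a (Finset.mem_univ l)))
      (le_iInf₂ fun i hi => ?_)
    obtain ⟨l, -, rfl⟩ := Finset.mem_image.1 hi
    exact iInf_le (fun l => V (a l)) l
  obtain ⟨ε, hε⟩ := PushCompare.exists_HH_push π L V hVcov
    (fun m a r => by
      rw [← htup m a]
      exact hd₀ _ d (Finset.le_sup (Finset.mem_univ _)) (Finset.univ_nonempty.image a) r)
    (fun m a r => subsingleton_of_forall_eq 0 (Groth.L17.hu_affine_eq_zero _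
      (Groth.L17.isAffineOpen_iInf_of_finset hVa m a) r)) p
  refine (PushCompare.finite_iff_of_equiv π L A rfl _ p ε hε).1 ?_
  haveI : (CohB1.ProjSpace N A).IsSeparated :=
    ⟨by rw [← terminal.comp_from (CohB1.ProjSpace.toSpec N A)]; infer_instance⟩
  exact (finite_push_iff q L A hq p).2
    (ProjSpace.finite_HH_of_isCoh N A _ (CohClosedPush.isCoh_push q hLcoh) p)

end Integral

section Main

variable (A : Type u) [CommRing A] [IsNoetherianRing A] {X : Scheme.{u}}
  [X.Over (Spec (CommRingCat.of A))] [IsProper (X ↘ Spec (CommRingCat.of A))]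

omit [IsNoetherianRing A] [IsProper (X ↘ Spec (CommRingCat.of A))] in
theorem finite_of_isZero {M : X.Modules} (h : IsZero M) (n : ℕ) : Module.Finite A (Coh.HH X M n) := by
  haveI : Subsingleton (Coh.HH X M n) := subsingleton_of_forall_eq 0 fun x => by
    rw [← CohLinear.hmap_id n x, CohLinear.hmap_apply, h.eq_of_src (𝟙 M) 0]
    have := CohLinear.hMap_sum (∅ : Finset PUnit.{1}) (fun _ => CohLinear.tm (0 : M ⟶ M)) n x
    rw [Finset.sum_empty, Finset.sum_empty] at this
    rwa [CohLinear.tm, Functor.map_zero]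
  infer_instance

/-- **Finiteness theorem** for proper schemes over a Noetherian ring. -/
theorem finite_HH {M : X.Modules} (hM : Coh.IsCoh M) (n : ℕ) : Module.Finite A (Coh.HH X M n) := by
  haveI : IsLocallyNoetherian X := LocallyOfFiniteType.isLocallyNoetherian (X ↘ Spec (CommRingCat.of A))
  haveI : CompactSpace X := QuasiCompact.compactSpace_of_compactSpace (X ↘ Spec (CommRingCat.of A))
  haveI : IsNoetherian X := {}
  haveI : X.IsSeparated := ⟨by rw [← terminal.comp_from (X ↘ Spec (CommRingCat.of A))]; infer_instance⟩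
  refine Devissage.devissage (fun F => ∀ p, Module.Finite A (Coh.HH X F p)) isClosed_univ
    (fun F G ⟨e⟩ hF p => haveI := hF p; CohLinear.finite_of_iso A e p)
    (fun F hF p => finite_of_isZero A hF p) ?_ ?_ hM (Set.subset_univ _) n
  · intro S hS h1 h2 h3 _
    refine ⟨fun a b p => ?_, fun a c p => ?_, fun b c p => ?_⟩
    · haveI := b p; haveI := a (p + 1)
      exact CohLinear.finite_right A hS p
    · haveI := a p; haveI := c p
      exact CohLinear.finite_middle A hS p
    · cases p with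
      | zero =>
        haveI := b 0
        refine Module.Finite.of_injective (CohLinear.overLin A (CohLinear.hmap S.f 0)) ?_
        haveI := (CohLinear.abS_shortExact hS).mono_f
        intro x y hxy
        obtain ⟨g, rfl⟩ := (Abelian.Ext.mk₀_bijective _ _).2 x
        obtain ⟨g', rfl⟩ := (Abelian.Ext.mk₀_bijective _ _).2 y
        have h := hxy
        change (Abelian.Ext.mk₀ g).comp (Abelian.Ext.mk₀ (CohLinear.tm S.f)) (add_zero 0) =
          (Abelian.Ext.mk₀ g').comp (Abelian.Ext.mk₀ (CohLinear.tm S.f)) (add_zero 0) at h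
        rw [Abelian.Ext.mk₀_comp_mk₀, Abelian.Ext.mk₀_comp_mk₀] at h
        exact congrArg _ ((cancel_mono (CohLinear.abS S).f).1 ((Abelian.Ext.mk₀_bijective _ _).1 h))
      | succ p =>
        haveI := c p; haveI := b (p + 1)
        exact CohLinear.finite_left A hS p
  · intro y _
    obtain ⟨Z, i, hi, hZ, hgen, hrange⟩ := CohClosedPush.exists_integral y
    haveI : IsProper (i ≫ (X ↘ Spec (CommRingCat.of A))) := inferInstance
    letI oZ : Z.Over (Spec (CommRingCat.of A)) := ⟨i ≫ (X ↘ Spec (CommRingCat.of A))⟩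
    obtain ⟨G, hG, hfin, W, e, he, hW⟩ := exists_good (i ≫ (X ↘ Spec (CommRingCat.of A)))
    haveI : IsLocallyNoetherian Z := LocallyOfFiniteType.isLocallyNoetherian i
    haveI : Coh.IsQCoh G := hG.1
    refine ⟨(Coh.push i).obj G, CohClosedPush.isCoh_push i hG,
      fun p => (finite_push_iff i G A rfl p).1 (hfin p),
      (CohClosedPush.support_push_subset i G).trans hrange.le, ?_⟩
    rw [← hgen]
    exact len_push_of_frame i G he hW

end Main

end Groth.L16.ProperFinite
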