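import Groth.Agent.L16.QcqsPush
import Groth.Agent.L16.CohKernel
import Groth.Agent.L20.ModStalk
import Groth.Agent.L00.Skyscraper
import Groth.Agent.L21.Mod.Locality
import Mathlib.RingTheory.HopkinsLevitzki
import Mathlib.RingTheory.Length
import Mathlib.RingTheory.Support

/-!
Supports of modules of finite type, stalks of coherent modules at the generic points of their support,
skyscrapers of simple modules.
-/

universe u

open CategoryTheory CategoryTheory.Limits AlgebraicGeometry TopologicalSpace Opposite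

namespace Groth.L16.CohSupport

open Groth.L18.Frame (rs ro rs_rs rs_smul)

variable {X : Scheme.{u}}

/-- The support of a module of finite type is closed. -/
theorem isClosed_support (M : X.Modules) (hM : CohB1.IsFT M) : IsClosed (CohB1.support M) := by
  classical
  rw [← isOpen_compl_iff, isOpen_iff_forall_mem_open]
  intro x hx
  have hx0 : Subsingleton (M.presheaf.stalk x) := not_not.1 hx
  obtain ⟨U, σ, hxU, hσ⟩ := Groth.L00.Local.exists_generators_of_isFT M hM x
  have hx' : x ∈ U.ι ''ᵁ ⊤ := U.ι_image_top.ge hxU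
  let w : σ.I → Γ(M, U.ι ''ᵁ ⊤) := fun i => (σ.s i).eval (op ⊤)
  have h0 : ∀ i, ∃ (W : X.Opens) (h : W ≤ U.ι ''ᵁ ⊤), x ∈ W ∧ rs M h (w i) = 0 := fun i => by
    obtain ⟨W, hxW, i₁, i₂, hW⟩ := TopCat.Presheaf.germ_eq M.presheaf x hx' hx' (w i) 0 (Subsingleton.elim _ _)
    exact ⟨W, i₁.le, hxW, hW.trans (map_zero _)⟩
  choose W hW hxW hw using h0
  have : Finite σ.I := hσ
  cases nonempty_fintype σ.I
  let W₀ : X.Opens := U ⊓ Finset.univ.inf W
  have hxW₀ : x ∈ W₀ := ⟨hxU, by
    show x ∈ ((Finset.univ.inf W : X.Opens) : Set X)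
    rw [Opens.coe_finset_inf, Finset.inf_set_eq_iInter]
    exact Set.mem_iInter₂.2 fun i _ => hxW i⟩
  have hWi : ∀ i, W₀ ≤ W i := fun i => inf_le_right.trans (Finset.inf_le (Finset.mem_univ i))
  let M' : U.toScheme.Modules := M.restrict U.ι
  let W' : U.toScheme.Opens := U.ι ⁻¹ᵁ W₀
  let g := (Scheme.Modules.restrictAdjunction W'.ι).unit.app M'
  have hg : g = 0 := by
    haveI := σ.epi
    refine Limits.zero_of_epi_comp σ.π ?_
    apply (SheafOfModules.freeHomEquiv _).injective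
    funext i
    refine PresheafOfModules.sections_ext _ _ fun V => ?_
    rw [SheafOfModules.freeHomEquiv_apply, SheafOfModules.freeHomEquiv_apply]
    show (Scheme.Modules.Hom.app (σ.π ≫ g) V.unop) _ =
      (Scheme.Modules.Hom.app (0 : SheafOfModules.free σ.I ⟶ _) V.unop) _
    have hπ : Scheme.Modules.Hom.app σ.π V.unop ((SheafOfModules.freeSection i).eval V) = (σ.s i).eval V :=
      (congrArg (fun s : M'.sections => s.eval V)
        ((SheafOfModules.freeHomEquiv_apply σ.π i).symm.trans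
          (congrFun (Equiv.apply_symm_apply M'.freeHomEquiv σ.s) i)))
    show (Scheme.Modules.Hom.app g V.unop) (Scheme.Modules.Hom.app σ.π V.unop _) = 0
    refine (congrArg (Scheme.Modules.Hom.app g V.unop) hπ).trans ?_
    have hle : U.ι ''ᵁ (W'.ι ''ᵁ (W'.ι ⁻¹ᵁ V.unop)) ≤ W i :=
      ((U.ι.image_mono ((Scheme.Hom.image_le_opensRange _ _).trans_eq (Scheme.Opens.opensRange_ι W'))).trans
        (U.ι.image_preimage_le W₀)).trans (hWi i)
    show M'.presheaf.map (homOfLE (W'.ι.image_preimage_le V.unop)).op ((σ.s i).eval V) = 0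
    rw [show (σ.s i).eval V = M'.presheaf.map (homOfLE (le_top : V.unop ≤ ⊤)).op ((σ.s i).eval (op ⊤)) from
      ((σ.s i).2 (homOfLE (le_top : V.unop ≤ ⊤)).op).symm]
    show rs M (U.ι.image_mono (W'.ι.image_preimage_le V.unop))
      (rs M (U.ι.image_mono (le_top : V.unop ≤ ⊤)) (w i)) = 0
    rw [rs_rs, show rs M _ (w i) = rs M hle (rs M (hW i) (w i)) from (rs_rs M _ _ _).symm, hw i]
    exact map_zero _
  have hsec : ∀ (V : X.Opens), V ≤ W₀ → ∀ m : Γ(M, V), m = 0 := by
    intro V hV m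
    have hVU : U.ι ''ᵁ (U.ι ⁻¹ᵁ V) = V := Groth.L21.Mod.image_preimage_of_le (hV.trans inf_le_left)
    have h1 : Scheme.Modules.Hom.app g (U.ι ⁻¹ᵁ V) (show Γ(M', U.ι ⁻¹ᵁ V) from rs M hVU.le m) = 0 := by
      rw [hg]; rfl
    have h2 : V ≤ U.ι ''ᵁ (W'.ι ''ᵁ (W'.ι ⁻¹ᵁ (U.ι ⁻¹ᵁ V))) := by
      rw [Groth.L21.Mod.image_preimage_of_le (U.ι.preimage_mono hV), hVU]
    have h3 : rs M (U.ι.image_mono (W'.ι.image_preimage_le (U.ι ⁻¹ᵁ V))) (rs M hVU.le m) = 0 := h1
    have h4 := congrArg (rs M h2) h3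
    rw [rs_rs, rs_rs, Groth.L18.Frame.rs_self] at h4
    exact h4.trans (map_zero _)
  refine ⟨W₀, fun z hz hsupp => hsupp ⟨fun p q => ?_⟩, W₀.2, hxW₀⟩
  obtain ⟨V, hzV, s, rfl⟩ := TopCat.Presheaf.exists_germ_eq M.presheaf p
  obtain ⟨V', hzV', t, rfl⟩ := TopCat.Presheaf.exists_germ_eq M.presheaf q
  have key : ∀ (V : X.Opens) (hzV : z ∈ V) (s : Γ(M, V)), M.presheaf.germ V z hzV s = 0 := fun V hzV s => by
    have h1 := Groth.L20.ModStalk.germ_rs M (inf_le_left : V ⊓ W₀ ≤ V) (show z ∈ V ⊓ W₀ from ⟨hzV, hz⟩) s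
    rw [hsec (V ⊓ W₀) inf_le_right (rs M (inf_le_left : V ⊓ W₀ ≤ V) s)] at h1
    exact h1.symm.trans (map_zero _)
  exact (key V hzV s).trans (key V' hzV' t).symm

/-- The kernel of a map from a coherent module to a quasi-coherent one is coherent. -/
theorem isCoh_kernel [IsLocallyNoetherian X] {F G : X.Modules} (hF : Coh.IsCoh F)
    [Coh.IsQCoh G] (φ : F ⟶ G) : Coh.IsCoh (kernel φ) := by
  haveI : Coh.IsQCoh F := hF.1
  refine CohKernel.isCoh_of_tilde_charts _ fun x => ?_
  obtain ⟨_, ⟨U, hU, rfl⟩, hxU, -⟩ :=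
    X.isBasis_affineOpens.exists_subset_of_mem_open (Set.mem_univ x) isOpen_univ
  haveI : IsNoetherianRing Γ(X, U) := IsLocallyNoetherian.component_noetherian ⟨U, hU⟩
  let j := hU.fromSpec
  obtain ⟨NF, ⟨eF⟩⟩ := Groth.L00.Local.exists_tilde_iso_restrict j F
  obtain ⟨NG, ⟨eG⟩⟩ := Groth.L00.Local.exists_tilde_iso_restrict j G
  haveI := CohKernel.finite_of_tilde_iso F hF.2 j NF eF
  obtain ⟨l, hl⟩ := (tilde.functor Γ(X, U)).map_surjective
    (eF.inv ≫ (Scheme.Modules.restrictFunctor j).map φ ≫ eG.hom)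
  refine ⟨_, j, inferInstance, kernel l, hU.opensRange_fromSpec.ge hxU, ?_, ⟨?_⟩⟩
  · exact Module.Finite.of_injective (kernel.ι l).hom ((ModuleCat.mono_iff_injective _).1 inferInstance)
  · exact PreservesKernel.iso (Scheme.Modules.restrictFunctor j) φ ≪≫
      kernel.mapIso _ ((tilde.functor _).map l) eF eG (by rw [hl]; simp) ≪≫
      (PreservesKernel.iso (tilde.functor _) l).symm

theorem isCoh_of_iso [IsLocallyNoetherian X] {F G : X.Modules} (e : F ≅ G) (hF : Coh.IsCoh F) :
    Coh.IsCoh G := by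
  haveI : Coh.IsQCoh F := hF.1
  refine CohKernel.isCoh_of_tilde_charts _ fun x => ?_
  obtain ⟨_, ⟨U, hU, rfl⟩, hxU, -⟩ :=
    X.isBasis_affineOpens.exists_subset_of_mem_open (Set.mem_univ x) isOpen_univ
  let j := hU.fromSpec
  obtain ⟨NF, ⟨eF⟩⟩ := Groth.L00.Local.exists_tilde_iso_restrict j F
  exact ⟨_, j, inferInstance, NF, hU.opensRange_fromSpec.ge hxU,
    CohKernel.finite_of_tilde_iso F hF.2 j NF eF,
    ⟨((Scheme.Modules.restrictFunctor j).mapIso e).symm ≪≫ eF⟩⟩

/-- The image of a map from a coherent module to a quasi-coherent one is coherent. -/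
theorem isCoh_image [IsLocallyNoetherian X] {F G : X.Modules} (hF : Coh.IsCoh F)
    [Coh.IsQCoh G] (φ : F ⟶ G) : Coh.IsCoh (Abelian.image φ) :=
  isCoh_of_iso (Abelian.coimageIsoImage φ)
    (CohKernel.isCoh_kernel_cokernel (isCoh_kernel hF φ) hF (kernel.ι φ)).2

/-- The length of the stalk. -/
noncomputable def len (x : X) (M : X.Modules) : ℕ∞ :=
  Module.length (X.presheaf.stalk x) (M.presheaf.stalk x)

theorem len_eq_zero_iff (x : X) (M : X.Modules) : len x M = 0 ↔ x ∉ CohB1.support M :=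
  Module.length_eq_zero_iff.trans not_not.symm

theorem len_congr {M N : X.Modules} (e : M ≅ N) (x : X) : len x M = len x N :=
  ((Groth.L00.Stk.F X x).mapIso e).toLinearEquiv.length_eq

theorem len_add {S : ShortComplex X.Modules} (hS : S.ShortExact) (x : X) :
    len x S.X₂ = len x S.X₁ + len x S.X₃ := by
  have h := hS.map_of_exact (Groth.L00.Stk.F X x)
  have hinj := (ModuleCat.mono_iff_injective _).1 h.mono_f
  have hsurj := (ModuleCat.epi_iff_surjective _).1 h.epi_g
  exact Module.length_eq_add_of_exact ((Groth.L00.Stk.F X x).map S.f).hom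
    ((Groth.L00.Stk.F X x).map S.g).hom hinj hsurj
    fun m => ⟨fun hm => (ShortComplex.moduleCat_exact_iff _).1 h.exact m hm, by
      rintro ⟨n, rfl⟩
      exact ConcreteCategory.congr_hom (S.map (Groth.L00.Stk.F X x)).zero n⟩

/-- At a generic point of the support, a coherent module has finite length. -/
theorem len_ne_top [IsLocallyNoetherian X] {M : X.Modules} (hM : Coh.IsCoh M) {x : X}
    (hmax : ∀ z ∈ CohB1.support M, z ⤳ x → z = x) : len x M ≠ ⊤ := by
  haveI : Coh.IsQCoh M := hM.1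
  obtain ⟨_, ⟨V, hV, rfl⟩, hxV, -⟩ :=
    X.isBasis_affineOpens.exists_subset_of_mem_open (Set.mem_univ x) isOpen_univ
  haveI : IsNoetherianRing Γ(X, V) := IsLocallyNoetherian.component_noetherian ⟨V, hV⟩
  haveI hfin : Module.Finite Γ(X, V) Γ(M, V) := Groth.L20.ModStalk.finite_sections M hM hV
  letI := Groth.L20.ModStalk.stalkModule M hxV
  letI := X.presheaf.algebra_section_stalk ⟨x, hxV⟩
  haveI := hV.isLocalization_stalk ⟨x, hxV⟩
  haveI : IsScalarTower Γ(X, V) (X.presheaf.stalk x) (M.presheaf.stalk x) :=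
    IsScalarTower.of_algebraMap_smul fun _ _ => rfl
  haveI hloc := Groth.L20.ModStalk.isLocalizedModule_germ M hV hxV
  let S := (hV.primeIdealOf ⟨x, hxV⟩).asIdeal.primeCompl
  haveI : Module.Finite (X.presheaf.stalk x) (M.presheaf.stalk x) :=
    Module.Finite.of_isLocalizedModule (Rₚ := X.presheaf.stalk x) S (Groth.L20.ModStalk.germₗ M hxV)
  haveI : IsNoetherianRing (X.presheaf.stalk x) := IsLocalization.isNoetherianRing S _ inferInstance
  let A := Module.annihilator (X.presheaf.stalk x) (M.presheaf.stalk x)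
  have hQ : ∀ Q : Ideal (X.presheaf.stalk x), Q.IsPrime → A ≤ Q → Q = IsLocalRing.maximalIdeal _ := by
    intro Q hQ hAQ
    have hmem : (⟨Q, hQ⟩ : PrimeSpectrum (X.presheaf.stalk x)) ∈
        Module.support (X.presheaf.stalk x) (M.presheaf.stalk x) := by
      rw [Module.support_eq_zeroLocus]; exact hAQ
    obtain ⟨m, hm⟩ := Module.mem_support_iff'.1 hmem
    obtain ⟨⟨n, s⟩, hs⟩ := IsLocalizedModule.surj S (Groth.L20.ModStalk.germₗ M hxV) m
    let q : PrimeSpectrum Γ(X, V) :=
      PrimeSpectrum.comap (algebraMap Γ(X, V) (X.presheaf.stalk x)) ⟨Q, hQ⟩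
    have hzV : hV.fromSpec q ∈ V := hV.opensRange_fromSpec.le ⟨q, rfl⟩
    have hqz : hV.primeIdealOf ⟨hV.fromSpec q, hzV⟩ = q :=
      hV.fromSpec.isOpenEmbedding.injective (hV.fromSpec_primeIdealOf _)
    have hle : q ≤ hV.primeIdealOf ⟨x, hxV⟩ := by
      intro r hr
      by_contra hr'
      exact hQ.ne_top (Ideal.eq_top_of_isUnit_mem _ hr
        (IsLocalization.map_units (X.presheaf.stalk x) (⟨r, hr'⟩ : S)))
    have hspec : hV.fromSpec q ⤳ x := by
      have h1 : q ⤳ hV.primeIdealOf ⟨x, hxV⟩ := (PrimeSpectrum.le_iff_specializes _ _).1 hle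
      have h2 := h1.map hV.fromSpec.continuous
      rwa [hV.fromSpec_primeIdealOf] at h2
    have hsupp : hV.fromSpec q ∈ CohB1.support M := by
      intro hsub
      letI := Groth.L20.ModStalk.stalkModule M hzV
      haveI := Groth.L20.ModStalk.isLocalizedModule_germ M hV hzV
      obtain ⟨⟨r, hr⟩, hrn⟩ := (IsLocalizedModule.eq_zero_iff
        (hV.primeIdealOf ⟨hV.fromSpec q, hzV⟩).asIdeal.primeCompl
        (Groth.L20.ModStalk.germₗ M hzV) (m := n)).1 (Subsingleton.elim _ _)
      have hrq : r ∉ q.asIdeal := by rw [← hqz]; exact hr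
      refine hm (algebraMap Γ(X, V) (X.presheaf.stalk x) r) hrq ?_
      have hu : IsUnit (algebraMap Γ(X, V) (X.presheaf.stalk x) (s : Γ(X, V))) :=
        IsLocalization.map_units (X.presheaf.stalk x) s
      rw [← hu.smul_eq_zero, smul_comm]
      have hs' : algebraMap Γ(X, V) (X.presheaf.stalk x) (s : Γ(X, V)) • m =
          Groth.L20.ModStalk.germₗ M hxV n := hs
      rw [hs', algebraMap_smul, ← map_smul]
      exact (congrArg _ hrn).trans (map_zero _)
    have hzx := hmax _ hsupp hspec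
    have hq : q = hV.primeIdealOf ⟨x, hxV⟩ := by
      rw [← hqz]; exact congrArg hV.primeIdealOf (Subtype.ext hzx)
    refine le_antisymm (IsLocalRing.le_maximalIdeal hQ.ne_top) ?_
    intro r hr
    obtain ⟨⟨a, t⟩, hat⟩ := IsLocalization.surj S r
    have h1 : algebraMap Γ(X, V) (X.presheaf.stalk x) a ∈ Q := by
      show a ∈ q.asIdeal
      rw [hq]
      exact (IsLocalization.AtPrime.to_map_mem_maximal_iff (X.presheaf.stalk x) _ a).1
        (hat ▸ Ideal.mul_mem_right _ _ hr)
    rw [← hat] at h1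
    exact (hQ.mem_or_mem h1).resolve_right fun h2 =>
      hQ.ne_top (Ideal.eq_top_of_isUnit_mem _ h2 (IsLocalization.map_units _ t))
  haveI : Ring.KrullDimLE 0 (X.presheaf.stalk x ⧸ A) := by
    rw [Ring.krullDimLE_zero_iff]
    intro P hP
    have := hQ (P.comap (Ideal.Quotient.mk A)) inferInstance
      (fun a ha => by rw [Ideal.mem_comap, Ideal.Quotient.eq_zero_iff_mem.2 ha]; exact P.zero_mem)
    have e := Ideal.map_comap_of_surjective (Ideal.Quotient.mk A) Ideal.Quotient.mk_surjective P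
    rw [this] at e
    rw [← e]
    refine (Ideal.map_eq_top_or_isMaximal_of_surjective (Ideal.Quotient.mk A) Ideal.Quotient.mk_surjective
      (IsLocalRing.maximalIdeal.isMaximal _)).resolve_left fun h => hP.ne_top ?_
    rw [← e, h]
  haveI : IsArtinianRing (X.presheaf.stalk x ⧸ A) :=
    isArtinianRing_iff_isNoetherianRing_krullDimLE_zero.2 ⟨inferInstance, inferInstance⟩
  letI : Module (X.presheaf.stalk x ⧸ A) (M.presheaf.stalk x) :=
    Module.IsTorsionBySet.module (fun m a => Module.mem_annihilator.1 a.2 m)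
  haveI : IsScalarTower (X.presheaf.stalk x) (X.presheaf.stalk x ⧸ A) (M.presheaf.stalk x) :=
    Module.IsTorsionBySet.isScalarTower _
  haveI : Module.Finite (X.presheaf.stalk x ⧸ A) (M.presheaf.stalk x) :=
    Module.Finite.of_restrictScalars_finite (X.presheaf.stalk x) _ _
  haveI : IsArtinian (X.presheaf.stalk x ⧸ A) (M.presheaf.stalk x) := inferInstance
  haveI : IsArtinian (X.presheaf.stalk x) (M.presheaf.stalk x) :=
    isArtinian_of_surjective_algebraMap (R := X.presheaf.stalk x ⧸ A) Ideal.Quotient.mk_surjective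
  exact Module.length_ne_top

open Groth.L00.Sky in
/-- Skyscrapers of simple modules are quasi-coherent. -/
theorem isQCoh_sky (x : X) (N : ModuleCat.{u} (X.presheaf.stalk x))
    (hN : ∀ r ∈ IsLocalRing.maximalIdeal (X.presheaf.stalk x), ∀ m : N, r • m = 0) :
    Coh.IsQCoh (sky x N) := by
  refine QcqsPush.isQCoh_of_sections _ fun y => ?_
  obtain ⟨_, ⟨V, hV, rfl⟩, hyV, -⟩ :=
    X.isBasis_affineOpens.exists_subset_of_mem_open (Set.mem_univ y) isOpen_univ
  refine ⟨V, hyV, hV, fun a => ⟨fun s => ?_, fun t ht => ?_⟩⟩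
  · by_cases hx : x ∈ X.basicOpen a
    · refine ⟨0, (fun _ => (s : Sec x N _) ⟨hx⟩ : Sec x N V), ?_⟩
      refine Eq.trans ?_ ((congrArg (· • s) (show ro (X.basicOpen_le a) (a ^ 0) = 1 by
        rw [pow_zero]; exact map_one _)).trans (one_smul _ _)).symm
      rfl
    · exact ⟨0, 0, sec_ext fun h => absurd h hx⟩
  · by_cases hx : x ∈ X.basicOpen a
    · refine ⟨0, ?_⟩
      rw [pow_zero, one_smul]
      exact sec_ext fun h => congrFun ht ⟨hx⟩
    · refine ⟨1, sec_ext fun h => ?_⟩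
      show (X.presheaf.germ V x h (a ^ 1) : X.presheaf.stalk x) • (t : Sec x N V) ⟨h⟩ = 0
      rw [pow_one]
      exact hN _ ((IsLocalRing.mem_maximalIdeal _).2 fun hu => hx ((X.mem_basicOpen a x h).2 hu)) _

end Groth.L16.CohSupport
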