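import Groth.Agent.L16.CohClosedPush
import Groth.Agent.L20.ThickeningTopology
import Groth.Agent.L16.AffineBC.Pullback
import Groth.Prelude.Def_ClSub2

/-!
# The scheme-theoretic support of a quasi-coherent module of finite type
-/

set_option autoImplicit false
set_option linter.style.haveILetI false

universe u

open CategoryTheory CategoryTheory.Limits AlgebraicGeometry TopologicalSpace Opposite

noncomputable section

namespace Groth.L16.SchSupport

open Groth.L18.Frame (rs ro rs_rs rs_smul)

variable {X : Scheme.{u}} (M : X.Modules)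

theorem finite_sections (hM : Coh.IsCoh M) (U : X.affineOpens) : Module.Finite Γ(X, U.1) Γ(M, U.1) :=
  Groth.L20.ModStalk.finite_sections M hM U.2

variable {M} (hM : Coh.IsCoh M)

include hM in
theorem map_annihilator (U : X.affineOpens) (f : Γ(X, U.1)) :
    (Module.annihilator Γ(X, U.1) Γ(M, U.1)).map (X.presheaf.map (homOfLE <| X.basicOpen_le f).op).hom =
      Module.annihilator Γ(X, X.basicOpen f) Γ(M, X.basicOpen f) := by
  classical
  haveI : Coh.IsQCoh M := hM.1
  haveI := finite_sections M hM U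
  letI : Algebra Γ(X, U.1) Γ(X, X.basicOpen f) := (X.presheaf.map (homOfLE <| X.basicOpen_le f).op).hom.toAlgebra
  haveI := U.2.isLocalization_basicOpen f
  apply le_antisymm
  · rw [Ideal.map_le_iff_le_comap]
    intro a ha
    rw [Ideal.mem_comap, Module.mem_annihilator]
    intro s
    obtain ⟨n, t, ht⟩ := QCohSect.exists_pow_smul_eq_res U.2 M f s
    have hu : IsUnit ((X.presheaf.map (homOfLE <| X.basicOpen_le f).op).hom (f ^ n)) :=
      IsLocalization.map_units (M := Submonoid.powers f) Γ(X, X.basicOpen f) ⟨f ^ n, n, rfl⟩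
    apply hu.smul_eq_zero.1
    rw [smul_comm]
    show ro (X.basicOpen_le f) a • (ro (X.basicOpen_le f) (f ^ n) • s) = 0
    rw [← ht, ← rs_smul, Module.mem_annihilator.1 ha t]
    exact map_zero _
  · intro b hb
    obtain ⟨⟨a, ⟨_, n, rfl⟩⟩, hab⟩ := IsLocalization.surj (Submonoid.powers f) b
    obtain ⟨s, hs⟩ := Module.Finite.fg_top (R := Γ(X, U.1)) (M := Γ(M, U.1))
    have hN : ∀ m : Γ(M, U.1), ∃ N : ℕ, f ^ N • (a • m) = 0 := fun m => by
      refine QCohSect.exists_pow_smul_eq_zero U.2 M f _ ?_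
      rw [rs_smul, show ro (X.basicOpen_le f) a = b * ro (X.basicOpen_le f) (f ^ n) from hab.symm, mul_smul]
      exact Module.mem_annihilator.1 hb _
    choose N hN using hN
    let K := s.sup N
    have hK : f ^ K * a ∈ Module.annihilator Γ(X, U.1) Γ(M, U.1) := by
      rw [← Submodule.annihilator_top, ← hs, Submodule.mem_annihilator_span]
      rintro ⟨m, hm⟩
      obtain ⟨j, hj⟩ := Nat.exists_eq_add_of_le (Finset.le_sup (f := N) hm)
      show (f ^ K * a) • m = 0
      rw [show K = N m + j from hj, mul_smul, pow_add, mul_comm, mul_smul, hN, smul_zero]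
    refine (IsLocalization.mem_map_algebraMap_iff (Submonoid.powers f) Γ(X, X.basicOpen f)).2
      ⟨⟨⟨_, hK⟩, ⟨f ^ (K + n), K + n, rfl⟩⟩, ?_⟩
    show b * algebraMap _ _ (f ^ (K + n)) = algebraMap _ _ (f ^ K * a)
    rw [pow_add, map_mul, map_mul, mul_left_comm]
    exact congrArg _ hab

/-- The annihilator ideal sheaf. -/
def annIdeal : X.IdealSheafData where
  ideal U := Module.annihilator Γ(X, U.1) Γ(M, U.1)
  map_ideal_basicOpen := map_annihilator hM

theorem annIdeal_ideal (U : X.affineOpens) :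
    (annIdeal hM).ideal U = Module.annihilator Γ(X, U.1) Γ(M, U.1) := rfl

theorem mem_support_annIdeal (x : X) : x ∈ (annIdeal hM).support ↔ x ∈ CohB1.support M := by
  haveI : Coh.IsQCoh M := hM.1
  obtain ⟨_, ⟨U, hU, rfl⟩, hxU, -⟩ :=
    X.isBasis_affineOpens.exists_subset_of_mem_open (Set.mem_univ x) isOpen_univ
  rw [Scheme.IdealSheafData.mem_support_iff_of_mem (U := ⟨U, hU⟩) hxU]
  haveI := finite_sections M hM ⟨U, hU⟩
  letI := Groth.L20.ModStalk.stalkModule M hxU
  haveI := Groth.L20.ModStalk.isLocalizedModule_germ M hU hxU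
  have h1 : x ∈ CohB1.support M ↔ hU.primeIdealOf ⟨x, hxU⟩ ∈ Module.support Γ(X, U) Γ(M, U) := by
    rw [← not_iff_not, Module.notMem_support_iff]
    refine not_not.trans ?_
    exact ⟨fun h => (IsLocalizedModule.iso (hU.primeIdealOf ⟨x, hxU⟩).asIdeal.primeCompl
        (Groth.L20.ModStalk.germₗ M hxU)).toEquiv.subsingleton,
      fun h => (IsLocalizedModule.iso (hU.primeIdealOf ⟨x, hxU⟩).asIdeal.primeCompl
        (Groth.L20.ModStalk.germₗ M hxU)).symm.toEquiv.subsingleton⟩
  rw [h1, Module.support_eq_zeroLocus, PrimeSpectrum.mem_zeroLocus]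
  letI := X.presheaf.algebra_section_stalk ⟨x, hxU⟩
  haveI := hU.isLocalization_stalk ⟨x, hxU⟩
  have hmem : ∀ g : Γ(X, U), g ∈ (hU.primeIdealOf ⟨x, hxU⟩).asIdeal ↔ x ∉ X.basicOpen g := fun g => by
    rw [Scheme.mem_basicOpen X g x hxU]
    exact (IsLocalization.AtPrime.to_map_mem_maximal_iff (X.presheaf.stalk x)
      (hU.primeIdealOf ⟨x, hxU⟩).asIdeal g).symm.trans (IsLocalRing.mem_maximalIdeal _)
  rw [Scheme.mem_zeroLocus_iff]
  exact ⟨fun h g hg => (hmem g).2 (h g hg), fun h g hg => (hmem g).1 (h hg)⟩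

theorem coe_support_annIdeal : ((annIdeal hM).support : Set X) = CohB1.support M :=
  Set.ext fun x => mem_support_annIdeal hM x

/-- The ideal kills the module. -/
theorem smul_eq_zero_of_mem_ker {Z : Scheme.{u}} (i : Z ⟶ X) [IsClosedImmersion i]
    (hk : ClSub.KilledByIdeal i.ker M) (x : Z) (a : X.presheaf.stalk (i x)) (ha : i.stalkMap x a = 0)
    (m : M.presheaf.stalk (i x)) : a • m = 0 := by
  obtain ⟨V, hxV, r, rfl⟩ := TopCat.Presheaf.exists_germ_eq (F := X.presheaf) (x := i x) a
  obtain ⟨W, hxW, n, rfl⟩ := TopCat.Presheaf.exists_germ_eq M.presheaf m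
  rw [Scheme.Hom.germ_stalkMap_apply] at ha
  obtain ⟨W', hxW', i₁, i₂, hW'⟩ := TopCat.Presheaf.germ_eq Z.presheaf x (show x ∈ i ⁻¹ᵁ V from hxV) (show x ∈ i ⁻¹ᵁ V from hxV) (i.app V r) 0
    (ha.trans (map_zero _).symm)
  obtain ⟨O, hO, hOW'⟩ := i.isClosedEmbedding.isInducing.isOpen_iff.1 W'.2
  obtain ⟨_, ⟨V', hV', rfl⟩, hxV', hV'sub⟩ := X.isBasis_affineOpens.exists_subset_of_mem_open
    (show i x ∈ (V : Set X) ∩ W ∩ O from ⟨⟨hxV, hxW⟩, by
      have : x ∈ i ⁻¹' O := hOW' ▸ hxW'
      exact this⟩) ((V.2.inter W.2).inter hO)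
  have h1 : V' ≤ V := fun y hy => (hV'sub hy).1.1
  have h2 : V' ≤ W := fun y hy => (hV'sub hy).1.2
  have h3 : i ⁻¹ᵁ V' ≤ W' := fun y hy => (Set.ext_iff.1 hOW' y).1 (hV'sub hy).2
  have hmem : ro h1 r ∈ i.ker.ideal ⟨V', hV'⟩ := by
    rw [Scheme.Hom.ker_apply, RingHom.mem_ker]
    show i.app V' (X.presheaf.map (homOfLE h1).op r) = 0
    rw [← ConcreteCategory.comp_apply, i.naturality]
    show Z.presheaf.map ((Opens.map i.base).map (homOfLE h1)).op (i.app V r) = 0
    rw [show ((Opens.map i.base).map (homOfLE h1)).op = i₁.op ≫ (homOfLE h3).op from Subsingleton.elim _ _,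
      Functor.map_comp, ConcreteCategory.comp_apply, hW', map_zero, map_zero]
  rw [← Groth.L20.ModStalk.germ_rs M h2 hxV' n, ← show X.presheaf.germ V' (i x) hxV' (ro h1 r) =
    X.presheaf.germ V (i x) hxV r from TopCat.Presheaf.germ_res_apply X.presheaf (homOfLE h1) (i x) hxV' r,
    ← Groth.L20.ModStalk.germ_smul M hxV']
  exact (congrArg (M.presheaf.germ V' (i x) hxV') (hk ⟨V', hV'⟩ _ hmem (rs M h2 n))).trans (map_zero _)

open Groth.L17.ClosedPush Groth.L00.PullStalk in
/-- A module killed by the ideal of a closed subscheme is the push forward of its restriction. -/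
theorem isIso_unit {Z : Scheme.{u}} (i : Z ⟶ X) [IsClosedImmersion i] (M : X.Modules)
    (hs : CohB1.support M ⊆ Set.range i) (hk : ClSub.KilledByIdeal i.ker M) :
    IsIso ((Scheme.Modules.pullbackPushforwardAdjunction i).unit.app M) := by
  rw [Groth.L21.Mod.isIso_iff_stalk_bijective]
  intro p
  by_cases hp : p ∈ Set.range i
  · obtain ⟨x, rfl⟩ := hp
    have hinj : Function.Injective ((ModuleCat.extendRestrictScalarsAdj (φ i x)).unit.app
        ((Groth.L00.Stk.F X (i x)).obj M)) := by
      letI := (φ i x).toAlgebra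
      intro a b hab
      let ε : (X.presheaf.stalk (i x)) ⧸ RingHom.ker (φ i x) ≃+* Z.presheaf.stalk x :=
        RingHom.quotientKerEquivOfSurjective (φ_surjective i x)
      have hdec : ∀ s : Z.presheaf.stalk x, ∃ r, φ i x r = s := φ_surjective i x
      choose σ hσ using hdec
      have hwd : ∀ r r', φ i x r = φ i x r' → ∀ m : (Groth.L00.Stk.F X (i x)).obj M, r • m = r' • m := by
        intro r r' h m
        rw [← sub_eq_zero, ← sub_smul]
        exact smul_eq_zero_of_mem_ker i hk x _ (by rw [map_sub, sub_eq_zero]; exact h) m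
      let B : Z.presheaf.stalk x →ₗ[X.presheaf.stalk (i x)]
          (Groth.L00.Stk.F X (i x)).obj M →ₗ[X.presheaf.stalk (i x)] (Groth.L00.Stk.F X (i x)).obj M :=
        LinearMap.mk₂ _ (fun s m => σ s • m)
          (fun s t m => by rw [hwd _ (σ s + σ t) (by rw [map_add, hσ, hσ, hσ]), add_smul])
          (fun r s m => by
            rw [hwd _ (r * σ s) (by rw [map_mul, hσ, hσ]; rfl), mul_smul])
          (fun s m m' => smul_add _ _ _) (fun r s m => smul_comm _ _ _)
      have h1 := congrArg (TensorProduct.lift B) hab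
      change σ 1 • a = σ 1 • b at h1
      rwa [hwd _ 1 (by rw [hσ, map_one]), one_smul, hwd _ 1 (by rw [hσ, map_one]), one_smul] at h1
    have hcomp : Function.Bijective fun q => (stalkIso i x).hom.app M (c₀ i _ x
        ((Groth.L00.Stk.F X (i x)).map ((Scheme.Modules.pullbackPushforwardAdjunction i).unit.app M) q)) := by
      simp only [stalkIso_unit]
      exact ⟨hinj, unit_extend_surjective i x _⟩
    have hs2 := (ConcreteCategory.bijective_of_isIso ((stalkIso i x).hom.app M)).comp (c₀_bijective i _ x)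
    exact (Function.Bijective.of_comp_iff' hs2 _).1 hcomp
  · have h0 : Subsingleton (M.presheaf.stalk p) := not_not.1 fun h => hp (hs h)
    have h1 : Subsingleton (((Scheme.Modules.pushforward i).obj ((Scheme.Modules.pullback i).obj M)).presheaf.stalk p) :=
      subsingleton_stalk_push i _ hp
    exact ⟨fun a b _ => @Subsingleton.elim _ h0 _ _, fun z => ⟨0, @Subsingleton.elim _ h1 _ _⟩⟩

/-- A module with a closed subscheme over which the unit is an isomorphism is killed by its ideal. -/
theorem le_annIdeal (J' : X.IdealSheafData)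
    [IsIso ((Scheme.Modules.pullbackPushforwardAdjunction J'.subschemeι).unit.app M)] : J' ≤ annIdeal hM := by
  intro U r hr
  let η := (Scheme.Modules.pullbackPushforwardAdjunction J'.subschemeι).unit.app M
  rw [annIdeal_ideal, Module.mem_annihilator]
  intro m
  have hz : J'.subschemeι.app U.1 r = 0 := by
    rw [← RingHom.mem_ker, ← Scheme.Hom.ker_apply, Scheme.IdealSheafData.ker_subschemeι]
    exact hr
  haveI : IsIso η := inferInstance
  have h1 : η.app U.1 (r • m) = 0 := by
    rw [η.app_smul]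
    show J'.subschemeι.app U.1 r • (show Γ((Scheme.Modules.pullback J'.subschemeι).obj M, _) from η.app U.1 m) = 0
    rw [hz, zero_smul]
  have h2 := congrArg ((inv η).app U.1) h1
  rw [map_zero, ← ConcreteCategory.comp_apply] at h2
  have h3 : (η ≫ inv η).app U.1 = 𝟙 _ := by rw [IsIso.hom_inv_id]; rfl
  exact (congr($(h3) (r • m))).symm.trans h2

theorem killed_ker : ClSub.KilledByIdeal (annIdeal hM).subschemeι.ker M := by
  rw [Scheme.IdealSheafData.ker_subschemeι]
  exact fun U a ha m => Module.mem_annihilator.1 ha m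

theorem isIso_unit_annIdeal :
    IsIso ((Scheme.Modules.pullbackPushforwardAdjunction (annIdeal hM).subschemeι).unit.app M) :=
  isIso_unit _ M (by rw [Scheme.IdealSheafData.range_subschemeι, coe_support_annIdeal]) (killed_ker hM)

/-- A closed subscheme with proper underlying closed subset is proper. -/
theorem isProper_of_isProperOver {S : Scheme.{u}} (f : X ⟶ S) [LocallyOfFiniteType f] {Z : Set X}
    (h : ClSub.IsProperOver f Z) {T : Scheme.{u}} (i : T ⟶ X) [IsClosedImmersion i] (hr : Set.range i = Z) :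
    IsProper (i ≫ f) := by
  obtain ⟨hZ, hp⟩ := h
  let V := Scheme.IdealSheafData.vanishingIdeal ⟨Z, hZ⟩
  have hrV : Set.range V.subschemeι = Z := by
    rw [Scheme.IdealSheafData.range_subschemeι, Scheme.IdealSheafData.coe_support_vanishingIdeal]; rfl
  have hle : i.ker ≤ V.subschemeι.ker := by
    rw [Scheme.IdealSheafData.ker_subschemeι, ← Scheme.IdealSheafData.le_support_iff_le_vanishingIdeal]
    show Z ⊆ _
    rw [Scheme.Hom.support_ker, hr]
    exact subset_closure
  let j : V.subscheme ⟶ T := IsClosedImmersion.lift i V.subschemeι hle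
  have hj : j ≫ i = V.subschemeι := IsClosedImmersion.lift_fac _ _ _
  haveI : IsClosedImmersion (j ≫ i) := hj ▸ inferInstance
  haveI : IsClosedImmersion j := IsClosedImmersion.of_comp j i
  haveI : Surjective j := ⟨fun t => by
    obtain ⟨z, hz⟩ : i t ∈ Set.range V.subschemeι := by rw [hrV, ← hr]; exact ⟨t, rfl⟩
    exact ⟨z, i.isClosedEmbedding.injective (by rw [← Scheme.Hom.comp_apply, hj]; exact hz)⟩⟩
  haveI : IsProper (j ≫ i ≫ f) := by rw [← Category.assoc, hj]; exact hp
  haveI : UniversallyClosed (i ≫ f) := UniversallyClosed.of_comp_surjective j _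
  haveI : IsSeparated (i ≫ f) := Groth.L20.Thick.isSeparated_of_comp_surjective j _
  exact {}

/-- A coherent module with proper support is pushed forward from a closed subscheme proper over the base. -/
theorem exists_proper_subscheme {S : Scheme.{u}} (f : X ⟶ S) [LocallyOfFiniteType f]
    (hM : Coh.IsCoh M) (h : ClSub.IsProperOver f (CohB1.support M)) :
    ∃ (Z : Scheme.{u}) (i : Z ⟶ X), IsClosedImmersion i ∧ IsProper (i ≫ f) ∧
      ∃ N : Z.Modules, Coh.IsCoh N ∧ Nonempty ((Coh.push i).obj N ≅ M) := by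
  let J := annIdeal hM
  haveI := isIso_unit_annIdeal hM
  let e := asIso ((Scheme.Modules.pullbackPushforwardAdjunction J.subschemeι).unit.app M)
  refine ⟨J.subscheme, J.subschemeι, inferInstance, isProper_of_isProperOver f h J.subschemeι (by
    rw [Scheme.IdealSheafData.range_subschemeι, coe_support_annIdeal]), (Scheme.Modules.pullback J.subschemeι).obj M, ?_, ⟨e.symm⟩⟩
  haveI : Coh.IsQCoh M := hM.1
  exact AffineBC.isCoh_pullback J.subschemeι hM

/-- A coherent module killed by the ideal of a closed subscheme comes from the subscheme. -/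
theorem exists_of_killed {Z : Scheme.{u}} (i : Z ⟶ X) [IsClosedImmersion i] {M : X.Modules} (hM : Coh.IsCoh M)
    (hk : ClSub.KilledByIdeal i.ker M) :
    ∃ G : Z.Modules, Coh.IsCoh G ∧ Nonempty ((Coh.push i).obj G ≅ M) := by
  have hs : CohB1.support M ⊆ Set.range i := by
    have hle : i.ker ≤ annIdeal hM := fun U a ha => Module.mem_annihilator.2 fun m => hk U a ha m
    have h := Scheme.IdealSheafData.support_antitone hle
    rw [← SetLike.coe_subset_coe, coe_support_annIdeal, Scheme.Hom.support_ker,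
      i.isClosedEmbedding.isClosed_range.closure_eq] at h
    exact h
  haveI := isIso_unit i M hs hk
  exact ⟨_, AffineBC.isCoh_pullback i hM,
    ⟨(asIso ((Scheme.Modules.pullbackPushforwardAdjunction i).unit.app M)).symm⟩⟩

end Groth.L16.SchSupport
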