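import Groth.Agent.L16.CohSupport
import Groth.Agent.L16.CohClosedPush

/-!
# Splitting the support of a coherent module
-/

set_option autoImplicit false
set_option linter.style.haveILetI false

universe u

open CategoryTheory CategoryTheory.Limits AlgebraicGeometry TopologicalSpace Opposite

noncomputable section

namespace Groth.L16.SupportSplit

open Groth.L18.Frame (rs rs_rs)

variable {X : Scheme.{u}}

/-- A section is zero if the support avoids its domain. -/
theorem section_eq_zero (M : X.Modules) {V : X.Opens} (h : ∀ x ∈ V, x ∉ CohB1.support M) (m : Γ(M, V)) : m = 0 :=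
  TopCat.Presheaf.section_ext (⟨M.presheaf, M.isSheaf⟩ : TopCat.Sheaf Ab X.toTopCat) V m 0 fun x hx =>
    @Subsingleton.elim _ (not_not.1 (h x hx)) _ _

/-- Splitting the support of a coherent module on a Noetherian scheme. -/
theorem exists_split [AlgebraicGeometry.IsNoetherian X] (M : X.Modules) (hM : Coh.IsCoh M)
    (Z Z' : Set X) (hZ : IsClosed Z) (hZ' : IsClosed Z') (h : CohB1.support M = Z ∪ Z') :
    ∃ S : ShortComplex X.Modules, S.ShortExact ∧ Nonempty (S.X₂ ≅ M) ∧ Coh.IsCoh S.X₁ ∧ Coh.IsCoh S.X₃ ∧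
      CohB1.support S.X₁ ⊆ Z' ∧ CohB1.support S.X₃ ⊆ Z := by
  let U : X.Opens := ⟨Z'ᶜ, hZ'.isOpen_compl⟩
  let j := U.ι
  haveI : QuasiCompact j := inferInstance
  let N := (Scheme.Modules.pushforward j).obj (M.restrict j)
  let η : M ⟶ N := (Scheme.Modules.restrictAdjunction j).unit.app M
  haveI : Coh.IsQCoh M := hM.1
  haveI : Coh.IsQCoh (M.restrict j) := Scheme.Modules.isQuasicoherent_restrictFunctor j M
  haveI : Coh.IsQCoh N := QcqsPush.isQCoh_push (M.restrict j) j
  refine ⟨ShortComplex.mk (kernel.ι η) (Abelian.factorThruImage η) ?_, ?_, ⟨Iso.refl _⟩,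
    CohSupport.isCoh_kernel hM η, CohSupport.isCoh_image hM η, ?_, ?_⟩
  · rw [← cancel_mono (Abelian.image.ι η), Category.assoc, Abelian.image.fac, kernel.condition, Limits.zero_comp]
  · refine { exact := ?_, epi_g := inferInstanceAs (Epi (Abelian.factorThruImage η)) }
    exact ShortComplex.exact_of_f_is_kernel _ (isKernelOfComp _ _ (kernelIsKernel η) _
      (Abelian.image.fac η))
  · intro x hx
    by_contra hxZ
    let R := Scheme.Modules.restrictFunctor j
    haveI : IsIso (R.map η) :=
      @IsIso.of_isIso_comp_right _ _ _ _ _ (R.map η) ((Scheme.Modules.restrictAdjunction j).counit.app (R.obj M))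
        inferInstance (by rw [(Scheme.Modules.restrictAdjunction j).left_triangle_components M]; exact IsIso.id _)
    have h0 : R.map (kernel.ι η) = 0 := by
      rw [← cancel_mono (R.map η), ← Functor.map_comp, kernel.condition, Functor.map_zero, Limits.zero_comp]
    have hz : IsZero (R.obj (kernel η)) := by
      rw [IsZero.iff_id_eq_zero, ← cancel_mono (R.map (kernel.ι η)), Category.id_comp, h0, Limits.comp_zero]
    have hx' : (⟨x, hxZ⟩ : U.toScheme) ∈ j ⁻¹' CohB1.support (kernel η) := hx
    rw [← Groth.L21.Mod.support_restrict, (Groth.L21.Mod.isZero_iff_support_eq_empty _).1 hz] at hx'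
    exact hx'
  · intro x hx
    by_contra hxZ
    refine (Groth.L21.Mod.support_mono (Abelian.image.ι η)) hx (subsingleton_of_forall_eq 0 fun g => ?_)
    obtain ⟨W, hxW, n, rfl⟩ := TopCat.Presheaf.exists_germ_eq N.presheaf g
    let W' : X.Opens := W ⊓ ⟨Zᶜ, hZ.isOpen_compl⟩
    have hle : W' ≤ W := inf_le_left
    rw [← Groth.L20.ModStalk.germ_rs N hle (show x ∈ W' from ⟨hxW, hxZ⟩) n]
    have hzero : rs N hle n = 0 := section_eq_zero M (V := j ''ᵁ (j ⁻¹ᵁ W')) (by
      rintro _ ⟨y, hy, rfl⟩ hs
      rw [h] at hs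
      exact hs.elim (fun hz => hy.2 hz) (fun hz' => y.2 hz')) _
    rw [hzero]
    exact map_zero _

end Groth.L16.SupportSplit
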