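import Groth.Agent.L18.Frame
import Groth.Agent.L16.EpiFrames
import Groth.Agent.L00.KFlatBasic
import Groth.Agent.L21.Mod.Locality
import Groth.Agent.L20.ModStalk

/-!
Modules with frames on a cover: isomorphism from equal transition functions, flatness, exact tensoring.
-/

universe u

open CategoryTheory CategoryTheory.Limits MonoidalCategory AlgebraicGeometry TopologicalSpace Opposite

namespace Groth.L16.FrameIso

open Groth.L18.Frame (rs ro rs_rs ro_ro rs_smul rs_self IsFrame)

variable {X : Scheme.{u}} {L M : X.Modules} {ι : Type u} (U : ι → X.Opens) (e : ∀ i, Γ(L, U i))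
  (he : ∀ i, IsFrame L (U i) (e i)) (hU : ∀ x : X, ∃ i, x ∈ U i) (c : ∀ i j : ι, Γ(X, U i ⊓ U j))
  (hrel : ∀ i j, rs L inf_le_left (e i) = c i j • rs L inf_le_right (e j))

include he hU hrel in
/-- Sections with the transition functions of the frames give a morphism. -/
theorem exists_hom (t : ∀ i, Γ(M, U i))
    (ht : ∀ i j, rs M inf_le_left (t i) = c i j • rs M inf_le_right (t j)) :
    ∃ φ : L ⟶ M, ∀ i, φ.app (U i) (e i) = t i := by
  let OM : TopCat.Sheaf Ab.{u} X.toTopCat := ⟨M.presheaf, M.isSheaf⟩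
  have key : ∀ (V : X.Opens) (m : Γ(L, V)), ∃! y : Γ(M, V),
      ∀ (i : ι) (W : X.Opens) (hV : W ≤ V) (hi : W ≤ U i) (d : Γ(X, W)),
        d • rs L hi (e i) = rs L hV m → rs M hV y = d • rs M hi (t i) := by
    intro V m
    choose d hd using fun i => (he i).exists_coeff (inf_le_right : V ⊓ U i ≤ U i) (rs L inf_le_left m)
    have hcomp : ∀ (i j : ι) (W : X.Opens) (hi : W ≤ V ⊓ U i) (hj : W ≤ V ⊓ U j),
        rs M hi (d i • rs M inf_le_right (t i)) = rs M hj (d j • rs M inf_le_right (t j)) := by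
      intro i j W hi hj
      have hij : W ≤ U i ⊓ U j := le_inf (hi.trans inf_le_right) (hj.trans inf_le_right)
      have e1 := congrArg (rs L hi) (hd i)
      have e2 := congrArg (rs L hj) (hd j)
      have e3 := congrArg (rs L hij) (hrel i j)
      have e4 := congrArg (rs M hij) (ht i j)
      simp only [rs_smul, rs_rs] at e1 e2 e3 e4 ⊢
      rw [e3, ← mul_smul] at e1
      rw [e4, ← mul_smul]
      exact congrArg (· • _) ((he j).inj (hj.trans inf_le_right) (e1.trans e2.symm))
    have hcv : V ≤ ⨆ i, V ⊓ U i := fun x hx => by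
      obtain ⟨i, hi⟩ := hU x
      exact Opens.mem_iSup.2 ⟨i, hx, hi⟩
    obtain ⟨y, hy, huniq⟩ := OM.existsUnique_gluing' (fun i => V ⊓ U i) V (fun i => homOfLE inf_le_left)
      hcv (fun i => (d i • rs M inf_le_right (t i) : Γ(M, V ⊓ U i)))
      (fun i j => hcomp i j _ inf_le_left inf_le_right)
    refine ⟨y, fun i W hV hi a ha => ?_, fun y' hy' => huniq y' fun i => ?_⟩
    · have e0 := congrArg (rs L (le_inf hV hi)) (hd i)
      simp only [rs_smul, rs_rs] at e0
      have e3 : a = ro (le_inf hV hi) (d i) := (he i).inj hi (ha.trans e0.symm)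
      rw [e3, ← rs_rs M (inf_le_left : V ⊓ U i ≤ V) (le_inf hV hi) y,
        show rs M (inf_le_left : V ⊓ U i ≤ V) y = _ from hy i, rs_smul, rs_rs]
    · exact hy' i (V ⊓ U i) inf_le_left inf_le_right (d i) (hd i)
  choose ψ hψ huniq using key
  have hnat : ∀ (V V' : X.Opens) (h : V' ≤ V) (m : Γ(L, V)),
      ψ V' (rs L h m) = rs M h (ψ V m) := fun V V' h m =>
    (huniq V' (rs L h m) (rs M h (ψ V m)) fun i W hW hi a ha => by
      rw [rs_rs] at ha ⊢
      exact hψ V m i W (hW.trans h) hi a ha).symm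
  have hsm : ∀ (V : X.Opens) (r : Γ(X, V)) (m : Γ(L, V)), ψ V (r • m) = r • ψ V m := fun V r m =>
    (huniq V (r • m) (r • ψ V m) fun i W hV hi a ha => by
      obtain ⟨d, hd⟩ := (he i).exists_coeff hi (rs L hV m)
      rw [rs_smul, ← hd, ← mul_smul] at ha
      rw [rs_smul, hψ V m i W hV hi d hd, ← mul_smul, (he i).inj hi ha]).symm
  have hadd : ∀ (V : X.Opens) (m m' : Γ(L, V)), ψ V (m + m') = ψ V m + ψ V m' := fun V m m' =>
    (huniq V (m + m') (ψ V m + ψ V m') fun i W hV hi a ha => by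
      obtain ⟨d, hd⟩ := (he i).exists_coeff hi (rs L hV m)
      obtain ⟨d', hd'⟩ := (he i).exists_coeff hi (rs L hV m')
      rw [EpiFrames.rs_add, ← hd, ← hd', ← add_smul] at ha
      rw [EpiFrames.rs_add, hψ V m i W hV hi d hd, hψ V m' i W hV hi d' hd', ← add_smul,
        (he i).inj hi ha]).symm
  let φ : L ⟶ M := ⟨PresheafOfModules.homMk
    { app := fun V => AddCommGrpCat.ofHom (AddMonoidHom.mk' (fun m : Γ(L, V.unop) => ψ V.unop m) (hadd V.unop))
      naturality := fun {V V'} f => by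
        ext m
        exact hnat V.unop V'.unop f.unop.le m }
    (fun V r m => hsm V.unop r m)⟩
  refine ⟨φ, fun i => ?_⟩
  have := hψ (U i) (e i) i (U i) le_rfl le_rfl 1 (one_smul _ _)
  rw [one_smul, rs_self, rs_self] at this
  exact this

include he hU in
/-- Two maps agreeing on the frames are equal. -/
theorem hom_ext (φ ψ : L ⟶ M) (h : ∀ i, φ.app (U i) (e i) = ψ.app (U i) (e i)) : φ = ψ := by
  apply Scheme.Modules.hom_ext
  intro V
  ext m
  refine TopCat.Sheaf.eq_of_locally_eq' (⟨M.presheaf, M.isSheaf⟩ : TopCat.Sheaf Ab X.toTopCat)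
    (fun i => V ⊓ U i) V (fun i => homOfLE inf_le_left) (fun x hx => by
      obtain ⟨i, hi⟩ := hU x
      exact Opens.mem_iSup.2 ⟨i, hx, hi⟩) _ _ fun i => ?_
  show rs M inf_le_left (φ.app V m) = rs M inf_le_left (ψ.app V m)
  obtain ⟨d, hd⟩ := (he i).exists_coeff (inf_le_right : V ⊓ U i ≤ U i) (rs L inf_le_left m)
  rw [← EpiFrames.app_rs, ← EpiFrames.app_rs, ← hd, φ.app_smul, ψ.app_smul, EpiFrames.app_rs,
    EpiFrames.app_rs, h i]

include he hU hrel in
/-- Frames with the same transition functions give an isomorphism. -/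
theorem nonempty_iso (e' : ∀ i, Γ(M, U i)) (he' : ∀ i, IsFrame M (U i) (e' i))
    (hrel' : ∀ i j, rs M inf_le_left (e' i) = c i j • rs M inf_le_right (e' j)) : Nonempty (L ≅ M) := by
  obtain ⟨φ, hφ⟩ := exists_hom U e he hU c hrel e' hrel'
  obtain ⟨ψ, hψ⟩ := exists_hom U e' he' hU c hrel' e hrel
  refine ⟨⟨φ, ψ, hom_ext U e he hU _ _ fun i => ?_, hom_ext U e' he' hU _ _ fun i => ?_⟩⟩
  · show ψ.app (U i) (φ.app (U i) (e i)) = e i
    rw [hφ, hψ]
  · show φ.app (U i) (ψ.app (U i) (e' i)) = e' i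
    rw [hψ, hφ]

include he hU in
/-- A module with frames on a cover is flat. -/
theorem isFlat_of_frames : FlatMod.IsFlat L := by
  intro x
  obtain ⟨i, hi⟩ := hU x
  let g : X.presheaf.stalk x →ₗ[X.presheaf.stalk x] L.presheaf.stalk x :=
    LinearMap.toSpanSingleton _ _ (L.presheaf.germ (U i) x hi (e i))
  have hg : Function.Bijective g := by
    refine ⟨(injective_iff_map_eq_zero g).2 fun r hr => ?_, fun v => ?_⟩
    · obtain ⟨V, hV, a, rfl⟩ := TopCat.Presheaf.exists_germ_eq (F := X.presheaf) (x := x) r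
      have hW : x ∈ V ⊓ U i := ⟨hV, hi⟩
      have h1 : L.presheaf.germ (V ⊓ U i) x hW
          (ro (inf_le_left : V ⊓ U i ≤ V) a • rs L (inf_le_right : V ⊓ U i ≤ U i) (e i)) =
          L.presheaf.germ (V ⊓ U i) x hW 0 := by
        rw [map_zero, Groth.L20.ModStalk.germ_smul, Groth.L20.ModStalk.germ_rs]
        exact (congrArg (· • _) (TopCat.Presheaf.germ_res_apply X.presheaf (homOfLE inf_le_left) x hW a)).trans hr
      obtain ⟨W', hxW', i₁, i₂, h2⟩ := TopCat.Presheaf.germ_eq L.presheaf x hW hW _ _ h1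
      have h3 : rs L i₁.le (ro inf_le_left a • rs L inf_le_right (e i)) = 0 := h2.trans (map_zero _)
      rw [rs_smul, ro_ro, rs_rs] at h3
      have h4 : ro (i₁.le.trans inf_le_left) a = 0 :=
        (he i).inj (i₁.le.trans inf_le_right) (h3.trans (zero_smul _ _).symm)
      rw [← TopCat.Presheaf.germ_res_apply X.presheaf (homOfLE (i₁.le.trans inf_le_left)) x hxW' a]
      exact (congrArg _ h4).trans (map_zero _)
    · obtain ⟨V, hV, m, rfl⟩ := TopCat.Presheaf.exists_germ_eq (F := L.presheaf) (x := x) v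
      have hW : x ∈ V ⊓ U i := ⟨hV, hi⟩
      obtain ⟨d, hd⟩ := (he i).exists_coeff (inf_le_right : V ⊓ U i ≤ U i) (rs L inf_le_left m)
      refine ⟨X.presheaf.germ _ x hW d, ?_⟩
      rw [← Groth.L20.ModStalk.germ_rs L (inf_le_left : V ⊓ U i ≤ V) hW m, ← hd,
        Groth.L20.ModStalk.germ_smul, Groth.L20.ModStalk.germ_rs]
      rfl
  exact Module.Flat.of_linearEquiv (LinearEquiv.ofBijective g hg).symm

/-- Tensoring with a flat module is exact. -/
theorem shortExact_tensor_left {F : X.Modules} (hF : FlatMod.IsFlat F) (S : ShortComplex X.Modules)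
    (hS : S.ShortExact) : (S.map ((DCoh.tensorBi (X := X)).obj F)).ShortExact := by
  refine Groth.L00.KFlat.shortExact_of_stalks _ fun x => ?_
  let S' : ShortComplex (ModuleCat.{u} (X.presheaf.stalk x)) := S.map (Groth.L00.Stk.F X x)
  have hS' : S'.ShortExact := hS.map_of_exact _
  haveI : Module.Flat (X.presheaf.stalk x) ((Groth.L00.Stk.F X x).obj F) := hF x
  let T := (curriedTensor (ModuleCat.{u} (X.presheaf.stalk x))).obj ((Groth.L00.Stk.F X x).obj F)
  have hT : (S'.map T).ShortExact := by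
    refine { exact := ?_, mono_f := ?_, epi_g := ?_ }
    · rw [ShortComplex.moduleCat_exact_iff_ker_sub_range]
      intro y hy
      exact (lTensor_exact _ (CategoryTheory.ShortComplex.ShortExact.moduleCat_exact_iff_function_exact _ |>.1 hS'.exact)
        hS'.moduleCat_surjective_g y).1 hy
    · rw [ModuleCat.mono_iff_injective]
      exact Module.Flat.lTensor_preserves_injective_linearMap _ hS'.moduleCat_injective_f
    · rw [ModuleCat.epi_iff_surjective]
      exact LinearMap.lTensor_surjective _ hS'.moduleCat_surjective_g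
  have hτ : ∀ {N N' : X.Modules} (g : N ⟶ N'),
      T.map ((Groth.L00.Stk.F X x).map g) ≫ (Groth.L00.Stk.τ x F N').hom =
        (Groth.L00.Stk.τ x F N).hom ≫ (Groth.L00.Stk.F X x).map (((DCoh.tensorBi (X := X)).obj F).map g) := by
    intro N N' g
    have e1 : ((DCoh.tensorBi (X := X)).obj F).map g = Groth.L00.Tensor.tensorMap (𝟙 F) g := by
      refine congrArg (Groth.L00.Tensor.shf X).map ?_
      rw [CategoryTheory.Functor.map_id]
      exact (MonoidalCategory.id_tensorHom _ _).symm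
    have e2 : T.map ((Groth.L00.Stk.F X x).map g) =
        ModuleCat.ofHom (TensorProduct.map ((Groth.L00.Stk.F X x).map (𝟙 F)).hom ((Groth.L00.Stk.F X x).map g).hom) := by
      rw [CategoryTheory.Functor.map_id]; rfl
    rw [e1, e2, Groth.L00.Stk.τ_natural]
    rfl
  exact (ShortComplex.shortExact_iff_of_iso (ShortComplex.isoMk (Groth.L00.Stk.τ x F S.X₁)
    (Groth.L00.Stk.τ x F S.X₂) (Groth.L00.Stk.τ x F S.X₃) (hτ S.f).symm (hτ S.g).symm)).1 hT

end Groth.L16.FrameIso
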