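import Mathlib.AlgebraicGeometry.IdealSheaf.Subscheme
import Mathlib.AlgebraicGeometry.IdealSheaf.Functorial
import Mathlib.AlgebraicGeometry.Morphisms.Separated
import Mathlib.AlgebraicGeometry.Morphisms.ClosedImmersion
import Mathlib.AlgebraicGeometry.Morphisms.UnderlyingMap
import Mathlib.AlgebraicGeometry.Properties

/-! Extending a section over a dense open. -/

open CategoryTheory AlgebraicGeometry

namespace Groth.L16

universe u

theorem isIso_of_isClosedImmersion_surjective_reduced {X Y : Scheme.{u}} (f : X ⟶ Y)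
    [IsClosedImmersion f] [IsReduced Y] (hf : Function.Surjective f) : IsIso f := by
  rw [IsClosedImmersion.isIso_iff_ker_eq_bot, ← Scheme.IdealSheafData.support_eq_top_iff]
  apply SetLike.coe_injective
  rw [Scheme.Hom.support_ker, hf.range_eq]
  simp

theorem exists_lift_subscheme_of_range_subset {X Y : Scheme.{u}} [IsReduced Y] (I : X.IdealSheafData)
    (k : Y ⟶ X) (h : Set.range k ⊆ Set.range I.subschemeι) :
    ∃ k' : Y ⟶ I.subscheme, k' ≫ I.subschemeι = k := by
  have hs : Function.Surjective (Limits.pullback.fst k I.subschemeι) := fun y => by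
    obtain ⟨z, hz⟩ := h ⟨y, rfl⟩
    obtain ⟨w, hw, -⟩ := Scheme.Pullback.exists_preimage_pullback (f := k) (g := I.subschemeι) y z hz.symm
    exact ⟨w, hw⟩
  have := isIso_of_isClosedImmersion_surjective_reduced _ hs
  exact ⟨inv (Limits.pullback.fst k I.subschemeι) ≫ Limits.pullback.snd k I.subschemeι, by
    rw [Category.assoc, ← Limits.pullback.condition, IsIso.inv_hom_id_assoc]⟩

theorem exists_section_extending_iff {X Y : Scheme.{u}} [IsReduced Y] (f : X ⟶ Y) [IsSeparated f]
    (U : Y.Opens) (hU : Dense (U : Set Y))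
    (g : (U : Scheme.{u}) ⟶ (f ⁻¹ᵁ U : Scheme.{u})) (hg : g ≫ (f ⁻¹ᵁ U).ι ≫ f = U.ι) :
    (∃ h : Y ⟶ X, h ≫ f = 𝟙 Y ∧ U.ι ≫ h = g ≫ (f ⁻¹ᵁ U).ι) ↔
      IsIso ((Scheme.IdealSheafData.vanishingIdeal
        ⟨closure (Set.range (g ≫ (f ⁻¹ᵁ U).ι)), isClosed_closure⟩).subschemeι ≫ f) := by
  set Z : TopologicalSpace.Closeds X := ⟨closure (Set.range (g ≫ (f ⁻¹ᵁ U).ι)), isClosed_closure⟩
  set I := Scheme.IdealSheafData.vanishingIdeal Z
  have hrange : Set.range I.subschemeι = (Z : Set X) := by
    rw [Scheme.IdealSheafData.range_subschemeι, Scheme.IdealSheafData.coe_support_vanishingIdeal]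
  constructor
  · rintro ⟨h, hhf, hhg⟩
    have : IsClosedImmersion (h ≫ f) := by rw [hhf]; infer_instance
    have : IsClosedImmersion h := IsClosedImmersion.of_comp h f
    have hZ : (Z : Set X) = Set.range h := by
      apply Set.Subset.antisymm
      · refine closure_minimal ?_ h.isClosedEmbedding.isClosed_range
        rw [← hhg]
        rintro _ ⟨u, rfl⟩
        exact ⟨U.ι u, rfl⟩
      · show _ ⊆ closure _
        rw [← hhg]
        rintro _ ⟨y, rfl⟩
        refine map_mem_closure h.continuous (hU y) ?_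
        intro u hu
        exact ⟨⟨u, hu⟩, rfl⟩
    obtain ⟨h', hh'⟩ := exists_lift_subscheme_of_range_subset I h (by rw [hrange, hZ])
    have : IsClosedImmersion (h' ≫ I.subschemeι) := by rw [hh']; infer_instance
    have : IsClosedImmersion h' := IsClosedImmersion.of_comp_isClosedImmersion h' I.subschemeι
    have hker : h.ker = I.subschemeι.ker := by
      apply le_antisymm
      · rw [Scheme.IdealSheafData.ker_subschemeι, ← Scheme.IdealSheafData.le_support_iff_le_vanishingIdeal]
        intro x hx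
        show x ∈ (h.ker.support : Set X)
        rw [Scheme.Hom.support_ker]
        exact subset_closure (hZ ▸ hx)
      · rw [← hh']
        exact Scheme.Hom.le_ker_comp _ _
    have := IsClosedImmersion.isIso_of_ker_eq h I.subschemeι h' hh' hker
    have h1 : h' ≫ I.subschemeι ≫ f = 𝟙 Y := by rw [← Category.assoc, hh', hhf]
    have h2 : I.subschemeι ≫ f = inv h' := by rw [IsIso.eq_inv_of_hom_inv_id h1]
    rw [h2]
    infer_instance
  · intro hiso
    refine ⟨inv (I.subschemeι ≫ f) ≫ I.subschemeι, by simp, ?_⟩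
    have hsub : Set.range (g ≫ (f ⁻¹ᵁ U).ι) ⊆ Set.range I.subschemeι := by
      rw [hrange]; exact subset_closure
    obtain ⟨g', hg'⟩ := exists_lift_subscheme_of_range_subset I (g ≫ (f ⁻¹ᵁ U).ι) hsub
    have h1 : g' ≫ I.subschemeι ≫ f = U.ι := by rw [← Category.assoc, hg', Category.assoc, hg]
    rw [← hg', ← h1, Category.assoc, IsIso.hom_inv_id_assoc]

end Groth.L16
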