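import Groth.Agent.L17.BC.PullClass
import Groth.Agent.L17.ToAbRpush
import Groth.Agent.L17.AffinePush
import Groth.Prelude.Def_CohPull

/-!
The edge map of a direct image is bijective for locally acyclic sheaves.
-/

set_option autoImplicit false
set_option linter.style.haveILetI false
set_option backward.defeqAttrib.useBackward true
set_option backward.isDefEq.respectTransparency false

universe u

open CategoryTheory CategoryTheory.Limits AlgebraicGeometry TopologicalSpace Opposite Abelian

noncomputable section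

namespace Groth.L16.PushEdge

open Groth.L10 Groth.L10.SiteCoh

section Top

variable {X Y : TopCat.{u}} (f : X ⟶ Y)

/-- The edge map on abelian sheaves. -/
def edge (F : CohTop.Ab X) (p : ℕ) : Sheaf.H ((CohTop.push f).obj F) p →+ Sheaf.H F p :=
  (Sheaf.H.map ((CohPull.invPushAdj f).counit.app F) p).comp (CohPull.pullAb f _ p)

theorem edge_natural {F G : CohTop.Ab X} (φ : F ⟶ G) (p : ℕ) (x : Sheaf.H ((CohTop.push f).obj F) p) :
    edge f G p (Sheaf.H.map ((CohTop.push f).map φ) p x) = Sheaf.H.map φ p (edge f F p x) := by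
  show Sheaf.H.map _ p (CohPull.pullAb f _ p _) = Sheaf.H.map φ p (Sheaf.H.map _ p (CohPull.pullAb f _ p x))
  rw [Groth.L17.BC.PullClass.pullAb_natural, ← Sheaf.H.map_comp_apply, ← Sheaf.H.map_comp_apply]
  exact congrArg (fun t => Sheaf.H.map t p (CohPull.pullAb f _ p x)) ((CohPull.invPushAdj f).counit.naturality φ)

theorem edge_zero_bijective (F : CohTop.Ab X) : Function.Bijective (edge f F 0) := by
  let ψ : (CohTop.const Y (ULift.{u} ℤ) ⟶ (CohTop.push f).obj F) → (CohTop.const X (ULift.{u} ℤ) ⟶ F) :=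
    fun φ => CohPull.oneTo f ≫ ((CohPull.invPushAdj f).homEquiv _ _).symm φ
  have h1 : ∀ φ, (CohPull.adjZ X).homEquiv _ _ (ψ φ) = (CohPull.adjZ Y).homEquiv _ _ φ := fun φ => by
    have e : (CohPull.adjZ X).homEquiv _ _ (ψ φ) = (CohPull.adjZ X).homEquiv _ _ (CohPull.oneTo f) ≫
        (((CohPull.invPushAdj f).homEquiv _ _).symm φ).hom.app (op ⊤) := (CohPull.adjZ X).homEquiv_naturality_right _ _
    rw [e, CohPull.oneTo, Equiv.apply_symm_apply, Category.assoc]
    refine Eq.trans ?_ (((CohPull.adjZ Y).homEquiv_naturality_right (𝟙 _) φ).symm.trans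
      (congrArg _ (Category.id_comp φ)))
    refine congrArg (CohPull.oneSec Y ≫ ·) ?_
    refine Eq.trans ?_ (congrArg (fun t : CohTop.const Y (ULift.{u} ℤ) ⟶ (CohTop.push f).obj F => t.hom.app (op ⊤))
      (((CohPull.invPushAdj f).homEquiv_unit _ _ (((CohPull.invPushAdj f).homEquiv _ _).symm φ)).symm.trans
        (Equiv.apply_symm_apply _ φ)))
    rfl
  have hψ : Function.Bijective ψ := by
    have : ψ = ((CohPull.adjZ X).homEquiv _ _).symm ∘ (CohPull.adjZ Y).homEquiv _ _ :=
      funext fun φ => ((CohPull.adjZ X).homEquiv _ _).eq_symm_apply.2 (h1 φ)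
    rw [this]
    exact (Equiv.bijective _).comp (Equiv.bijective _)
  have key : ∀ φ, edge f F 0 (Ext.mk₀ φ) = Ext.mk₀ (ψ φ) := fun φ => by
    show ((Ext.mk₀ (CohPull.oneTo f)).comp ((Ext.mk₀ φ).mapExactFunctor (CohPull.inv f)) (zero_add 0)).comp
      (Ext.mk₀ ((CohPull.invPushAdj f).counit.app F)) (add_zero 0) = _
    rw [Ext.mapExactFunctor_mk₀, Ext.mk₀_comp_mk₀, Ext.mk₀_comp_mk₀, Category.assoc]
    exact congrArg (fun t => Ext.mk₀ (CohPull.oneTo f ≫ t)) ((CohPull.invPushAdj f).homEquiv_counit _ _ φ).symm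
  have hY := (Ext.mk₀_bijective (CohTop.const Y (ULift.{u} ℤ)) ((CohTop.push f).obj F))
  have hX := (Ext.mk₀_bijective (CohTop.const X (ULift.{u} ℤ)) F)
  refine (Function.Bijective.of_comp_iff _ hY).1 ?_
  rw [show edge f F 0 ∘ (Ext.mk₀ : (CohTop.const Y (ULift.{u} ℤ) ⟶ (CohTop.push f).obj F) → _) = Ext.mk₀ ∘ ψ from
    funext key]
  exact hX.comp hψ

/-- The connecting classes commute with the edge map. -/
theorem edge_extClass {F : CohTop.Ab X} (hF : LocAcyclic (Opens.grothendieckTopology Y) (Opens.map f) F)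
    (p : ℕ) (x : Sheaf.H ((CohTop.push f).obj (hull F).X₃) p) :
    edge f F (p + 1) (x.comp hF.shortExact.extClass rfl) =
      (edge f (hull F).X₃ p x).comp (hull_shortExact F).extClass rfl := by
  let T := (hull F).map (CohTop.push f)
  let τ : T.map (CohPull.inv f) ⟶ hull F :=
    { τ₁ := (CohPull.invPushAdj f).counit.app _
      τ₂ := (CohPull.invPushAdj f).counit.app _
      τ₃ := (CohPull.invPushAdj f).counit.app _
      comm₁₂ := ((CohPull.invPushAdj f).counit.naturality (hull F).f).symm
      comm₂₃ := ((CohPull.invPushAdj f).counit.naturality (hull F).g).symm }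
  have hT : T.ShortExact := hF.shortExact
  show Sheaf.H.map τ.τ₁ (p + 1) (CohPull.pullAb f T.X₁ (p + 1) (x.comp hT.extClass rfl)) =
    (Sheaf.H.map τ.τ₃ p (CohPull.pullAb f T.X₃ p x)).comp (hull_shortExact F).extClass rfl
  rw [Groth.L17.BC.PullClass.pullAb_extClass f hT,
    Groth.L17.BC.PullClass.map_extClass (hT.map_of_exact (CohPull.inv f)) (hull_shortExact F) τ]

/-- The edge map of a locally acyclic sheaf is bijective. -/
theorem edge_bijective (p : ℕ) : ∀ (F : CohTop.Ab X),
    LocAcyclic (Opens.grothendieckTopology Y) (Opens.map f) F → Function.Bijective (edge f F p) := by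
  induction p with
  | zero => exact fun F _ => edge_zero_bijective f F
  | succ p ih =>
    intro F hF
    have hQ := ih _ hF.quot
    haveI : Injective ((hull F).map (CohTop.push f)).X₂ := TopCoh.push_injective f (hull F).X₂
    have hT : ((hull F).map (CohTop.push f)).ShortExact := hF.shortExact
    refine ⟨(injective_iff_map_eq_zero _).2 fun x hx => ?_, fun z => ?_⟩
    · obtain ⟨y, rfl⟩ := Ext.covariant_sequence_exact₁ _ hT x
        (@Subsingleton.elim _ (Ext.subsingleton_of_injective _ _ p) _ _) rfl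
      rw [edge_extClass f hF] at hx
      obtain ⟨i, hi⟩ := Ext.covariant_sequence_exact₃ _ (hull_shortExact F) _ rfl hx
      rcases p with _ | p
      · obtain ⟨j, rfl⟩ := (edge_zero_bijective f _).2 i
        have h2 : edge f (hull F).X₃ 0 (Sheaf.H.map ((CohTop.push f).map (hull F).g) 0 j) = edge f _ 0 y :=
          (edge_natural f (hull F).g 0 j).trans hi
        rw [← hQ.1 h2]
        show (j.comp (Ext.mk₀ ((CohTop.push f).map (hull F).g)) (add_zero 0)).comp hT.extClass rfl = 0
        rw [Ext.comp_assoc_of_second_deg_zero]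
        exact (congrArg (fun t => j.comp t (zero_add 1)) hT.comp_extClass).trans (Ext.comp_zero ..)
      · haveI : Subsingleton (Ext (CohTop.const X (ULift.{u} ℤ)) (hull F).X₂ (p + 1)) :=
          Ext.subsingleton_of_injective _ _ p
        have h0 : edge f (hull F).X₃ (p + 1) y = 0 := by
          rw [← hi, Subsingleton.elim i 0, Ext.zero_comp]
        rw [(map_eq_zero_iff _ hQ.1).1 h0, Ext.zero_comp]
    · obtain ⟨w, rfl⟩ := Ext.covariant_sequence_exact₁ _ (hull_shortExact F) z
        (@Subsingleton.elim _ (Ext.subsingleton_of_injective _ _ p) _ _) rfl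
      obtain ⟨y, rfl⟩ := hQ.2 w
      exact ⟨y.comp hT.extClass rfl, edge_extClass f hF p y⟩

end Top

variable {X Y : Scheme.{u}} (f : X ⟶ Y)

/-- The edge map of modules is the topological one. -/
theorem pushEdge_eq (G : X.Modules) (p : ℕ) (x : Coh.HH Y ((Scheme.Modules.pushforward f).obj G) p) :
    CohPull.pushEdge f G p x = edge f.base (Coh.toAb G) p x := by
  show Sheaf.H.map _ p (Sheaf.H.map (CohPull.theta f _) p (CohPull.pullAb f.base _ p x)) = Sheaf.H.map _ p _
  rw [← Sheaf.H.map_comp_apply]
  refine congrArg (fun t => Sheaf.H.map t p (CohPull.pullAb f.base _ p x)) ?_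
  refine ((CohPull.invPushAdj f.base).homEquiv _ _).injective ?_
  rw [CohPull.theta, Adjunction.homEquiv_naturality_right, Equiv.apply_symm_apply]
  show _ = (CohPull.invPushAdj f.base).homEquiv ((CohTop.push f.base).obj (Coh.toAb G)) (Coh.toAb G)
    ((CohPull.invPushAdj f.base).counit.app (Coh.toAb G))
  rw [(CohPull.invPushAdj f.base).homEquiv_unit, (CohPull.invPushAdj f.base).right_triangle_components]
  exact (congrArg (fun t => (SheafOfModules.toSheaf Y.ringCatSheaf).map t)
    ((Scheme.Modules.pullbackPushforwardAdjunction f).right_triangle_components G)).trans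
      (CategoryTheory.Functor.map_id _ _)

/-- The edge map is bijective when the underlying sheaf is locally acyclic. -/
theorem pushEdge_bijective_of_locAcyclic (G : X.Modules)
    (h : LocAcyclic (Opens.grothendieckTopology Y.toTopCat) (Opens.map f.base) (Coh.toAb G)) (p : ℕ) :
    Function.Bijective (CohPull.pushEdge f G p) := by
  rw [show ⇑(CohPull.pushEdge f G p) = edge f.base (Coh.toAb G) p from funext (pushEdge_eq f G p)]
  exact edge_bijective f.base p (Coh.toAb G) h

theorem pushEdge_bijective_of_isZero_Rpush [HasInjectiveResolutions X.Modules] (G : X.Modules)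
    (hG : ∀ q : ℕ, 0 < q → IsZero ((Coh.Rpush f q).obj G)) (p : ℕ) :
    Function.Bijective (CohPull.pushEdge f G p) := by
  refine pushEdge_bijective_of_locAcyclic f G ((isZero_Rpush_succ_iff _ _ _).1 fun q => ?_) p
  obtain ⟨e⟩ := Groth.L17.nonempty_toAb_Rpush_iso f G (q + 1)
  exact (Functor.map_isZero (SheafOfModules.toSheaf Y.ringCatSheaf) (hG (q + 1) q.succ_pos)).of_iso e.symm

end Groth.L16.PushEdge
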