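import Groth.Agent.L18.VeryAmpleOver
import Groth.Agent.L18.AmpleComp
import Groth.Agent.L18.RelAmpleOps
import Groth.Agent.L16.ProjSpace.Basic

/-!
# Embeddings into projective spaces over a base with an ample module
-/

set_option autoImplicit false
set_option linter.style.haveILetI false

universe u

open CategoryTheory CategoryTheory.Limits AlgebraicGeometry TopologicalSpace Opposite

noncomputable section

namespace Groth.L16.ProjEmb

variable {X S : Scheme.{u}} (f : X ⟶ S)

/-- An ample module is relatively ample over any base. -/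
theorem isRelAmple_of_ample [QuasiCompact f] {L : X.Modules} (hL : CohB1.IsAmple L) :
    RelAmple.IsRelAmple f L := by
  refine Groth.L18.Ample.isRelAmple_of_local f fun y => ?_
  obtain ⟨_, ⟨V, hV, rfl⟩, hyV, -⟩ :=
    S.isBasis_affineOpens.exists_subset_of_mem_open (Set.mem_univ y) isOpen_univ
  refine ⟨V, hV, hyV, Groth.L18.Ample.isAmple_restrict_of_le (B := ⊤) le_top (f.isCompact_preimage hV.isCompact) ?_⟩
  exact (Groth.L18.Ample.isAmple_restrict_iff_pullback _).2
    (Groth.L18.Ample.isAmple_pullback_of_isAffineHom X.topIso.hom hL)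

variable (hS : ∃ N : S.Modules, CohB1.IsAmple N)
include hS

theorem exists_ample_of_relAmple [QuasiCompact f] {L : X.Modules} (hL : RelAmple.IsRelAmple f L) :
    ∃ M : X.Modules, CohB1.IsAmple M := by
  obtain ⟨N, hN⟩ := hS
  obtain ⟨n₀, hn₀⟩ := Groth.L18.Ample.exists_forall_isAmple_tensor_pullback_pow f hL hN
  exact ⟨_, hn₀ n₀ le_rfl⟩

theorem exists_ample_of_immersion {n : ℕ} (i : X ⟶ CohB1.ProjSpaceOver n S) [IsImmersion i] [QuasiCompact i]
    (hi : i ≫ CohB1.ProjSpaceOver.toBase n S = f) : ∃ M : X.Modules, CohB1.IsAmple M := by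
  haveI : QuasiCompact f := by rw [← hi]; infer_instance
  obtain ⟨L, hL⟩ := Groth.L18.VeryAmpleOver.exists_isRelAmple_of_isRelVeryAmplePn f (N := _)
    ⟨n, i, inferInstance, hi, ⟨Iso.refl _⟩⟩
  exact exists_ample_of_relAmple f hS hL

omit hS in
theorem exists_immersion [LocallyOfFiniteType f] [QuasiCompact f] {L : X.Modules} (hL : CohB1.IsAmple L) :
    ∃ (n : ℕ) (i : X ⟶ CohB1.ProjSpaceOver n S), IsImmersion i ∧ QuasiCompact i ∧
      i ≫ CohB1.ProjSpaceOver.toBase n S = f := by
  haveI : X.IsSeparated := Groth.L18.Ample.isSeparated_of_isAmple hL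
  obtain ⟨N, n, i, hi, hf, -⟩ := Groth.L18.VeryAmpleOver.exists_isRelVeryAmplePn_of_isAmple f hL
  haveI : QuasiCompact (i ≫ CohB1.ProjSpaceOver.toBase n S) := by
    rw [show i ≫ CohB1.ProjSpaceOver.toBase n S = f from hf]; infer_instance
  exact ⟨n, i, hi, QuasiCompact.of_comp i (CohB1.ProjSpaceOver.toBase n S), hf⟩

end Groth.L16.ProjEmb
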