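import Groth.Agent.L19.NormalSections
import Groth.Agent.L21.Curve.BirationalOpen
import Mathlib.AlgebraicGeometry.ZariskisMainTheorem

/-!
Birational morphisms with finite fibres to normal schemes.
-/

set_option autoImplicit false
set_option linter.style.haveILetI false
set_option backward.isDefEq.respectTransparency false
set_option backward.isDefEq.respectTransparency.types false

universe u

open CategoryTheory CategoryTheory.Limits AlgebraicGeometry TopologicalSpace Opposite

noncomputable section

namespace Groth.L16.BirNormal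

variable {X Y : Scheme.{u}} [IsIntegral X] [IsIntegral Y] (f : X ⟶ Y)
  (e : f (genericPoint X) = genericPoint Y)

include e in
theorem mem_preimage {U : Y.Opens} (hU : (U : Set Y).Nonempty) : genericPoint X ∈ f ⁻¹ᵁ U := by
  show f (genericPoint X) ∈ U
  rw [e]
  exact ((genericPoint_spec Y).mem_open_set_iff U.isOpen).mpr (by simpa using hU)

theorem germ_app {U : Y.Opens} (h1 : genericPoint Y ∈ U) (h2 : genericPoint X ∈ f ⁻¹ᵁ U) (a : Γ(Y, U)) :
    X.presheaf.germ (f ⁻¹ᵁ U) (genericPoint X) h2 (f.app U a) =
      Groth.L21.Curve.ffMap f e (Y.presheaf.germ U (genericPoint Y) h1 a) := by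
  show _ = f.stalkMap (genericPoint X) (Y.presheaf.stalkSpecializes (specializes_of_eq e)
    (Y.presheaf.germ U (genericPoint Y) h1 a))
  rw [TopCat.Presheaf.germ_stalkSpecializes_apply]
  exact (Scheme.Hom.germ_stalkMap_apply f U (genericPoint X) h2 a).symm

include e in
/-- Integral sections come from the base. -/
theorem exists_app_eq (hN : ∀ y : Y, IsIntegrallyClosed (Y.presheaf.stalk y))
    (hbij : Function.Bijective (Groth.L21.Curve.ffMap f e)) {U : Y.Opens} (hU : (U : Set Y).Nonempty)
    (s : Γ(X, f ⁻¹ᵁ U)) (hs : (f.app U).hom.IsIntegralElem s) : ∃ a : Γ(Y, U), f.app U a = s := by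
  have h2 := mem_preimage f e hU
  have h1 : genericPoint Y ∈ U := e ▸ h2
  obtain ⟨c, hc⟩ := hbij.2 (X.presheaf.germ (f ⁻¹ᵁ U) (genericPoint X) h2 s)
  have hci : ((Y.presheaf.germ U (genericPoint Y) h1).hom.comp (RingHom.id _)).IsIntegralElem c := by
    obtain ⟨p, hp, hp'⟩ := hs
    refine ⟨p, hp, hbij.1 ?_⟩
    have h3 : (Groth.L21.Curve.ffMap f e).comp (Y.presheaf.germ U (genericPoint Y) h1).hom =
        (X.presheaf.germ (f ⁻¹ᵁ U) (genericPoint X) h2).hom.comp (f.app U).hom :=
      RingHom.ext fun a => (germ_app f e h1 h2 a).symm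
    rw [map_zero, RingHom.comp_id, Polynomial.hom_eval₂, h3, hc, ← Polynomial.hom_eval₂, hp', map_zero]
  obtain ⟨a, ha⟩ := Groth.L19.NormalSec.exists_section_of_isIntegral hN U h1 (RingHom.id _) c hci
  refine ⟨a, germ_injective_of_isIntegral X (genericPoint X) h2 ?_⟩
  rw [germ_app f e h1 h2, ha, hc]

include e in
/-- Relative normalisation does nothing. -/
theorem isIso_fromNormalization [QuasiCompact f] [QuasiSeparated f]
    (hN : ∀ y : Y, IsIntegrallyClosed (Y.presheaf.stalk y))
    (hbij : Function.Bijective (Groth.L21.Curve.ffMap f e)) : IsIso f.fromNormalization := by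
  refine (HasAffineProperty.iff_of_iSup_eq_top (P := MorphismProperty.isomorphisms Scheme)
    (fun U : Y.affineOpens => U) (iSup_affineOpens_eq_top Y)).2 fun U => ?_
  haveI : IsAffine (U.1 : Scheme.{u}) := U.2
  haveI : IsAffine (f.fromNormalization ⁻¹ᵁ U.1 : Scheme.{u}) := U.2.preimage f.fromNormalization
  have happ : IsIso (f.fromNormalization.app U.1) := by
    rw [Scheme.Hom.fromNormalization_app f U.2]
    haveI : IsIso (CommRingCat.ofHom (letI := (f.app U.1).hom.toAlgebra;
        algebraMap Γ(Y, U.1) (integralClosure Γ(Y, U.1) Γ(X, f ⁻¹ᵁ U.1)))) := by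
      letI := (f.app U.1).hom.toAlgebra
      rw [ConcreteCategory.isIso_iff_bijective]
      refine ⟨fun a b hab => ?_, fun s => ?_⟩
      · rcases (U.1 : Set Y).eq_empty_or_nonempty with h0 | hne
        · haveI : Subsingleton Γ(Y, U.1) := by
            rw [show U.1 = ⊥ from SetLike.coe_injective h0]; infer_instance
          exact Subsingleton.elim _ _
        · have h2 := mem_preimage f e hne
          have h1 : genericPoint Y ∈ U.1 := e ▸ h2
          refine germ_injective_of_isIntegral Y (genericPoint Y) h1 (hbij.1 ?_)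
          rw [← germ_app f e h1 h2, ← germ_app f e h1 h2]
          exact congrArg (X.presheaf.germ _ _ h2) (congrArg Subtype.val hab)
      · rcases (U.1 : Set Y).eq_empty_or_nonempty with h0 | hne
        · haveI : Subsingleton Γ(X, f ⁻¹ᵁ U.1) := by
            rw [show f ⁻¹ᵁ U.1 = ⊥ from SetLike.coe_injective (by
              show f ⁻¹' (U.1 : Set Y) = ∅
              rw [h0, Set.preimage_empty])]
            infer_instance
          exact ⟨0, Subtype.ext (Subsingleton.elim _ _)⟩
        · obtain ⟨a, ha⟩ := exists_app_eq f e hN hbij hne s.1 s.2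
          exact ⟨a, Subtype.ext ha⟩
    infer_instance
  refine ⟨inferInstance, ?_⟩
  rw [morphismRestrict_appTop]
  haveI : IsIso (f.fromNormalization.app (U.1.ι ''ᵁ ⊤)) := by rw [Scheme.Opens.ι_image_top]; exact happ
  infer_instance

end Groth.L16.BirNormal

namespace Groth.L16.BirNormal

variable {X Y : Scheme.{u}} [IsIntegral X] [IsIntegral Y] (f : X ⟶ Y)

/-- Birational separated morphisms with finite fibres to normal schemes are open immersions. -/
theorem isOpenImmersion_of_birational_finite_fibres (hN : ∀ y : Y, IsIntegrallyClosed (Y.presheaf.stalk y))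
    [IsSeparated f] [LocallyOfFiniteType f] [QuasiCompact f] (e : f (genericPoint X) = genericPoint Y)
    (hbir : IsIso (f.stalkMap (genericPoint X))) (hfin : ∀ y : Y, (f ⁻¹' {y}).Finite) :
    IsOpenImmersion f ∧ (IsProper f → IsIso f) := by
  haveI : LocallyQuasiFinite f := .of_finite_preimage_singleton f hfin
  haveI : IsIso (Y.presheaf.stalkSpecializes (specializes_of_eq e)) :=
    ⟨Y.presheaf.stalkSpecializes (specializes_of_eq e.symm),
      by rw [TopCat.Presheaf.stalkSpecializes_comp]; exact TopCat.Presheaf.stalkSpecializes_refl _ _,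
      by rw [TopCat.Presheaf.stalkSpecializes_comp]; exact TopCat.Presheaf.stalkSpecializes_refl _ _⟩
  haveI : IsIso (Y.presheaf.stalkSpecializes (specializes_of_eq e) ≫ f.stalkMap (genericPoint X)) :=
    inferInstance
  have hbij : Function.Bijective (Groth.L21.Curve.ffMap f e) :=
    ConcreteCategory.bijective_of_isIso (Y.presheaf.stalkSpecializes (specializes_of_eq e) ≫ f.stalkMap (genericPoint X))
  haveI := isIso_fromNormalization f e hN hbij
  haveI : IsOpenImmersion f := by
    rw [← f.toNormalization_fromNormalization]; infer_instance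
  refine ⟨inferInstance, fun _ => ?_⟩
  haveI : Surjective f := ⟨fun y => by
    have hcl : IsClosed (Set.range f) := f.isClosedMap.isClosed_range
    have : genericPoint Y ∈ Set.range f := ⟨_, e⟩
    exact hcl.closure_subset_iff.2 (Set.singleton_subset_iff.2 this) ((genericPoint_spec Y).specializes trivial).mem_closure⟩
  exact (isIso_iff_isOpenImmersion_and_surjective f).2 ⟨inferInstance, inferInstance⟩

end Groth.L16.BirNormal
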