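import Groth.Agent.L16.Devissage
import Groth.Prelude.Def_ClSub2

/-!
# Dévissage by modules killed by ideals of integral subschemes
-/

set_option autoImplicit false
set_option linter.style.haveILetI false

universe u

open CategoryTheory CategoryTheory.Limits AlgebraicGeometry TopologicalSpace Opposite

noncomputable section

namespace Groth.L16.Devissage

open Groth.L16.CohSupport
open Groth.L18.Frame (rs ro rs_rs rs_smul)

variable {X : Scheme.{u}}

/-- Finite coproducts of coherent modules. -/
theorem isCoh_sigma [IsLocallyNoetherian X] {r : ℕ} (M : Fin r → X.Modules) (hM : ∀ j, Coh.IsCoh (M j)) :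
    Coh.IsCoh (∐ M) := by
  refine CohKernel.isCoh_of_tilde_charts _ fun x => ?_
  obtain ⟨_, ⟨U, hU, rfl⟩, hxU, -⟩ :=
    X.isBasis_affineOpens.exists_subset_of_mem_open (Set.mem_univ x) isOpen_univ
  let j := hU.fromSpec
  have h : ∀ k, ∃ N : ModuleCat.{u} Γ(X, U), Module.Finite Γ(X, U) N ∧
      Nonempty ((M k).restrict j ≅ (tilde.functor Γ(X, U)).obj N) := fun k => by
    haveI : Coh.IsQCoh (M k) := (hM k).1
    obtain ⟨N, ⟨e⟩⟩ := Groth.L00.Local.exists_tilde_iso_restrict j (M k)
    exact ⟨N, CohKernel.finite_of_tilde_iso (M k) (hM k).2 j N e, ⟨e⟩⟩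
  choose N hN e using h
  haveI : PreservesColimitsOfSize.{u, u} (Scheme.Modules.restrictFunctor j) :=
    (Scheme.Modules.restrictAdjunction j).leftAdjoint_preservesColimits
  haveI : PreservesColimitsOfSize.{0, 0} (Scheme.Modules.restrictFunctor j) :=
    preservesColimitsOfSize_shrink.{0, u, 0, u} _
  haveI : PreservesColimitsOfSize.{0, 0} (tilde.functor Γ(X, U)) := preservesColimitsOfSize_shrink.{0, u, 0, u} _
  refine ⟨_, j, inferInstance, ∐ N, hU.opensRange_fromSpec.ge hxU, ?_, ⟨?_⟩⟩
  · haveI := hN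
    exact Module.Finite.equiv (((biproduct.isoCoproduct N).symm ≪≫ ModuleCat.biproductIsoPi N).toLinearEquiv.symm)
  · exact PreservesCoproduct.iso (Scheme.Modules.restrictFunctor j) M ≪≫
      Sigma.mapIso (fun k => (e k).some) ≪≫ (PreservesCoproduct.iso (tilde.functor Γ(X, U)) N).symm

/-- The maximal ideal at the generic point kills a module killed by the ideal of a closed subset. -/
theorem smul_maximal {Z : Closeds X} {G : X.Modules}
    (hk : ClSub.KilledByIdeal (Scheme.IdealSheafData.vanishingIdeal Z) G) (y : X) (hy : (Z : Set X) ⊆ closure {y})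
    (a : X.presheaf.stalk y) (ha : a ∈ IsLocalRing.maximalIdeal (X.presheaf.stalk y)) (m : G.presheaf.stalk y) :
    a • m = 0 := by
  obtain ⟨V₀, hyV₀, r₀, rfl⟩ := TopCat.Presheaf.exists_germ_eq (F := X.presheaf) (x := y) a
  obtain ⟨W, hyW, n, rfl⟩ := TopCat.Presheaf.exists_germ_eq G.presheaf m
  obtain ⟨_, ⟨V, hV, rfl⟩, hyV, hVsub⟩ := X.isBasis_affineOpens.exists_subset_of_mem_open
    (show y ∈ (V₀ : Set X) ∩ W from ⟨hyV₀, hyW⟩) (V₀.2.inter W.2)
  have h1 : V ≤ V₀ := fun z hz => (hVsub hz).1
  have h2 : V ≤ W := fun z hz => (hVsub hz).2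
  have hg : X.presheaf.germ V y hyV (ro h1 r₀) = X.presheaf.germ V₀ y hyV₀ r₀ :=
    TopCat.Presheaf.germ_res_apply X.presheaf (homOfLE h1) y hyV r₀
  have hny : y ∉ X.basicOpen (ro h1 r₀) := by
    rw [Scheme.mem_basicOpen X _ y hyV, hg]
    exact (IsLocalRing.mem_maximalIdeal _).1 ha
  have hmem : ro h1 r₀ ∈ (Scheme.IdealSheafData.vanishingIdeal Z).ideal ⟨V, hV⟩ := by
    rw [Scheme.IdealSheafData.vanishingIdeal_ideal, PrimeSpectrum.mem_vanishingIdeal]
    intro p hp
    have hz : hV.fromSpec p ∈ (Z : Set X) := hp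
    have hzV : hV.fromSpec p ∈ V := hV.opensRange_fromSpec.le ⟨p, rfl⟩
    by_contra hcon
    have hzb : hV.fromSpec p ∈ X.basicOpen (ro h1 r₀) := by
      have : p ∈ hV.fromSpec ⁻¹ᵁ X.basicOpen (ro h1 r₀) := by
        rw [hV.fromSpec_preimage_basicOpen]
        exact hcon
      exact this
    exact hny ((isGenericPoint_closure (x := y)).mem_open_set_iff (X.basicOpen (ro h1 r₀)).2 |>.2
      ⟨_, hy hz, hzb⟩)
  rw [← Groth.L20.ModStalk.germ_rs G h2 hyV n, ← hg, ← Groth.L20.ModStalk.germ_smul G hyV]
  exact (congrArg (G.presheaf.germ V y hyV) (hk ⟨V, hV⟩ _ hmem (rs G h2 n))).trans (map_zero _)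

/-- A module of length `r` killed by the maximal ideal is a power of the simple module. -/
theorem exists_pi_equiv {R : Type u} [CommRing R] [IsLocalRing R] (N N₀ : Type u) [AddCommGroup N] [Module R N]
    [AddCommGroup N₀] [Module R N₀] [IsSimpleModule R N₀] [Module.Finite R N]
    (h : ∀ a ∈ IsLocalRing.maximalIdeal R, ∀ m : N, a • m = 0) :
    ∃ r : ℕ, Nonempty ((Fin r → N₀) ≃ₗ[R] N) := by
  obtain ⟨I, hI, ⟨e⟩⟩ := isSimpleModule_iff_quot_maximal.1 ‹IsSimpleModule R N₀›
  obtain rfl := IsLocalRing.eq_maximalIdeal hI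
  letI : Module (R ⧸ IsLocalRing.maximalIdeal R) N :=
    Module.IsTorsionBySet.module (fun m a => h a.1 a.2 m)
  haveI : IsScalarTower R (R ⧸ IsLocalRing.maximalIdeal R) N := Module.IsTorsionBySet.isScalarTower _
  letI : Field (R ⧸ IsLocalRing.maximalIdeal R) := Ideal.Quotient.field _
  haveI : Module.Finite (R ⧸ IsLocalRing.maximalIdeal R) N := Module.Finite.of_restrictScalars_finite R _ _
  let b := Module.finBasis (R ⧸ IsLocalRing.maximalIdeal R) N
  exact ⟨_, ⟨(LinearEquiv.piCongrRight fun _ => e).trans (b.equivFun.symm.restrictScalars R)⟩⟩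

/-- A map bijective on the stalk at `y` has kernel and cokernel of length zero there. -/
theorem len_zero_of_bijective {A B : X.Modules} (a : A ⟶ B) (y : X)
    (h : Function.Bijective ((Groth.L00.Stk.F X y).map a)) : len y (kernel a) = 0 ∧ len y (cokernel a) = 0 := by
  have hS1 : (ShortComplex.mk (kernel.ι a) a (kernel.condition a)).Exact := ShortComplex.exact_kernel _
  constructor
  · haveI : Mono ((Groth.L00.Stk.F X y).map (kernel.ι a)) := inferInstance
    suffices ∀ v : (Groth.L00.Stk.F X y).obj (kernel a), v = 0 from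
      Module.length_eq_zero_iff.2 (subsingleton_of_forall_eq 0 this)
    intro v
    apply (ModuleCat.mono_iff_injective ((Groth.L00.Stk.F X y).map (kernel.ι a))).1 inferInstance
    rw [map_zero]
    apply h.1
    rw [map_zero, ← ModuleCat.comp_apply, ← Functor.map_comp, kernel.condition, Functor.map_zero]
    rfl
  · refine Module.length_eq_zero_iff.2 (subsingleton_of_forall_eq 0 fun v => ?_)
    haveI : Epi ((Groth.L00.Stk.F X y).map (cokernel.π a)) := inferInstance
    obtain ⟨p, rfl⟩ := (ModuleCat.epi_iff_surjective ((Groth.L00.Stk.F X y).map (cokernel.π a))).1 inferInstance v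
    obtain ⟨q, rfl⟩ := h.2 p
    rw [← ModuleCat.comp_apply, ← Functor.map_comp, cokernel.condition, Functor.map_zero]
    rfl

variable [AlgebraicGeometry.IsNoetherian X] (P : X.Modules → Prop)

open Groth.L00.Sky in
/-- Dévissage with direct summands. -/
theorem devissage_killed {X' : Set X} (hX' : IsClosed X') (hP : ∀ M N : X.Modules, Nonempty (M ≅ N) → P M → P N)
    (h0 : ∀ M, IsZero M → P M) (h₁ : TwoOutOfThree P X')
    (hsum : ∀ (M N : X.Modules) (i : N ⟶ M) (r : M ⟶ N), i ≫ r = 𝟙 N → Coh.IsCoh M → Coh.IsCoh N → P M → P N)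
    (h₂ : ∀ (Z : Set X) (hZ : IsClosed Z), IsIrreducible Z → Z ⊆ X' → ∀ y : X, closure {y} = Z →
      ∃ G : X.Modules, Coh.IsCoh G ∧ P G ∧ CohB1.support G ⊆ Z ∧
        ClSub.KilledByIdeal (Scheme.IdealSheafData.vanishingIdeal ⟨Z, hZ⟩) G ∧ y ∈ CohB1.support G)
    {M : X.Modules} (hM : Coh.IsCoh M) (hs : CohB1.support M ⊆ X') : P M := by
  suffices ∀ T : Closeds X, (T : Set X) ⊆ X' → ∀ M, Coh.IsCoh M → CohB1.support M ⊆ T → P M from
    this ⟨X', hX'⟩ subset_rfl M hM hs
  intro T
  induction T using WellFoundedLT.induction with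
  | ind T IH =>
    intro hTX M hM hs
    refine devissage P T.isClosed hP h0 (fun S a b c d e => h₁ S a b c d (e.trans hTX)) (fun y hy => ?_) hM hs
    obtain ⟨Z, i, hi, hZ, hgen, hrange⟩ := CohClosedPush.exists_integral y
    haveI : IsLocallyNoetherian Z := LocallyOfFiniteType.isLocallyNoetherian i
    let O := (Coh.push i).obj (Coh.structureModule Z)
    have hO : Coh.IsCoh O := CohClosedPush.isCoh_push i CohClosedPush.isCoh_structure
    have hlenO : len y O = 1 := hgen ▸ CohClosedPush.len_push_structure i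
    have hsO : CohB1.support O ⊆ closure {y} := (CohClosedPush.support_push_subset i _).trans hrange.le
    refine ⟨O, hO, ?_, hsO, hlenO⟩
    let T' : Closeds X := ⟨closure {y}, isClosed_closure⟩
    have hT' : T' ≤ T := closure_minimal (Set.singleton_subset_iff.2 hy) T.isClosed
    rcases lt_or_eq_of_le hT' with hlt | rfl
    · exact IH T' hlt ((show (T' : Set X) ⊆ T from hT').trans hTX) O hO hsO
    -- the case of the generic point
    have small : ∀ K, Coh.IsCoh K → CohB1.support K ⊆ closure {y} → len y K = 0 → P K := by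
      intro K hK hsK hyK
      let T'' : Closeds X := ⟨CohB1.support K, isClosed_support K hK.2⟩
      have hlt : T'' < (⟨closure {y}, isClosed_closure⟩ : Closeds X) :=
        lt_of_le_of_ne (show T'' ≤ _ from hsK) fun he =>
          (len_eq_zero_iff y K).1 hyK (show y ∈ (T'' : Set X) from he.symm ▸ subset_closure rfl)
      exact IH T'' hlt (hsK.trans hTX) K hK subset_rfl
    obtain ⟨G, hG, hPG, hsG, hk, hyG⟩ :=
      h₂ (closure {y}) isClosed_closure isIrreducible_singleton.closure hTX y rfl
    let N : ModuleCat.{u} (X.presheaf.stalk y) := (Groth.L00.Stk.F X y).obj G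
    let N₀ : ModuleCat.{u} (X.presheaf.stalk y) := (Groth.L00.Stk.F X y).obj O
    have hkill : ∀ a ∈ IsLocalRing.maximalIdeal (X.presheaf.stalk y), ∀ m : N, a • m = 0 :=
      fun a ha m => smul_maximal hk y subset_rfl a ha m
    haveI : Coh.IsQCoh (sky y N) := isQCoh_sky y N hkill
    haveI : IsSimpleModule (X.presheaf.stalk y) N₀ := Module.length_eq_one_iff.1 hlenO
    have hlenG : len y G ≠ ⊤ := len_ne_top hG (x := y) fun z hz hzy =>
      ((hzy.antisymm (specializes_iff_mem_closure.2 (hsG hz))).eq)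
    haveI : Module.Finite (X.presheaf.stalk y) N :=
      @Module.IsNoetherian.finite _ _ _ _ _
        (isFiniteLength_iff_isNoetherian_isArtinian.1 (Module.length_ne_top_iff.1 hlenG)).1
    obtain ⟨r, ⟨eN⟩⟩ := exists_pi_equiv (R := X.presheaf.stalk y) N N₀ hkill
    have hr : 0 < r := by
      rcases Nat.eq_zero_or_pos r with rfl | h
      · exact absurd (show Subsingleton (G.presheaf.stalk y) from eN.symm.toEquiv.subsingleton) hyG
      · exact h
    let D : X.Modules := ∐ fun _ : Fin r => O
    have hD : Coh.IsCoh D := isCoh_sigma _ fun _ => hO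
    haveI : PreservesColimitsOfSize.{u, u} (Groth.L00.Stk.F X y) := (adj y).leftAdjoint_preservesColimits
    haveI : PreservesColimitsOfSize.{0, 0} (Groth.L00.Stk.F X y) := preservesColimitsOfSize_shrink.{0, u, 0, u} _
    let eD : (Groth.L00.Stk.F X y).obj D ≅ N :=
      PreservesCoproduct.iso (Groth.L00.Stk.F X y) (fun _ : Fin r => O) ≪≫ (biproduct.isoCoproduct _).symm ≪≫
        ModuleCat.biproductIsoPi _ ≪≫ eN.toModuleIso
    haveI : HasBinaryBiproduct G D := HasBinaryBiproducts.has_binary_biproduct G D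
    let φ : G ⟶ sky y N := toHom G N (𝟙 N)
    let ψ : D ⟶ sky y N := toHom D N eD.hom
    let s : G ⊞ D ⟶ sky y N := biprod.desc φ ψ
    have hGD : Coh.IsCoh (G ⊞ D) := isCoh_biprod hG hD
    have hH : Coh.IsCoh (Abelian.image s) := isCoh_image hGD s
    have hsD : CohB1.support D ⊆ closure {y} := by
      intro x hx
      by_contra hxn
      apply hx
      haveI : PreservesColimitsOfSize.{u, u} (Groth.L00.Stk.F X x) := (adj x).leftAdjoint_preservesColimits
      haveI : PreservesColimitsOfSize.{0, 0} (Groth.L00.Stk.F X x) := preservesColimitsOfSize_shrink.{0, u, 0, u} _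
      haveI hO0 : Subsingleton ((Groth.L00.Stk.F X x).obj O) := not_not.1 fun h => hxn (hsO h)
      let e' := PreservesCoproduct.iso (Groth.L00.Stk.F X x) (fun _ : Fin r => O) ≪≫ (biproduct.isoCoproduct _).symm ≪≫
        ModuleCat.biproductIsoPi _
      exact (e'.toLinearEquiv.toEquiv.subsingleton :)
    have hsGD : CohB1.support (G ⊞ D) ⊆ closure {y} := by
      have hS : (ShortComplex.mk (biprod.inl : G ⟶ G ⊞ D) biprod.snd biprod.inl_snd).ShortExact :=
        (ShortComplex.Splitting.mk biprod.fst biprod.inr (by simp) (by simp) (by simp [biprod.total])).shortExact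
      rw [Groth.L21.Mod.support_of_shortExact hS]
      exact Set.union_subset hsG hsD
    have hsH : CohB1.support (Abelian.image s) ⊆ closure {y} :=
      (Groth.L21.Mod.support_epi (Abelian.factorThruImage s)).trans hsGD
    have key : ∀ {A : X.Modules}, Coh.IsCoh A → CohB1.support A ⊆ closure {y} → ∀ (j : A ⟶ G ⊞ D),
        Function.Bijective ((Groth.L00.Stk.F X y).map (j ≫ s)) → (P A ↔ P (Abelian.image s)) := by
      intro A hA hsA j hj
      let a : A ⟶ Abelian.image s := j ≫ Abelian.factorThruImage s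
      haveI : Coh.IsQCoh (Abelian.image s) := hH.1
      have ha : a ≫ Abelian.image.ι s = j ≫ s := by simp [a]
      have hι : Function.Injective ((Groth.L00.Stk.F X y).map (Abelian.image.ι s)) :=
        (ModuleCat.mono_iff_injective _).1 inferInstance
      have hb : Function.Bijective ((Groth.L00.Stk.F X y).map a) := by
        rw [← ha, Functor.map_comp] at hj
        replace hj : Function.Bijective ((⇑((Groth.L00.Stk.F X y).map (Abelian.image.ι s))) ∘
            ⇑((Groth.L00.Stk.F X y).map a)) := hj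
        refine ⟨hj.1.of_comp, fun q => ?_⟩
        obtain ⟨v, hv⟩ := hj.2 ((Groth.L00.Stk.F X y).map (Abelian.image.ι s) q)
        exact ⟨v, hι hv⟩
      obtain ⟨z1, z2⟩ := len_zero_of_bijective a y hb
      have hkc := Groth.L16.CohKernel.isCoh_kernel_cokernel hA hH a
      exact iff_of_map P (fun S a b c d e => h₁ S a b c d (e.trans hTX)) hA hH hsA hsH a
        (small _ hkc.1 ((Groth.L21.Mod.support_mono (kernel.ι a)).trans hsA) z1)
        (small _ hkc.2 ((Groth.L21.Mod.support_epi (cokernel.π a)).trans hsH) z2)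
    have hbij : ∀ (A : X.Modules) (α : (Groth.L00.Stk.F X y).obj A ⟶ N), Function.Bijective α →
        Function.Bijective ((Groth.L00.Stk.F X y).map (toHom A N α)) := by
      intro A α hα
      have e : α = (Groth.L00.Stk.F X y).map (toHom A N α) ≫ (adj y).counit.app N :=
        (((adj y).homEquiv A N).symm_apply_apply α).symm.trans (Adjunction.homEquiv_counit _ _ _ _)
      haveI : IsIso ((adj y).counit.app N) := isIso_counit (x := y) N
      have hc := ConcreteCategory.bijective_of_isIso ((adj y).counit.app N)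
      rw [e] at hα
      replace hα : Function.Bijective ((⇑((adj y).counit.app N)) ∘
          ⇑((Groth.L00.Stk.F X y).map (toHom A N α))) := hα
      exact (Function.Bijective.of_comp_iff' hc _).1 hα
    have e1 := key hG hsG biprod.inl (by rw [biprod.inl_desc]; exact hbij G _ Function.bijective_id)
    have e2 := key hD hsD biprod.inr (by
      rw [biprod.inr_desc]
      exact hbij D _ (ConcreteCategory.bijective_of_isIso eD.hom))
    let pr : D ⟶ O := Sigma.desc fun _ => 𝟙 O
    exact hsum D O (Sigma.ι (fun _ : Fin r => O) ⟨0, hr⟩) pr (Sigma.ι_desc _ _) hD hO (e2.2 (e1.1 hPG))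

end Groth.L16.Devissage
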