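import Groth.Agent.L16.ProperFinite
import Mathlib.RingTheory.HopkinsLevitzki
import Mathlib.RingTheory.Length
import Mathlib.LinearAlgebra.FiniteDimensional.Basic

/-!
# Dimension counts in long exact sequences of cohomology
-/

set_option autoImplicit false
set_option linter.style.haveILetI false

universe u

open CategoryTheory CategoryTheory.Limits AlgebraicGeometry TopologicalSpace Opposite

noncomputable section

namespace Groth.L16.EulerLength

open CohLinear (hmap delta overLin)

variable {A : Type u} [CommRing A] [IsArtinianRing A] {X : Scheme.{u}} [X.Over (Spec (CommRingCat.of A))]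

/-- The length as a natural number. -/
def ln (A : Type u) [CommRing A] (V : Type u) [AddCommGroup V] [Module A V] : ℕ := (Module.length A V).toNat

theorem length_ne_top (V : Type u) [AddCommGroup V] [Module A V] [Module.Finite A V] :
    Module.length A V ≠ ⊤ :=
  Module.length_ne_top_iff.2 (isFiniteLength_iff_isNoetherian_isArtinian.2 ⟨inferInstance, inferInstance⟩)

theorem ln_exact {P Q R : Type u} [AddCommGroup P] [AddCommGroup Q] [AddCommGroup R] [Module A P] [Module A Q]
    [Module A R] [Module.Finite A Q] (f : P →ₗ[A] Q) (g : Q →ₗ[A] R) (h : Function.Exact f g) :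
    ln A Q = ln A (LinearMap.range f) + ln A (LinearMap.range g) := by
  have h1 := Module.length_eq_add_of_exact (LinearMap.range f).subtype g.rangeRestrict
    (Submodule.subtype_injective _) g.surjective_rangeRestrict (by
      rw [LinearMap.exact_iff, LinearMap.ker_rangeRestrict, Submodule.range_subtype]
      exact LinearMap.exact_iff.1 h)
  haveI : Module.Finite A (LinearMap.range f) := inferInstance
  rw [ln, h1, ENat.toNat_add (length_ne_top _) (length_ne_top _)]
  rfl

omit [IsArtinianRing A] in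
theorem ln_range_of_injective {P Q : Type u} [AddCommGroup P] [AddCommGroup Q] [Module A P] [Module A Q]
    (f : P →ₗ[A] Q) (hf : Function.Injective f) : ln A P = ln A (LinearMap.range f) :=
  congrArg ENat.toNat (LinearEquiv.ofInjective f hf).length_eq

omit [IsArtinianRing A] in
/-- Degree zero cohomology is left exact. -/
theorem injective_zero {S : ShortComplex X.Modules} (hS : S.ShortExact) :
    Function.Injective (overLin A (hmap S.f 0)) := by
  haveI := (CohLinear.abS_shortExact hS).mono_f
  intro x y hxy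
  obtain ⟨g, rfl⟩ := (Abelian.Ext.mk₀_bijective _ _).2 x
  obtain ⟨g', rfl⟩ := (Abelian.Ext.mk₀_bijective _ _).2 y
  have h := hxy
  change (Abelian.Ext.mk₀ g).comp (Abelian.Ext.mk₀ (CohLinear.tm S.f)) (add_zero 0) =
    (Abelian.Ext.mk₀ g').comp (Abelian.Ext.mk₀ (CohLinear.tm S.f)) (add_zero 0) at h
  rw [Abelian.Ext.mk₀_comp_mk₀, Abelian.Ext.mk₀_comp_mk₀] at h
  exact congrArg _ ((cancel_mono (CohLinear.abS S).f).1 ((Abelian.Ext.mk₀_bijective _ _).1 h))

variable [IsProper (X ↘ Spec (CommRingCat.of A))]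

/-- Additivity of alternating sums of lengths. -/
theorem sum_add {S : ShortComplex X.Modules} (hS : S.ShortExact) (h1 : Coh.IsCoh S.X₁) (h2 : Coh.IsCoh S.X₂)
    (h3 : Coh.IsCoh S.X₃) (N : ℕ) (hN : Subsingleton (Coh.HH X S.X₁ (N + 1))) :
    ((Finset.range (N + 1)).sum fun i => (-1 : ℤ) ^ i * (ln A (Coh.HH X S.X₂ i) : ℤ)) =
      ((Finset.range (N + 1)).sum fun i => (-1 : ℤ) ^ i * (ln A (Coh.HH X S.X₁ i) : ℤ)) +
      ((Finset.range (N + 1)).sum fun i => (-1 : ℤ) ^ i * (ln A (Coh.HH X S.X₃ i) : ℤ)) := by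
  haveI : ∀ n, Module.Finite A (Coh.HH X S.X₁ n) := ProperFinite.finite_HH A h1
  haveI : ∀ n, Module.Finite A (Coh.HH X S.X₂ n) := ProperFinite.finite_HH A h2
  haveI : ∀ n, Module.Finite A (Coh.HH X S.X₃ n) := ProperFinite.finite_HH A h3
  let a : ℕ → ℤ := fun n => (ln A (LinearMap.range (overLin A (hmap S.f n))) : ℤ)
  let b : ℕ → ℤ := fun n => (ln A (LinearMap.range (overLin A (hmap S.g n))) : ℤ)
  let c : ℕ → ℤ := fun n => (ln A (LinearMap.range (overLin A (delta hS n))) : ℤ)
  have e10 : (ln A (Coh.HH X S.X₁ 0) : ℤ) = a 0 := by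
    simp only [a, Nat.cast_inj]; exact ln_range_of_injective _ (injective_zero hS)
  have e1 : ∀ n, (ln A (Coh.HH X S.X₁ (n + 1)) : ℤ) = c n + a (n + 1) := fun n => by
    simp only [a, c, ← Nat.cast_add, Nat.cast_inj]; exact ln_exact _ _ (CohLinear.exact_delta_hmap hS n)
  have e2 : ∀ n, (ln A (Coh.HH X S.X₂ n) : ℤ) = a n + b n := fun n => by
    simp only [a, b, ← Nat.cast_add, Nat.cast_inj]; exact ln_exact _ _ (CohLinear.exact_hmap_hmap hS n)
  have e3 : ∀ n, (ln A (Coh.HH X S.X₃ n) : ℤ) = b n + c n := fun n => by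
    simp only [b, c, ← Nat.cast_add, Nat.cast_inj]; exact ln_exact _ _ (CohLinear.exact_hmap_delta hS n)
  have key : ∀ n, ∑ i ∈ Finset.range (n + 1), (-1 : ℤ) ^ i *
      ((ln A (Coh.HH X S.X₁ i) : ℤ) + ln A (Coh.HH X S.X₃ i) - ln A (Coh.HH X S.X₂ i)) = (-1 : ℤ) ^ n * c n := by
    intro n
    induction n with
    | zero => simp [e10, e2, e3]
    | succ n ih => rw [Finset.sum_range_succ, ih, e1, e2, e3, pow_succ]; ring
  have hc : c N = 0 := by
    have h := e1 N
    have h0 : ln A (Coh.HH X S.X₁ (N + 1)) = 0 := by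
      haveI := hN
      rw [ln, Module.length_eq_zero]; rfl
    rw [h0] at h
    have ha : (0 : ℤ) ≤ a (N + 1) := Nat.cast_nonneg _
    have hc0 : (0 : ℤ) ≤ c N := Nat.cast_nonneg _
    omega
  have h := key N
  rw [hc, mul_zero] at h
  simp only [mul_sub, mul_add, Finset.sum_sub_distrib, Finset.sum_add_distrib] at h
  linarith

section Complex

variable {k : Type u} [Field k] {X : Scheme.{u}} [X.Over (Spec (CommRingCat.of k))]
  [IsProper (X ↘ Spec (CommRingCat.of k))] {C : ℕ → X.Modules} (hC : ∀ j, Coh.IsCoh (C j))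
  (d : ∀ j, C j ⟶ C (j + 1)) (hd : ∀ j, d j ≫ d (j + 1) = 0)
  (hex : ∀ j, (ShortComplex.mk (d j) (d (j + 1)) (hd j)).Exact)

theorem finrank_le_of_exact {P Q R : Type u} [AddCommGroup P] [AddCommGroup Q] [AddCommGroup R] [Module k P]
    [Module k Q] [Module k R] [Module.Finite k P] [Module.Finite k Q] [Module.Finite k R] (f : P →ₗ[k] Q)
    (g : Q →ₗ[k] R) (h : Function.Exact f g) :
    Module.finrank k Q ≤ Module.finrank k P + Module.finrank k R := by
  rw [← LinearMap.finrank_range_add_finrank_ker g, LinearMap.exact_iff.1 h]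
  have h1 := LinearMap.finrank_range_le f
  have h2 := Submodule.finrank_le (LinearMap.range g)
  omega

include hC hd hex in
/-- The cohomology of the cokernels in an exact sequence. -/
theorem finrank_coker_le : ∀ (q j : ℕ), Module.finrank k (Coh.HH X (cokernel (d j)) q) ≤
      ∑ t ∈ Finset.range (q + 1), Module.finrank k (Coh.HH X (C (j + 2 + t)) (q - t)) := by
  haveI : IsLocallyNoetherian X := LocallyOfFiniteType.isLocallyNoetherian (X ↘ Spec (CommRingCat.of k))
  have hQ : ∀ j, Coh.IsCoh (cokernel (d j)) := fun j => by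
    haveI : Coh.IsQCoh (C (j + 1)) := (hC _).1
    exact (Groth.L16.CohKernel.isCoh_kernel_cokernel (hC j) (hC (j + 1)) (d j)).2
  have hS : ∀ j, (ShortComplex.mk (cokernel.desc (d j) (d (j + 1)) (hd j)) (cokernel.π (d (j + 1))) (by
      rw [← cancel_epi (cokernel.π (d j)), cokernel.π_desc_assoc, cokernel.condition, Limits.comp_zero])).ShortExact := by
    intro j
    exact
      { exact := by
          have hz : cokernel.desc (d j) (d (j + 1)) (hd j) ≫ cokernel.π (d (j + 1)) = 0 := by
            rw [← cancel_epi (cokernel.π (d j)), cokernel.π_desc_assoc, cokernel.condition, Limits.comp_zero]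
          let φ : ShortComplex.mk (d (j + 1)) (cokernel.π (d (j + 1))) (cokernel.condition _) ⟶
              ShortComplex.mk (cokernel.desc (d j) (d (j + 1)) (hd j)) (cokernel.π (d (j + 1))) hz :=
            { τ₁ := cokernel.π (d j), τ₂ := 𝟙 _, τ₃ := 𝟙 _ }
          haveI : Epi φ.τ₁ := inferInstanceAs (Epi (cokernel.π (d j)))
          haveI : IsIso φ.τ₂ := inferInstanceAs (IsIso (𝟙 (C (j + 1 + 1))))
          haveI : Mono φ.τ₃ := inferInstanceAs (Mono (𝟙 (cokernel (d (j + 1)))))
          exact (ShortComplex.exact_iff_of_epi_of_isIso_of_mono φ).1 (ShortComplex.exact_cokernel _)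
        mono_f := (hex j).mono_cokernelDesc }
  haveI : ∀ n j, Module.Finite k (Coh.HH X (C j) n) := fun n j => ProperFinite.finite_HH k (hC j) n
  haveI : ∀ n j, Module.Finite k (Coh.HH X (cokernel (d j)) n) := fun n j => ProperFinite.finite_HH k (hQ j) n
  intro q
  induction q with
  | zero =>
    intro j
    rw [Finset.sum_range_one]
    exact LinearMap.finrank_le_finrank_of_injective (injective_zero (A := k) (hS j))
  | succ q ih =>
    intro j
    have h1 := finrank_le_of_exact (overLin k (delta (hS j) q)) (overLin k (hmap _ (q + 1)))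
      (CohLinear.exact_delta_hmap (hS j) q)
    rw [Finset.sum_range_succ']
    refine h1.trans (add_le_add ((ih (j + 1)).trans (le_of_eq ?_)) le_rfl)
    refine Finset.sum_congr rfl fun t _ => ?_
    rw [show j + 1 + 2 + t = j + 2 + (t + 1) by omega, show q + 1 - (t + 1) = q - t by omega]

include hC hd hex in
/-- Comparison of the first two terms of an exact sequence. -/
theorem abs_sub_le [Mono (d 0)] (i : ℕ) :
    |(Module.finrank k (Coh.HH X (C 0) i) : ℤ) - (Module.finrank k (Coh.HH X (C 1) i) : ℤ)| ≤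
      (Finset.Icc 1 (i + 1)).sum (fun j => ((Module.finrank k (Coh.HH X (C (j + 1)) (i + 1 - j))) : ℤ)) +
        (Finset.Icc 1 i).sum (fun j => ((Module.finrank k (Coh.HH X (C (j + 1)) (i - j))) : ℤ)) := by
  haveI : IsLocallyNoetherian X := LocallyOfFiniteType.isLocallyNoetherian (X ↘ Spec (CommRingCat.of k))
  haveI : Coh.IsQCoh (C 1) := (hC _).1
  have hQ : Coh.IsCoh (cokernel (d 0)) := (Groth.L16.CohKernel.isCoh_kernel_cokernel (hC 0) (hC 1) (d 0)).2
  let S : ShortComplex X.Modules := ShortComplex.mk (d 0) (cokernel.π (d 0)) (cokernel.condition _)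
  have hS : S.ShortExact := { exact := ShortComplex.exact_cokernel _ }
  haveI : ∀ n j, Module.Finite k (Coh.HH X (C j) n) := fun n j => ProperFinite.finite_HH k (hC j) n
  haveI : ∀ n, Module.Finite k (Coh.HH X (cokernel (d 0)) n) := fun n => ProperFinite.finite_HH k hQ n
  have hsum : ∀ q, (Module.finrank k (Coh.HH X (cokernel (d 0)) q) : ℤ) ≤
      (Finset.Icc 1 (q + 1)).sum (fun j => ((Module.finrank k (Coh.HH X (C (j + 1)) (q + 1 - j))) : ℤ)) := by
    intro q
    refine le_trans (Int.ofNat_le.2 (finrank_coker_le hC d hd hex q 0)) (le_of_eq ?_)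
    push_cast
    rw [← Finset.Ico_add_one_right_eq_Icc, Finset.sum_Ico_eq_sum_range]
    refine Finset.sum_congr (by simp) fun t _ => ?_
    rw [show (1 + t + 1 : ℕ) = 0 + 2 + t by omega, show q + 1 - (1 + t) = q - t by omega]
  have h2 : Module.finrank k (Coh.HH X (C 1) i) ≤
      Module.finrank k (Coh.HH X (C 0) i) + Module.finrank k (Coh.HH X (cokernel (d 0)) i) :=
    finrank_le_of_exact (overLin k (hmap S.f i)) (overLin k (hmap S.g i)) (CohLinear.exact_hmap_hmap hS i)
  have hi := hsum i
  cases i with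
  | zero =>
    have h1 : Module.finrank k (Coh.HH X (C 0) 0) ≤ Module.finrank k (Coh.HH X (C 1) 0) :=
      LinearMap.finrank_le_finrank_of_injective (injective_zero (A := k) hS)
    rw [abs_le]
    simp only [Finset.Icc_eq_empty (show ¬ 1 ≤ 0 by omega), Finset.sum_empty, add_zero]
    constructor <;> omega
  | succ i =>
    have h1 : Module.finrank k (Coh.HH X (C 0) (i + 1)) ≤
        Module.finrank k (Coh.HH X (cokernel (d 0)) i) + Module.finrank k (Coh.HH X (C 1) (i + 1)) :=
      finrank_le_of_exact (overLin k (delta hS i)) (overLin k (hmap S.f (i + 1))) (CohLinear.exact_delta_hmap hS i)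
    have hi' := hsum i
    have hpos := Finset.sum_nonneg (s := Finset.Icc 1 (i + 1))
      (f := fun j => ((Module.finrank k (Coh.HH X (C (j + 1)) (i + 1 - j))) : ℤ)) (fun _ _ => Nat.cast_nonneg _)
    have hpos' := Finset.sum_nonneg (s := Finset.Icc 1 (i + 1 + 1))
      (f := fun j => ((Module.finrank k (Coh.HH X (C (j + 1)) (i + 1 + 1 - j))) : ℤ)) (fun _ _ => Nat.cast_nonneg _)
    rw [abs_le]
    constructor <;> omega

end Complex

end Groth.L16.EulerLength
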