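import Groth.Agent.L16.ProjSpace.Ample
import Groth.Agent.L18.AmpleExternal
import Groth.Agent.L18.AmplePull
import Groth.Agent.L29.LocFree
import Mathlib.AlgebraicGeometry.ProjectiveSpectrum.Proper

/-!
# Ample twists on quasi-compact opens of a projective spectrum
-/

set_option autoImplicit false
set_option linter.style.haveILetI false
set_option backward.isDefEq.respectTransparency false
set_option backward.isDefEq.respectTransparency.types false

universe u

open CategoryTheory CategoryTheory.Limits AlgebraicGeometry TopologicalSpace Opposite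

noncomputable section

namespace Groth.L16.ProjOpenAmple

open Groth.L16.ProjTwist Groth.L00

variable {R A : Type u} [CommRing R] [CommRing A] [Algebra R A] (𝒜 : ℕ → Submodule R A) [GradedAlgebra 𝒜]

/-- Where `f / 1` generates, `f` does not vanish. -/
theorem mem_basicOpen_of_surjective {d : ℕ} (f g : 𝒜 d) {W : (Proj 𝒜).Opens}
    (h : Function.Surjective ((sect 𝒜 f).app W)) {x : Proj 𝒜} (hxW : x ∈ W) (hg : x ∈ Proj.basicOpen 𝒜 g.1) :
    x ∈ Proj.basicOpen 𝒜 f.1 := by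
  let W' : Opens (ProjectiveSpectrum.top 𝒜) := W
  let gs : Twist.sectN (𝒜 := 𝒜) (d : ℤ) (op W') :=
    Twist.resN (d : ℤ) (homOfLE (le_top : W' ≤ ⊤)).op (Twist.globalOf 𝒜 g)
  obtain ⟨c, hc⟩ := h gs
  let c' : Twist.O (op W') := c
  have h1 : (c'.1 ⟨x, hxW⟩).val * (Localization.mk f.1 1 : Twist.Loc 𝒜 x) = Localization.mk g.1 1 := by
    refine Eq.trans ?_ (congrArg (fun s : Twist.sectN (𝒜 := 𝒜) (d : ℤ) (op W') => (s.1 ⟨x, hxW⟩).1) hc)
    exact (Twist.coe_smul_val (d : ℤ) x (c'.1 ⟨x, hxW⟩) ((Twist.globalOf 𝒜 f).1 ⟨x, trivial⟩)).symm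
  obtain ⟨num, hnum⟩ := HomogeneousLocalization.mk_surjective (c'.1 ⟨x, hxW⟩)
  rw [← hnum, HomogeneousLocalization.val_mk, Localization.mk_mul, Localization.mk_eq_mk_iff,
    Localization.r_iff_exists] at h1
  obtain ⟨w, hw⟩ := h1
  refine (Proj.mem_basicOpen _ _ _).2 fun hfx => ?_
  simp only [OneMemClass.coe_one, mul_one, one_mul] at hw
  have hmem : w.1 * (num.den.1 * g.1) ∈ x.asHomogeneousIdeal.toIdeal := by
    rw [← hw]
    exact Ideal.mul_mem_left _ _ (Ideal.mul_mem_left _ _ hfx)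
  exact (x.isPrime.mem_or_mem hmem).elim w.2 fun h' =>
    (x.isPrime.mem_or_mem h').elim num.den_mem ((Proj.mem_basicOpen _ _ _).1 hg)

theorem genLocus_iso_comp {X : Scheme.{u}} {L : X.Modules} (e : Coh.structureModule X ≅ Coh.structureModule X)
    (s : Coh.structureModule X ⟶ L) : CohB1.genLocus L (e.hom ≫ s) = CohB1.genLocus L s := by
  refine congrArg sSup (Set.ext fun U => ?_)
  change IsIso _ ↔ IsIso _
  rw [Functor.map_comp]
  exact ⟨fun _ => IsIso.of_isIso_comp_left ((Scheme.Modules.restrictFunctor U.ι).map e.hom) _,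
    fun _ => inferInstance⟩

variable {X : Scheme.{u}} (j : X ⟶ Proj 𝒜) [IsOpenImmersion j]

-- Finitely many forms of one degree cover a quasi-compact open.
omit [IsOpenImmersion j] in
theorem exists_cover [CompactSpace X] : ∃ (d : ℕ), 0 < d ∧ ∃ (k : ℕ) (F : Fin k → 𝒜 d),
    ∀ x : X, ∃ i, j x ∈ Proj.basicOpen 𝒜 (F i).1 := by
  classical
  have h : ∀ x : X, ∃ (m : ℕ) (f : 𝒜 m), 0 < m ∧ j x ∈ Proj.basicOpen 𝒜 f.1 := fun x => by
    obtain ⟨f, hf⟩ := (Proj.affineOpenCover 𝒜).openCover.exists_eq (j x)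
    have hx : j x ∈ ((Proj.affineOpenCover 𝒜).f f).opensRange := hf
    refine ⟨f.1, ⟨f.2.1, f.2.2⟩, f.1.2, ?_⟩
    exact (Proj.opensRange_awayι 𝒜 _ f.2.2 f.1.2).le hx
  choose m f hm hf using h
  obtain ⟨s, hs⟩ := isCompact_univ.elim_finite_subcover
    (fun x : X => ((j ⁻¹ᵁ Proj.basicOpen 𝒜 (f x).1 : X.Opens) : Set X)) (fun x => Opens.isOpen _)
    (fun x _ => Set.mem_iUnion.2 ⟨x, hf x⟩)
  have hd : 0 < ∏ x ∈ s, m x := Finset.prod_pos fun x _ => hm x
  have hdiv : ∀ x : s, ∃ c, 0 < c ∧ ∏ y ∈ s, m y = c * m x.1 := fun x => by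
    obtain ⟨c, hc⟩ := Finset.dvd_prod_of_mem m x.2
    refine ⟨c, Nat.pos_of_ne_zero fun h0 => ?_, hc.trans (mul_comm _ _)⟩
    rw [h0, mul_zero] at hc
    exact hd.ne' hc
  choose c hc hcd using hdiv
  let e := s.equivFin
  refine ⟨∏ x ∈ s, m x, hd, s.card, fun i => ⟨(f (e.symm i).1).1 ^ c (e.symm i), ?_⟩, fun x => ?_⟩
  · rw [hcd (e.symm i)]
    exact SetLike.pow_mem_graded _ (f _).2
  · obtain ⟨y, hy, hxy⟩ := Set.mem_iUnion₂.1 (hs (Set.mem_univ x))
    refine ⟨e ⟨y, hy⟩, ?_⟩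
    simp only [Equiv.symm_apply_apply]
    rw [Proj.basicOpen_pow 𝒜 _ _ (hc _)]
    convert hxy using 1
    all_goals rw [Equiv.symm_apply_apply]

/-- Some positive twist is ample on a quasi-compact open of `Proj`. -/
theorem exists_isAmple [CompactSpace X] :
    ∃ d : ℕ, 0 < d ∧ CohB1.IsAmple ((Scheme.Modules.pullback j).obj (Twist.twist 𝒜 (d : ℤ))) := by
  obtain ⟨d, hd, k, F, hF⟩ := exists_cover 𝒜 j
  refine ⟨d, hd, Groth.L18.Ample.isAmple_of_iso ((Scheme.Modules.restrictFunctorIsoPullback j).app _) ?_⟩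
  let L := (Twist.twist 𝒜 (d : ℤ)).restrict j
  have hinv : PicF.IsInvertible L := fun x => by
    obtain ⟨i, hi⟩ := hF x
    let U : X.Opens := j ⁻¹ᵁ Proj.basicOpen 𝒜 (F i).1
    obtain ⟨e⟩ := nonempty_restrict_iso_of_mem 𝒜 (U.ι ≫ j) (F i) (fun z => z.2) 1
    rw [one_mul] at e
    exact ⟨U, hi, ⟨((Scheme.Modules.restrictFunctorComp U.ι j).app _).symm ≪≫ e⟩⟩
  refine Groth.L18.Ample.isAmple_of_quasiAffine_loci hinv fun x => ?_
  obtain ⟨i, hi⟩ := hF x
  let u : Coh.structureModule X ≅ (Coh.structureModule (Proj 𝒜)).restrict j :=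
    (Groth.L29.LocFree.pullbackUnitIso j).symm ≪≫ ((Scheme.Modules.restrictFunctorIsoPullback j).app _).symm
  let t : Coh.structureModule X ⟶ L := u.hom ≫ (Scheme.Modules.restrictFunctor j).map (sect 𝒜 (F i))
  let D : X.Opens := j ⁻¹ᵁ Proj.basicOpen 𝒜 (F i).1
  have ht : CohB1.genLocus L t = D := by
    refine genLocus_eq_of _ _ ?_ fun U hU y hy => ?_
    · show IsIso ((Scheme.Modules.restrictFunctor D.ι).map (u.hom ≫ _))
      rw [Functor.map_comp]
      haveI : IsIso ((Scheme.Modules.restrictFunctor D.ι).map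
          ((Scheme.Modules.restrictFunctor j).map (sect 𝒜 (F i)))) := by
        refine Scheme.Modules.Hom.isIso_iff_isIso_app.2 fun V => (ConcreteCategory.isIso_iff_bijective _).2 ?_
        exact bijective_sect_app 𝒜 (F i) (j ''ᵁ (D.ι ''ᵁ V))
          (by rintro _ ⟨_, ⟨z, -, rfl⟩, rfl⟩; exact z.2)
      infer_instance
    · rw [Functor.map_comp] at hU
      haveI := hU
      haveI := IsIso.of_isIso_comp_left ((Scheme.Modules.restrictFunctor U.ι).map u.hom)
        ((Scheme.Modules.restrictFunctor U.ι).map ((Scheme.Modules.restrictFunctor j).map (sect 𝒜 (F i))))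
      obtain ⟨l, hl⟩ := hF y
      have hiso : IsIso ((Scheme.Modules.restrictFunctor U.ι).map
          ((Scheme.Modules.restrictFunctor j).map (sect 𝒜 (F i)))) := inferInstance
      have hb : Function.Bijective ((sect 𝒜 (F i)).app (j ''ᵁ (U.ι ''ᵁ ⊤))) :=
        (ConcreteCategory.isIso_iff_bijective _).1 (Scheme.Modules.Hom.isIso_iff_isIso_app.1 hiso ⊤)
      exact mem_basicOpen_of_surjective 𝒜 (F i) (F l) (W := j ''ᵁ (U.ι ''ᵁ ⊤)) hb.2
        ⟨y, ⟨⟨y, hy⟩, trivial, rfl⟩, rfl⟩ hl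
  refine ⟨0, t ≫ (Tensor.tensorUnitLeft L).inv, ?_⟩
  have e : CohB1.genLocus (CohB1.tensorPow L (0 + 1)) (t ≫ (Tensor.tensorUnitLeft L).inv) = D :=
    (genLocus_comp_iso _ (Tensor.tensorUnitLeft L).symm).trans ht
  rw [e]
  refine ⟨hi, ?_⟩
  haveI : IsAffine (Proj.basicOpen 𝒜 (F i).1).toScheme :=
    Proj.isAffineOpen_basicOpen 𝒜 _ (F i).2 hd
  haveI : QuasiCompact j := QuasiCompact.of_comp j (Proj.toSpecZero 𝒜)
  haveI : CompactSpace (D : Scheme.{u}) :=
    isCompact_iff_compactSpace.1 (j.isCompact_preimage (Proj.isAffineOpen_basicOpen 𝒜 _ (F i).2 hd).isCompact)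
  exact Scheme.IsQuasiAffine.of_isImmersion (j ∣_ Proj.basicOpen 𝒜 (F i).1)

end Groth.L16.ProjOpenAmple
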