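import Groth.Agent.L17.CechComparison
import Groth.Agent.L10.CechSheaf

/-!
The comparison of Čech and derived cohomology, compatible with all endomorphisms of the sheaf (hence
linear over any ring acting on it).
-/

universe u

open CategoryTheory CategoryTheory.Limits CategoryTheory.Abelian Opposite

set_option backward.defeqAttrib.useBackward true
set_option backward.isDefEq.respectTransparency false

namespace Groth.L16.CechEndo

open Groth.L10 Groth.L10.SiteCoh Groth.L10.Cech

theorem exists_addEquiv_of_ker_eq {H M N : Type*} [AddCommGroup H] [AddCommGroup M] [AddCommGroup N]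
    (f : H →+ M) (g : H →+ N) (hf : Function.Surjective f) (hg : Function.Surjective g)
    (h : f.ker = g.ker) : ∃ e : M ≃+ N, ∀ x, e (f x) = g x := by
  let e := (QuotientAddGroup.quotientKerEquivOfSurjective f hf).symm.trans
    ((QuotientAddGroup.quotientAddEquivOfEq h).trans (QuotientAddGroup.quotientKerEquivOfSurjective g hg))
  refine ⟨e, fun x => ?_⟩
  have h1 : (QuotientAddGroup.quotientKerEquivOfSurjective f hf).symm (f x) = (x : H ⧸ f.ker) := by
    rw [AddEquiv.symm_apply_eq]; rfl
  simp only [e, AddEquiv.trans_apply, h1]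
  rfl

variable {E : Type u} [Category.{u} E] [HasFiniteProducts E] {C : Type u} [SmallCategory C]
  {J : GrothendieckTopology C} {π : E ⥤ C} {ι : Type u} {Y : ι → E} {B : C} {b : ∀ i, π.obj (Y i) ⟶ B}

theorem cxMap_comp {P Q R : Cᵒᵖ ⥤ AddCommGrpCat.{u}} (φ : P ⟶ Q) (ψ : Q ⟶ R) :
    cxMap (π := π) (Y := Y) φ ≫ cxMap ψ = cxMap (φ ≫ ψ) :=
  ((cechComplexFunctor Y).map_comp _ _).symm

variable {F : Sheaf J AddCommGrpCat.{u}}

theorem surjective_δ (hN : IsNerve π Y b) (hC : (scx π Y (hull F)).ShortExact) (m : ℕ) :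
    Function.Surjective (hC.δ m (m+1) (by simp)) := fun y => by
  have := injective_obj (hull F).X₂
  have hI : IsZero ((cx π Y (hull F).X₂.obj).homology (m+1)) :=
    (HomologicalComplex.exactAt_iff_isZero_homology _ _).1 (exactAt_of_injective hN m)
  have h := hC.homology_exact₁ m (m+1) (by simp)
  rw [ShortComplex.ab_exact_iff] at h
  have := AddCommGrpCat.subsingleton_of_isZero hI
  exact h y (Subsingleton.elim (α := ((cx π Y (hull F).X₂.obj).homology (m+1) : Type u)) _ _)

/-- An endomorphism of a sheaf extends to its hull sequence. -/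
theorem exists_hull_endo (φ : F ⟶ F) : ∃ τ : hull F ⟶ hull F, τ.τ₁ = φ := by
  have hS := hull_shortExact F
  haveI : Mono (hull F).f := hS.mono_f
  exact ⟨{ τ₁ := φ
           τ₂ := Injective.factorThru (φ ≫ (hull F).f) (hull F).f
           τ₃ := hS.gIsCokernel.desc (CokernelCofork.ofπ
            (Injective.factorThru (φ ≫ (hull F).f) (hull F).f ≫ (hull F).g) (by
              rw [Injective.comp_factorThru_assoc, Category.assoc, (hull F).zero, comp_zero]))
           comm₁₂ := (Injective.comp_factorThru _ _).symm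
           comm₂₃ := (hS.gIsCokernel.fac (CokernelCofork.ofπ
            (Injective.factorThru (φ ≫ (hull F).f) (hull F).f ≫ (hull F).g) (by
              rw [Injective.comp_factorThru_assoc, Category.assoc, (hull F).zero, comp_zero]))
            WalkingParallelPair.one).symm }, rfl⟩

theorem δ_endo (hC : (scx π Y (hull F)).ShortExact) (τ : hull F ⟶ hull F) (p : ℕ)
    (x : (cx π Y (hull F).X₃.obj).homology p) :
    HomologicalComplex.homologyMap (cxMap (π := π) (Y := Y) τ.τ₁.hom) (p+1)
      (hC.δ p (p+1) (by simp) x) =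
      hC.δ p (p+1) (by simp) (HomologicalComplex.homologyMap (cxMap (π := π) (Y := Y) τ.τ₃.hom) p x) :=
  let τc : scx π Y (hull F) ⟶ scx π Y (hull F) :=
    ShortComplex.homMk (cxMap τ.τ₁.hom) (cxMap τ.τ₂.hom) (cxMap τ.τ₃.hom)
      ((cxMap_comp _ _).trans ((congrArg (fun z : (hull F).X₁ ⟶ (hull F).X₂ => cxMap z.hom) τ.comm₁₂).trans
        (cxMap_comp _ _).symm))
      ((cxMap_comp _ _).trans ((congrArg (fun z : (hull F).X₂ ⟶ (hull F).X₃ => cxMap z.hom) τ.comm₂₃).trans
        (cxMap_comp _ _).symm))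
  congr($(HomologicalComplex.HomologySequence.δ_naturality τc hC hC p (p+1) (by simp)) x)

/-- One step up. -/
theorem exists_step (hN : IsNerve π Y b) (hC : (scx π Y (hull F)).ShortExact) (p : ℕ)
    (e' : (cx π Y (hull F).X₃.obj).homology p ≃+ Ext (fs J B) (hull F).X₃ p)
    (he' : ∀ (φ : (hull F).X₃ ⟶ (hull F).X₃) x,
      e' (HomologicalComplex.homologyMap (cxMap (π := π) (Y := Y) φ.hom) p x) =
        (e' x).comp (Ext.mk₀ φ) (add_zero p))
    (hker : ∀ x, hC.δ p (p+1) (by simp) x = 0 ↔ (e' x).comp (hull_shortExact F).extClass rfl = 0) :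
    ∃ e : (cx π Y F.obj).homology (p+1) ≃+ Ext (fs J B) F (p+1),
      ∀ (φ : F ⟶ F) (x : (cx π Y F.obj).homology (p+1)),
        e (HomologicalComplex.homologyMap (cxMap (π := π) (Y := Y) φ.hom) (p+1) x) =
          (e x).comp (Ext.mk₀ φ) (add_zero (p+1)) := by
  have hS := hull_shortExact F
  have hsurj2 : Function.Surjective
      ((hS.extClass.postcomp (fs J B) (rfl : p + 1 = p + 1)).comp e'.toAddMonoidHom) := fun y => by
    have : Subsingleton (Ext (fs J B) (hull F).X₂ (p+1)) := Ext.subsingleton_of_injective _ _ p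
    obtain ⟨z, hz⟩ := postcomp_extClass_surjective (fs J B) hS p y
    exact ⟨e'.symm z, (congrArg _ (e'.apply_symm_apply z)).trans hz⟩
  obtain ⟨e, he⟩ := exists_addEquiv_of_ker_eq (hC.δ p (p+1) (by simp)).hom
    ((hS.extClass.postcomp (fs J B) (rfl : p + 1 = p + 1)).comp e'.toAddMonoidHom)
    (surjective_δ hN hC p) hsurj2 (by ext x; exact hker x)
  refine ⟨e, fun φ y => ?_⟩
  obtain ⟨x, rfl⟩ := surjective_δ hN hC p y
  obtain ⟨τ, rfl⟩ := exists_hull_endo φ
  refine (congrArg e (δ_endo hC τ p x)).trans ((he _).trans ?_)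
  refine Eq.trans ?_ (congrArg (fun z => Ext.comp z (Ext.mk₀ τ.τ₁) (add_zero (p+1))) (he x)).symm
  change (e' _).comp hS.extClass rfl = ((e' x).comp hS.extClass rfl).comp (Ext.mk₀ τ.τ₁) (add_zero (p+1))
  rw [he', Ext.comp_assoc_of_second_deg_zero, Ext.comp_assoc_of_third_deg_zero]
  exact congrArg (fun r => Ext.comp (e' x) r (rfl : p + 1 = p + 1))
    (ShortComplex.ShortExact.extClass_naturality hS hS τ).symm

/-- The comparison in degree zero. -/
noncomputable def equiv₀ (hN : IsNerve π Y b) (hcov : Sieve.ofArrows (fun i => π.obj (Y i)) b ∈ J B)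
    (F : Sheaf J AddCommGrpCat.{u}) : (cx π Y F.obj).homology 0 ≃+ Ext (fs J B) F 0 :=
  have := isIso_aug0 hN hcov F
  (asIso (aug0 hN F.obj)).addCommGroupIsoToAddEquiv.symm.trans (hu0 F B).symm

theorem equiv₀_natural (hN : IsNerve π Y b) (hcov : Sieve.ofArrows (fun i => π.obj (Y i)) b ∈ J B)
    {F G : Sheaf J AddCommGrpCat.{u}} (φ : F ⟶ G) (x : (cx π Y F.obj).homology 0) :
    equiv₀ hN hcov G (HomologicalComplex.homologyMap (cxMap (π := π) (Y := Y) φ.hom) 0 x) =
      (equiv₀ hN hcov F x).comp (Ext.mk₀ φ) (add_zero 0) := by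
  have := isIso_aug0 hN hcov F
  have := isIso_aug0 hN hcov G
  obtain ⟨s, rfl⟩ := (asIso (aug0 hN F.obj)).addCommGroupIsoToAddEquiv.surjective x
  apply (hu0 G B).injective
  have hnat : HomologicalComplex.homologyMap (cxMap (π := π) (Y := Y) φ.hom) 0
      ((asIso (aug0 hN F.obj)).addCommGroupIsoToAddEquiv s) =
      (asIso (aug0 hN G.obj)).addCommGroupIsoToAddEquiv (φ.hom.app (op B) s) :=
    congr($(aug0_naturality hN φ.hom) s)
  rw [hnat, hu0_comp]
  simp only [equiv₀, AddEquiv.trans_apply, AddEquiv.symm_apply_apply, AddEquiv.apply_symm_apply]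

variable (F) in
/-- Čech cohomology computes cohomology, compatibly with endomorphisms. -/
theorem exists_homology_addEquiv_endo (hN : IsNerve π Y b)
    (hcov : Sieve.ofArrows (fun i => π.obj (Y i)) b ∈ J B)
    (hF : ∀ (n : ℕ) (a : Fin (n+1) → ι) (q : ℕ), Subsingleton (Ext (fs J (π.obj (tup Y a))) F (q+1)))
    (p : ℕ) : ∃ e : (cx π Y F.obj).homology p ≃+ Ext (fs J B) F p,
      ∀ (φ : F ⟶ F) (x : (cx π Y F.obj).homology p),
        e (HomologicalComplex.homologyMap (cxMap (π := π) (Y := Y) φ.hom) p x) =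
          (e x).comp (Ext.mk₀ φ) (add_zero p) := by
  induction p generalizing F with
  | zero => exact ⟨equiv₀ hN hcov F, fun φ x => equiv₀_natural hN hcov φ x⟩
  | succ p ih =>
    have hS := hull_shortExact F
    have hC := scx_shortExact hS (show SurjTup π Y (hull F).g from fun n a => by
      have := hF n a 0
      exact surjective_sections_of_subsingleton hS _)
    cases p with
    | zero =>
      refine exists_step hN hC 0 (equiv₀ hN hcov _) (fun φ x => equiv₀_natural hN hcov φ x)
        fun x => ⟨fun h => ?_, fun h => ?_⟩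
      · have h3 := hC.homology_exact₃ 0 1 (by simp)
        rw [ShortComplex.ab_exact_iff] at h3
        obtain ⟨w, hw⟩ := h3 x h
        refine (congrArg (fun z => (equiv₀ hN hcov _ z).comp hS.extClass (zero_add 1)) hw.symm).trans ?_
        refine (congrArg (fun z => Ext.comp z hS.extClass (zero_add 1))
          (equiv₀_natural hN hcov (hull F).g w)).trans ?_
        rw [Ext.comp_assoc_of_second_deg_zero, hS.comp_extClass, Ext.comp_zero]
      · obtain ⟨y, hy⟩ := Ext.covariant_sequence_exact₃ _ hS _ (zero_add 1) h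
        obtain ⟨w, rfl⟩ := (equiv₀ hN hcov (hull F).X₂).surjective y
        rw [← (equiv₀ hN hcov _).injective ((equiv₀_natural hN hcov (hull F).g w).trans hy)]
        exact congr($(hC.comp_δ 0 1 (by simp)) w)
    | succ m =>
      obtain ⟨e', he'⟩ := ih (hull F).X₃ fun n a q => by
        have := hF n a (q+1); exact subsingleton_ext_quot
      refine exists_step hN hC (m+1) e' he' fun x => ⟨fun hx => ?_, fun hx => ?_⟩
      · have := injective_obj (hull F).X₂
        have h := hC.homology_exact₃ (m+1) (m+1+1) (by simp)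
        rw [ShortComplex.ab_exact_iff] at h
        obtain ⟨w, hw⟩ := h x hx
        have := AddCommGrpCat.subsingleton_of_isZero
          ((HomologicalComplex.exactAt_iff_isZero_homology _ _).1
            (exactAt_of_injective (π := π) (Y := Y) (P := (hull F).X₂.obj) hN m))
        rw [← hw, Subsingleton.elim (α := ((cx π Y (hull F).X₂.obj).homology (m+1) : Type u)) w 0]
        rw [map_zero, map_zero, Ext.zero_comp]
      · obtain ⟨y, hy⟩ := Ext.covariant_sequence_exact₃ _ hS _ rfl hx
        have : Subsingleton (Ext (fs J B) (hull F).X₂ (m+1)) := Ext.subsingleton_of_injective _ _ m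
        rw [Subsingleton.elim y 0, Ext.zero_comp] at hy
        rw [e'.map_eq_zero_iff.1 hy.symm, map_zero]

end Groth.L16.CechEndo

namespace Groth.L16.CechEndo

open AlgebraicGeometry TopologicalSpace

/-- Čech cohomology of an affine cover is the cohomology, compatibly with endomorphisms. -/
theorem exists_cechH_HH_endo {X : Scheme.{u}} {ι : Type u} (U : ι → X.Opens) (hU : ⨆ i, U i = ⊤)
    (M : X.Modules) [Coh.IsQCoh M] (haff : ∀ (n : ℕ) (a : Fin (n + 1) → ι), IsAffineOpen (⨅ k, U (a k)))
    (p : ℕ) :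
    ∃ e : ↑(CohB1.cechH U M p) ≃+ Coh.HH X M p, ∀ (φ : Coh.toAb M ⟶ Coh.toAb M) x,
      e (HomologicalComplex.homologyMap
          (Groth.L10.Cech.cxMap (π := 𝟭 _) (Y := U) φ.hom) p x) = Sheaf.H.map φ p (e x) := by
  obtain ⟨e, he⟩ := exists_homology_addEquiv_endo (Coh.toAb M) (Groth.L10.Cech.isNerve_opens (X := X.toTopCat) U)
    (Groth.L10.Cech.cover_opens (X := X.toTopCat) U)
    (fun n a q => (Groth.L10.Cech.tup_eq_iInf (X := X.toTopCat) U a).symm ▸
      subsingleton_of_forall_eq 0 (Groth.L17.hu_affine_eq_zero M (haff n a) q)) p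
  have hnat : ∀ V, V = (⊤ : Opens X.toTopCat) → ∃ h : Groth.L17.HU (X := X.toTopCat) V (Coh.toAb M) p ≃+
      Coh.HH X M p, ∀ (φ : Coh.toAb M ⟶ Coh.toAb M) x,
        h (x.comp (Ext.mk₀ φ) (add_zero p)) = Sheaf.H.map φ p (h x) := by
    rintro V rfl
    refine ⟨(Groth.L17.hTopEquiv (X := X.toTopCat) (Coh.toAb M) p).symm, fun φ x => ?_⟩
    exact (Ext.comp_assoc_of_third_deg_zero _ _ _ (zero_add p)).symm
  obtain ⟨h, hh⟩ := hnat _ hU
  exact ⟨e.trans h, fun φ x => (congrArg h (he φ x)).trans (hh φ _)⟩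

end Groth.L16.CechEndo
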