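import Groth.Agent.L16.Devissage
import Groth.Prelude.Def_ClSub2
import Mathlib.CategoryTheory.Abelian.Pseudoelements

/-!
# More dévissage
-/

set_option autoImplicit false
set_option linter.style.haveILetI false

universe u

open CategoryTheory CategoryTheory.Limits AlgebraicGeometry TopologicalSpace Opposite

noncomputable section

namespace Groth.L16.Devissage

open Groth.L16.CohSupport
open scoped Pseudoelement

variable {X : Scheme.{u}} [AlgebraicGeometry.IsNoetherian X]

/-- Modules with a finite filtration by ideals of integral closed subschemes. -/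
inductive Filt : X.Modules → Prop
  | zero (M : X.Modules) : IsZero M → Filt M
  | step (F M : X.Modules) (a : F ⟶ M) (Z : Scheme.{u}) (i : Z ⟶ X) (I : Z.Modules)
      (ι : I ⟶ Coh.structureModule Z) : Filt F → Coh.IsCoh M → IsClosedImmersion i → IsIntegral Z →
      Mono a → Mono ι → Coh.IsQCoh I → ¬ IsZero I → Nonempty (cokernel a ≅ (Coh.push i).obj I) → Filt M

omit [AlgebraicGeometry.IsNoetherian X] in
theorem Filt.of_iso {M N : X.Modules} (e : M ≅ N) (hN : Coh.IsCoh N) (h : Filt M) : Filt N := by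
  cases h with
  | zero _ h0 => exact .zero _ (h0.of_iso e.symm)
  | step F _ a Z i I ι hF hM hi hZ ha hι hI hI0 he =>
    obtain ⟨e'⟩ := he
    refine .step F N (a ≫ e.hom) Z i I ι hF hN hi hZ (by haveI := ha; exact mono_comp _ _) hι hI hI0
      ⟨(cokernelCompIsIso a e.hom) ≪≫ e'⟩

/-- Filtered modules are closed under extensions. -/
theorem Filt.ext {S : ShortComplex X.Modules} (hS : S.ShortExact) (h2 : Coh.IsCoh S.X₂)
    (h1 : Filt S.X₁) (h3 : Filt S.X₃) : Filt S.X₂ := by
  suffices ∀ {C : X.Modules}, Filt C → ∀ {B : X.Modules} (g : B ⟶ C), Epi g → Coh.IsCoh B →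
      Filt (kernel g) → Filt B by
    refine this h3 S.g hS.epi_g h2 (h1.of_iso ?_ ?_)
    · exact (IsLimit.conePointUniqueUpToIso hS.fIsKernel (limit.isLimit _) :)
    · exact isCoh_of_iso (IsLimit.conePointUniqueUpToIso hS.fIsKernel (limit.isLimit _) :)
        (isCoh_of_iso (Iso.refl _) (by
          haveI : Mono S.f := hS.mono_f
          haveI : Coh.IsQCoh S.X₂ := h2.1
          cases h1 with
          | zero _ h0 => exact isCoh_of_isZero h0
          | step F _ a Z i I ι hF hM hi hZ ha hι hI hI0 he => exact hM))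
  intro C hC
  induction hC with
  | zero C h0 =>
    intro B g _ hB hk
    exact hk.of_iso (kernelIsoOfEq (h0.eq_of_tgt g 0) ≪≫ kernelZeroIsoSource) hB
  | step F C a Z i I ι hF hC hi hZ ha hι hI hI0 he ih =>
    intro B g hg hB hk
    haveI := ha
    let q := g ≫ cokernel.π a
    let K := kernel q
    have hlift : (kernel.ι q ≫ g) ≫ cokernel.π a = 0 := by rw [Category.assoc]; exact kernel.condition _
    let g' : K ⟶ F := Abelian.monoLift a (kernel.ι q ≫ g) hlift
    have hg' : g' ≫ a = kernel.ι q ≫ g := Abelian.monoLift_comp _ _ _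
    haveI : Coh.IsQCoh C := hC.1
    haveI : Coh.IsQCoh (cokernel a) := by
      have hFc : Coh.IsCoh F := by
        cases hF with
        | zero _ h0 => exact isCoh_of_isZero h0
        | step _ _ _ _ _ _ _ _ hM' => exact hM'
      exact (Groth.L16.CohKernel.isCoh_kernel_cokernel hFc hC a).2.1
    have hK : Coh.IsCoh K := isCoh_kernel hB q
    haveI : Epi g' := by
      haveI := hg
      refine Abelian.Pseudoelement.epi_of_pseudo_surjective _ fun x => ?_
      obtain ⟨b, hb⟩ := Abelian.Pseudoelement.pseudo_surjective_of_epi g (a x)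
      have hq : q b = 0 := by
        rw [Abelian.Pseudoelement.comp_apply, hb, ← Abelian.Pseudoelement.comp_apply, cokernel.condition]
        exact Abelian.Pseudoelement.zero_apply _ _
      obtain ⟨k, hk'⟩ := Abelian.Pseudoelement.pseudo_exact_of_exact
        (ShortComplex.exact_kernel q) b hq
      refine ⟨k, Abelian.Pseudoelement.pseudo_injective_of_mono a ?_⟩
      rw [← Abelian.Pseudoelement.comp_apply, hg', Abelian.Pseudoelement.comp_apply]
      exact (congrArg g hk').trans hb
    have e : kernel g' ≅ kernel g :=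
      (kernelCompMono g' a).symm ≪≫ kernelIsoOfEq hg' ≪≫
        { hom := kernel.lift g (kernel.ι _ ≫ kernel.ι q) (by rw [Category.assoc]; exact kernel.condition _)
          inv := kernel.lift _ (kernel.lift q (kernel.ι g) (by simp [q])) (by simp)
          hom_inv_id := by
            apply Limits.equalizer.hom_ext
            apply Limits.equalizer.hom_ext
            simp
          inv_hom_id := by
            apply Limits.equalizer.hom_ext
            simp }
    have hkK : Filt (kernel g') := hk.of_iso e.symm (by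
      haveI : Coh.IsQCoh B := hB.1
      haveI : Coh.IsQCoh F := by
        cases hF with
        | zero _ h0 => exact (isCoh_of_isZero h0).1
        | step _ _ _ _ _ _ _ _ hM' => exact hM'.1
      exact isCoh_kernel hK g')
    haveI := hg
    haveI : Epi q := epi_comp _ _
    refine .step K B (kernel.ι q) Z i I ι (ih g' ‹_› hK hkK) hB hi hZ inferInstance hι hI hI0 ?_
    obtain ⟨e'⟩ := he
    exact ⟨IsColimit.coconePointUniqueUpToIso (colimit.isColimit _)
      (Abelian.epiIsCokernelOfKernel _ (limit.isLimit (parallelPair q 0))) ≪≫ e'⟩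

/-- Every coherent module is filtered. -/
theorem filt {M : X.Modules} (hM : Coh.IsCoh M) : Filt M := by
  refine devissage_ideals (fun M => Coh.IsCoh M → Filt M)
    (fun M N ⟨e⟩ h hN => (h (isCoh_of_iso e.symm hN)).of_iso e hN) (fun M h _ => .zero M h) ?_ ?_ hM hM
  · exact fun S hS h1 h2 h3 p1 p3 _ => Filt.ext hS h2 (p1 h1) (p3 h3)
  · intro Z i hi hZ I ι hι hI hcoh
    haveI : PreservesColimitsOfSize.{u, u} (Coh.push i) := Groth.L17.ClosedPush.preservesColimits_push i
    haveI : PreservesColimitsOfSize.{0, 0} (Coh.push i) := preservesColimitsOfSize_shrink.{0, u, 0, u} _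
    by_cases h0 : IsZero I
    · exact .zero _ ((Coh.push i).map_isZero h0)
    · refine .step (kernel (𝟙 (Coh.structureModule X))) _ 0 Z i I ι
        (.zero _ (isZero_kernel_of_mono _)) hcoh hi hZ ?_ hι hI h0 ⟨cokernelZeroIsoTarget⟩
      exact ⟨fun f g _ => (isZero_kernel_of_mono (𝟙 (Coh.structureModule X))).eq_of_tgt f g⟩

/-- The chain of a filtered module. -/
theorem Filt.chain {M : X.Modules} (h : Filt M) :
    ∃ (m : ℕ) (F : ℕ → X.Modules) (φ : (j : ℕ) → (F j ⟶ F (j + 1))),
      IsZero (F 0) ∧ Nonempty (F m ≅ M) ∧ (∀ j ≤ m, Coh.IsCoh (F j)) ∧ ∀ j < m, Mono (φ j) ∧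
        ∃ (Z : Scheme.{u}) (i : Z ⟶ X), IsClosedImmersion i ∧ IsIntegral Z ∧
          ∃ (I : Z.Modules) (ι : I ⟶ Coh.structureModule Z), Mono ι ∧ Coh.IsQCoh I ∧ ¬ IsZero I ∧
            Nonempty (cokernel (φ j) ≅ (Coh.push i).obj I) := by
  classical
  induction h with
  | zero M h0 => exact ⟨0, fun _ => M, fun _ => 0, h0, ⟨Iso.refl _⟩, fun _ _ => isCoh_of_isZero h0,
      fun j hj => absurd hj (Nat.not_lt_zero j)⟩
  | step F M a Z i I ι _ hM hi hZ ha hι hI hI0 he ih =>
    obtain ⟨m, G, φ, hG0, ⟨e⟩, hc, hs⟩ := ih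
    let G' : ℕ → X.Modules := fun j => if j ≤ m then G j else M
    have eq1 : ∀ j, j ≤ m → G' j = G j := fun j hj => if_pos hj
    have eq2 : ∀ j, ¬ j ≤ m → G' j = M := fun j hj => if_neg hj
    let ψ : ∀ j, G' j ⟶ G' (j + 1) := fun j =>
      if h : j + 1 ≤ m then eqToHom (eq1 j (Nat.le_of_succ_le h)) ≫ φ j ≫ eqToHom (eq1 (j + 1) h).symm
      else if h' : j = m then eqToHom ((eq1 j h'.le).trans (by rw [h'])) ≫ (e.hom ≫ a) ≫
        eqToHom (eq2 (j + 1) h).symm
      else 0
    refine ⟨m + 1, G', ψ, ?_, ?_, fun j hj => ?_, fun j hj => ?_⟩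
    · rw [eq1 0 (Nat.zero_le m)]; exact hG0
    · exact ⟨eqToIso (eq2 (m + 1) (Nat.not_succ_le_self m))⟩
    · by_cases hjm : j ≤ m
      · rw [eq1 j hjm]; exact hc j hjm
      · rw [eq2 j hjm]; exact hM
    · by_cases hjm : j + 1 ≤ m
      · obtain ⟨hm, Z', i', hi', hZ', I', ι', hι', hI', hI0', ⟨e'⟩⟩ := hs j hjm
        refine ⟨?_, Z', i', hi', hZ', I', ι', hι', hI', hI0', ?_⟩
        · simp only [ψ, dif_pos hjm]; infer_instance
        · simp only [ψ, dif_pos hjm]
          exact ⟨cokernelEpiComp _ _ ≪≫ cokernelCompIsIso _ _ ≪≫ e'⟩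
      · have hjm' : j = m := by omega
        obtain ⟨e'⟩ := he
        haveI := ha
        refine ⟨?_, Z, i, hi, hZ, I, ι, hι, hI, hI0, ?_⟩
        · simp only [ψ, dif_neg hjm, dif_pos hjm']; infer_instance
        · simp only [ψ, dif_neg hjm, dif_pos hjm']
          exact ⟨cokernelEpiComp _ _ ≪≫ cokernelCompIsIso _ _ ≪≫ cokernelEpiComp _ _ ≪≫ e'⟩

end Groth.L16.Devissage
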