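import Groth.Agent.L18.ConeMaps
import Mathlib.RingTheory.GradedAlgebra.FiniteType
import Mathlib.RingTheory.GradedAlgebra.Radical
import Mathlib.RingTheory.Finiteness.Ideal

/-! A graded algebra whose `Proj` is that of its degree-one subalgebra is eventually generated in degree one. -/

set_option autoImplicit false
universe u

open CategoryTheory CategoryTheory.Limits AlgebraicGeometry HomogeneousLocalization

namespace Groth.L16.EventuallyGen

variable {R A B : Type u} [CommRing R] [CommRing A] [Algebra R A] {𝒜 : ℕ → Submodule R A} [GradedAlgebra 𝒜]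
  [CommRing B] [Algebra R B] {ℬ : ℕ → Submodule R B} [GradedAlgebra ℬ] (φ : 𝒜 →+*ᵍ ℬ)

omit [GradedAlgebra 𝒜] [GradedAlgebra ℬ] in
theorem map_mem_pow {n : ℕ} {a : A} (ha : a ∈ 𝒜 1 ^ n) (hn : 1 ≤ n) : φ a ∈ ℬ 1 ^ n := by
  induction n, hn using Nat.le_induction generalizing a with
  | base => rw [pow_one] at ha ⊢; exact φ.map_mem ha
  | succ n hn ih =>
    rw [pow_succ] at ha ⊢
    refine Submodule.mul_induction_on ha (fun x hx y hy => ?_) fun x y hx hy => ?_
    · rw [map_mul]; exact Submodule.mul_mem_mul (ih hx) (φ.map_mem hy)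
    · rw [map_add]; exact add_mem hx hy

theorem pow_degOne_le : ∀ n : ℕ, ℬ 1 ^ n ≤ ℬ n
  | 0 => by rw [pow_zero, Submodule.one_le]; exact SetLike.GradedOne.one_mem
  | n + 1 => by
    rw [pow_succ, Submodule.mul_le]
    exact fun x hx y hy => SetLike.mul_mem_graded (pow_degOne_le n hx) hy

omit [GradedAlgebra 𝒜] in
/-- The positive degrees are radical over the degree-one elements. -/
theorem exists_pow_mem (hgen : ∀ n : ℕ, 1 ≤ n → 𝒜 n = 𝒜 1 ^ n) (hdom : PCone.dom φ = ⊤)
    {d : ℕ} (hd : 0 < d) {b : B} (hb : b ∈ ℬ d) : ∃ N : ℕ, b ^ N ∈ Ideal.span (φ '' (𝒜 1 : Set A)) := by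
  by_contra hne
  push Not at hne
  have hb' : b ∉ (Ideal.span (φ '' (𝒜 1 : Set A))).radical := fun ⟨N, hN⟩ => hne N hN
  rw [Ideal.radical_eq_sInf, Submodule.mem_sInf] at hb'
  push Not at hb'
  obtain ⟨P, ⟨hIP, hP⟩, hbP⟩ := hb'
  have hcoreP : (Ideal.homogeneousCore ℬ P).toIdeal.IsPrime := Ideal.IsPrime.homogeneousCore hP
  let x : ProjectiveSpectrum ℬ := ⟨Ideal.homogeneousCore ℬ P, hcoreP, fun h => hbP
    (Ideal.toIdeal_homogeneousCore_le ℬ P (h (HomogeneousIdeal.mem_irrelevant_of_mem ℬ hd hb)))⟩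
  have hx : x ∈ PCone.dom φ := hdom.ge trivial
  obtain ⟨⟨f, e, he, hf⟩, hfx⟩ := TopologicalSpace.Opens.mem_iSup.mp hx
  refine hfx (Ideal.mem_homogeneousCore_of_homogeneous_of_mem (I := P) ⟨e, φ.map_mem hf⟩ ?_)
  change φ f ∈ P
  clear hfx
  rw [hgen e he] at hf
  obtain ⟨e', rfl⟩ : ∃ e', e = e' + 1 := ⟨e - 1, by omega⟩
  rw [pow_succ] at hf
  refine Submodule.mul_induction_on hf (fun u hu v hv => ?_) fun u v hu hv => ?_
  · rw [map_mul]; exact Ideal.mul_mem_left P _ (hIP (Ideal.subset_span ⟨v, hv, rfl⟩))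
  · rw [map_add]; exact add_mem hu hv

/-- Away maps are surjective when the map of spectra is invertible. -/
theorem away_surjective (p : (PCone.dom φ : Scheme.{u}) ⟶ Proj 𝒜)
    (hp : ∀ (d : ℕ) (f : A) (hd : 0 < d) (hf : f ∈ 𝒜 d),
      PCone.chart φ hf hd ≫ p = Spec.map (CommRingCat.ofHom (Away.map φ f)) ≫ Proj.awayι 𝒜 f hf hd)
    [IsIso p] {t : A} (ht : t ∈ 𝒜 1) : Function.Surjective (Away.map φ t) := by
  haveI : IsIso (Spec.map (CommRingCat.ofHom (Away.map φ t))) :=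
    (Groth.L18.Cones.pmap_isPullback φ p hp one_pos ht).isIso_fst_of_isIso
  exact ((isIso_SpecMap_iff (f := CommRingCat.ofHom (Away.map φ t))).1 this).2

/-- Elements of degree `n` are eventually images after multiplying by a power of `t`. -/
theorem exists_pow_mul (hsurj : ∀ t ∈ 𝒜 1, Function.Surjective (Away.map φ t)) {t : A} (ht : t ∈ 𝒜 1)
    {n : ℕ} {y : B} (hy : y ∈ ℬ n) : ∃ (k : ℕ) (a : A), φ a = φ t ^ k * y := by
  obtain ⟨z, hz⟩ := hsurj t ht (Away.mk ℬ (φ.map_mem ht) n y (by simpa using hy))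
  obtain ⟨j, a, ha, rfl⟩ := Away.mk_surjective 𝒜 ht z
  rw [Away.map_mk] at hz
  have h := congrArg HomogeneousLocalization.val hz
  rw [Away.val_mk, Away.val_mk, Localization.mk_eq_mk_iff, Localization.r_iff_exists] at h
  obtain ⟨⟨_, m, rfl⟩, hm⟩ := h
  refine ⟨m + j, t ^ (m + n) * a, ?_⟩
  simp only at hm
  rw [map_mul, map_pow, pow_add, pow_add, mul_assoc, mul_assoc]
  exact hm

theorem eventually_eq_pow [Algebra.FiniteType (ℬ 0) B] (h0 : Set.BijOn φ (𝒜 0) (ℬ 0))
    (hgen : ∀ n : ℕ, 1 ≤ n → 𝒜 n = 𝒜 1 ^ n) (hdom : PCone.dom φ = ⊤)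
    (hsurj : ∀ t ∈ 𝒜 1, Function.Surjective (Away.map φ t)) :
    ∃ n₀ : ℕ, ∀ n : ℕ, n₀ ≤ n → ℬ n = ℬ 1 ^ n := by
  classical
  obtain ⟨s, hs, hs'⟩ := GradedAlgebra.exists_finset_adjoin_eq_top_and_homogeneous_ne_zero ℬ
  choose dg hdg hgd using fun g : s => hs' g.1 g.2
  choose N hN using fun g : s => exists_pow_mem φ hgen hdom (Nat.pos_of_ne_zero (hdg g)) (hgd g)
  have hfin : ∀ g : s, ∃ T : Finset A, (T : Set A) ⊆ 𝒜 1 ∧ g.1 ^ N g ∈ Ideal.span (φ '' (T : Set A)) := by
    intro g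
    obtain ⟨T', hT', hg⟩ := Submodule.mem_span_finite_of_mem_span (hN g)
    obtain ⟨T, hT, hTT⟩ := Finset.subset_set_image_iff.1 hT'
    exact ⟨T, hT, by subst hTT; simpa only [Finset.coe_image] using hg⟩
  choose Tg hTg hgT using hfin
  let T : Finset A := Finset.univ.biUnion Tg
  have hT : ∀ t ∈ T, t ∈ 𝒜 1 := fun t ht => by
    obtain ⟨g, -, hg⟩ := Finset.mem_biUnion.1 ht; exact hTg g hg
  set D : ℕ := ∑ g : s, N g * dg g with hD
  -- monomials in the generators
  have hmon : ∀ x : B, x ∈ AddSubgroup.closure {z : B | ∃ (c : ℬ 0) (e : s → ℕ), z = c.1 * ∏ g : s, g.1 ^ e g} := by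
    intro x
    have hx : x ∈ Algebra.adjoin (ℬ 0) (s : Set B) := hs.ge trivial
    rw [← Subalgebra.mem_toSubmodule, Algebra.adjoin_eq_span] at hx
    refine Submodule.span_induction ?_ (zero_mem _) (fun _ _ _ _ => add_mem) ?_ hx
    · intro z hz
      refine AddSubgroup.subset_closure ⟨⟨1, SetLike.GradedOne.one_mem⟩, ?_⟩
      rw [SetLike.mem_coe, Submonoid.mem_closure_finset'] at hz
      obtain ⟨e, he⟩ := hz
      exact ⟨e, by rw [← he, one_mul]⟩
    · intro c z _ hz
      refine AddSubgroup.closure_induction ?_ ?_ ?_ ?_ hz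
      · rintro _ ⟨c', e, rfl⟩
        refine AddSubgroup.subset_closure ⟨⟨c.1 * c'.1, ?_⟩, e, ?_⟩
        · simpa using SetLike.mul_mem_graded c.2 c'.2
        · rw [Algebra.smul_def]; exact (mul_assoc _ _ _).symm
      · rw [smul_zero]; exact zero_mem _
      · intro a b _ _ ha hb; rw [smul_add]; exact add_mem ha hb
      · intro a _ ha; rw [smul_neg]; exact neg_mem ha
  have hdeg : ∀ (c : ℬ 0) (e : s → ℕ), c.1 * ∏ g : s, g.1 ^ e g ∈ ℬ (∑ g : s, e g * dg g) := fun c e => by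
    simpa using SetLike.mul_mem_graded c.2
      (SetLike.prod_pow_mem_graded (fun n => ℬ n) dg (fun g : s => g.1) e fun g _ => hgd g)
  -- components
  have hcomp : ∀ (n : ℕ) (S : Set B), (∀ (c : ℬ 0) (e : s → ℕ), ∑ g : s, e g * dg g = n →
      c.1 * ∏ g : s, g.1 ^ e g ∈ S) → ∀ y ∈ ℬ n, y ∈ AddSubgroup.closure S := by
    intro n S hS y hy
    rw [← DirectSum.decompose_of_mem_same ℬ hy]
    refine AddSubgroup.closure_induction (p := fun x _ => (DirectSum.decompose ℬ x n : B) ∈ AddSubgroup.closure S)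
      ?_ ?_ ?_ ?_ (hmon y)
    · rintro _ ⟨c, e, rfl⟩
      by_cases he : ∑ g : s, e g * dg g = n
      · rw [DirectSum.decompose_of_mem_same ℬ (he ▸ hdeg c e)]
        exact AddSubgroup.subset_closure (hS c e he)
      · rw [DirectSum.decompose_of_mem_ne ℬ (hdeg c e) he]; exact zero_mem _
    · simp
    · intro a b _ _ ha hb; simp only [DirectSum.decompose_add, DirectSum.add_apply, Submodule.coe_add]; exact add_mem ha hb
    · intro a _ ha; simp only [DirectSum.decompose_neg]; exact neg_mem ha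
  -- one step down
  have hstep : ∀ n : ℕ, D < n + 1 → ∀ y ∈ ℬ (n + 1),
      y ∈ AddSubgroup.closure {z : B | ∃ t ∈ T, ∃ b ∈ ℬ n, z = φ t * b} := by
    intro n hn y hy
    rw [← AddSubgroup.closure_eq (AddSubgroup.closure _)]
    refine hcomp (n + 1) _ (fun c e he => ?_) y hy
    obtain ⟨g, hg⟩ : ∃ g : s, N g ≤ e g := by
      by_contra hlt
      push Not at hlt
      have : ∑ g : s, e g * dg g ≤ D := Finset.sum_le_sum fun g _ => Nat.mul_le_mul_right _ (hlt g).le
      omega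
    have hmem : c.1 * ∏ g : s, g.1 ^ e g ∈ Ideal.span (φ '' (T : Set A)) := by
      refine Ideal.mul_mem_left _ _ ?_
      rw [← Finset.mul_prod_erase Finset.univ _ (Finset.mem_univ g)]
      refine Ideal.mul_mem_right _ _ (Ideal.pow_mem_of_pow_mem (Ideal.span (φ '' (T : Set A))) ?_ hg)
      exact Ideal.span_mono (Set.image_mono (Finset.coe_subset.2 (Finset.subset_biUnion_of_mem Tg (Finset.mem_univ g)))) (hgT g)
    have hy' := hdeg c e
    rw [he] at hy'
    rw [SetLike.mem_coe, ← DirectSum.decompose_of_mem_same ℬ hy']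
    suffices h : ∀ r : B, (DirectSum.decompose ℬ (r * (c.1 * ∏ g : s, g.1 ^ e g)) (n + 1) : B) ∈
        AddSubgroup.closure {z : B | ∃ t ∈ T, ∃ b ∈ ℬ n, z = φ t * b} by simpa only [one_mul] using h 1
    refine Submodule.span_induction (p := fun x _ => ∀ r : B, (DirectSum.decompose ℬ (r * x) (n + 1) : B) ∈ _)
      ?_ ?_ ?_ ?_ hmem
    · rintro _ ⟨t, ht, rfl⟩ r
      refine AddSubgroup.subset_closure ⟨t, ht, _, SetLike.coe_mem (DirectSum.decompose ℬ r n), ?_⟩
      have hm : φ t ∈ ℬ 1 := φ.map_mem (hT t ht)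
      rw [DirectSum.coe_decompose_mul_of_right_mem_of_le ℬ hm (Nat.le_add_left 1 n),
        Nat.add_sub_cancel, mul_comm]
    · intro r; simp
    · intro a b _ _ ha hb r
      simp only [mul_add, DirectSum.decompose_add, DirectSum.add_apply, Submodule.coe_add]
      exact add_mem (ha r) (hb r)
    · intro a x _ hx r
      rw [smul_eq_mul, ← mul_assoc]; exact hx _
  -- conductor
  let imφ : AddSubgroup B := (φ : A →+* B).range.toAddSubgroup
  have him : ∀ a : A, φ a ∈ imφ := fun a => ⟨a, rfl⟩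
  have hmulim : ∀ (a : A) {z : B}, z ∈ imφ → φ a * z ∈ imφ := by
    rintro a _ ⟨a', rfl⟩; exact ⟨a * a', map_mul φ a a'⟩
  let J : Ideal A :=
    { carrier := {a | ∀ y ∈ ℬ D, φ a * y ∈ imφ}
      add_mem' := fun {a b} ha hb y hy => by rw [map_add, add_mul]; exact add_mem (ha y hy) (hb y hy)
      zero_mem' := fun y _ => by rw [map_zero, zero_mul]; exact zero_mem _
      smul_mem' := fun r a ha y hy => by rw [smul_eq_mul, map_mul, mul_assoc]; exact hmulim r (ha y hy) }
  have hJ : Ideal.span (T : Set A) ≤ J.radical := by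
    rw [Ideal.span_le]
    intro t ht
    choose k a hka using fun e : s → Fin (D + 1) => exists_pow_mul φ hsurj (hT t ht)
      (hdeg ⟨1, SetLike.GradedOne.one_mem⟩ fun g => (e g).1)
    refine ⟨Finset.univ.sup k, fun y hy => ?_⟩
    refine AddSubgroup.closure_induction (p := fun z _ => φ (t ^ Finset.univ.sup k) * z ∈ imφ) ?_ ?_ ?_ ?_
      (hcomp D {z | φ (t ^ Finset.univ.sup k) * z ∈ imφ} (fun c e he => ?_) y hy)
    · exact fun z hz => hz
    · rw [mul_zero]; exact zero_mem _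
    · intro a b _ _ ha hb; rw [mul_add]; exact add_mem ha hb
    · intro a _ ha; rw [mul_neg]; exact neg_mem ha
    · have hle : ∀ g : s, e g < D + 1 := fun g => by
        have h1 : e g * dg g ≤ D := he ▸ Finset.single_le_sum (f := fun g : s => e g * dg g) (fun _ _ => Nat.zero_le _) (Finset.mem_univ g)
        exact Nat.lt_succ_of_le ((Nat.le_mul_of_pos_right _ (Nat.pos_of_ne_zero (hdg g))).trans h1)
      let e' : s → Fin (D + 1) := fun g => ⟨e g, hle g⟩
      obtain ⟨c₀, -, hc₀⟩ := h0.surjOn c.2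
      show φ (t ^ Finset.univ.sup k) * (c.1 * ∏ g : s, g.1 ^ e g) ∈ imφ
      obtain ⟨j, hj⟩ := Nat.exists_eq_add_of_le (Finset.le_sup (f := k) (Finset.mem_univ e'))
      have h1 := hka e'
      simp only [one_mul] at h1
      refine ⟨t ^ j * c₀ * a e', ?_⟩
      show φ (t ^ j * c₀ * a e') = _
      rw [map_mul, map_mul, h1, hc₀, hj, map_pow, map_pow]
      ring
  obtain ⟨K, hK⟩ := Ideal.exists_pow_le_of_le_radical_of_fg hJ ⟨T, rfl⟩
  have hdown : ∀ k : ℕ, ∀ y ∈ ℬ (D + k),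
      y ∈ AddSubgroup.closure {z : B | ∃ a ∈ Ideal.span (T : Set A) ^ k, ∃ b ∈ ℬ D, z = φ a * b} := by
    intro k
    induction k with
    | zero => exact fun y hy => AddSubgroup.subset_closure ⟨1, by simp, y, hy, by rw [map_one, one_mul]⟩
    | succ k ih =>
      intro y hy
      refine AddSubgroup.closure_induction ?_ (zero_mem _) (fun _ _ _ _ => add_mem) (fun _ _ => neg_mem)
        (hstep (D + k) (by omega) y hy)
      rintro _ ⟨t, ht, b, hb, rfl⟩
      refine AddSubgroup.closure_induction (p := fun z _ => φ t * z ∈ _) ?_ ?_ ?_ ?_ (ih b hb)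
      · rintro _ ⟨a, ha, b', hb', rfl⟩
        refine AddSubgroup.subset_closure ⟨a * t, ?_, b', hb', by rw [map_mul]; ring⟩
        rw [pow_succ]
        exact Ideal.mul_mem_mul ha (Ideal.subset_span ht)
      · rw [mul_zero]; exact zero_mem _
      · intro a b _ _ ha hb; rw [mul_add]; exact add_mem ha hb
      · intro a _ ha; rw [mul_neg]; exact neg_mem ha
  refine ⟨D + K + 1, fun n hn => le_antisymm (fun y hy => ?_) (pow_degOne_le n)⟩
  obtain ⟨a, rfl⟩ : y ∈ imφ := by
    obtain ⟨k, rfl⟩ : ∃ k, n = D + k := ⟨n - D, by omega⟩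
    refine AddSubgroup.closure_induction ?_ (zero_mem _) (fun _ _ _ _ => add_mem) (fun _ _ => neg_mem) (hdown k y hy)
    rintro _ ⟨a, ha, b, hb, rfl⟩
    exact hK (Ideal.pow_le_pow_right (by omega) ha) b hb
  have e1 : φ a = φ (DirectSum.decompose 𝒜 a n) := by
    exact (DirectSum.decompose_of_mem_same ℬ hy).symm.trans φ.map_directSumDecompose.symm
  show φ a ∈ ℬ 1 ^ n
  rw [e1]
  exact map_mem_pow φ ((hgen n (by omega)).le (SetLike.coe_mem _)) (by omega)

end Groth.L16.EventuallyGen
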