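import Mathlib.CategoryTheory.MorphismProperty.Limits
import Mathlib.CategoryTheory.EffectiveEpi.Basic
import Mathlib.CategoryTheory.Limits.Shapes.Equalizers
import Mathlib.CategoryTheory.EpiMono

/-! Descent of coequalized maps along an effective, universal epimorphism (reflexive pairs). -/

open CategoryTheory CategoryTheory.Limits

namespace Groth.L16

universe v₁ u₁

variable {C : Type u₁} [Category.{v₁} C] [HasPullbacks C]
    {X₁ X₀ Y₀ : C} (d₀ d₁ : X₁ ⟶ X₀) (s : X₀ ⟶ X₁) (f₀ : Y₀ ⟶ X₀)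

theorem grpq_fwd {T : C} (h : X₀ ⟶ T) (hh : d₁ ≫ h = d₀ ≫ h) :
    (pullback.fst (pullback.snd f₀ d₁ ≫ d₀) f₀ ≫ pullback.fst f₀ d₁) ≫ f₀ ≫ h =
      pullback.snd (pullback.snd f₀ d₁ ≫ d₀) f₀ ≫ f₀ ≫ h := by
  rw [Category.assoc, pullback.condition_assoc, hh, ← pullback.condition_assoc, Category.assoc]

theorem grpq_desc (hs₀ : s ≫ d₀ = 𝟙 X₀) (hs₁ : s ≫ d₁ = 𝟙 X₀) [EffectiveEpi f₀]
    (hf : MorphismProperty.universally (MorphismProperty.epimorphisms C) f₀)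
    {T : C} (g : Y₀ ⟶ T)
    (hg : (pullback.fst (pullback.snd f₀ d₁ ≫ d₀) f₀ ≫ pullback.fst f₀ d₁) ≫ g =
      pullback.snd (pullback.snd f₀ d₁ ≫ d₀) f₀ ≫ g) :
    ∃! h : X₀ ⟶ T, d₁ ≫ h = d₀ ≫ h ∧ f₀ ≫ h = g := by
  have hker : ∀ {Z : C} (a b : Z ⟶ Y₀), a ≫ f₀ = b ≫ f₀ → a ≫ g = b ≫ g := by
    intro Z a b hab
    have h1 : a ≫ f₀ = (a ≫ f₀ ≫ s) ≫ d₁ := by simp [hs₁]
    let k := pullback.lift a (a ≫ f₀ ≫ s) h1
    have h2 : k ≫ pullback.snd f₀ d₁ ≫ d₀ = b ≫ f₀ := by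
      rw [pullback.lift_snd_assoc]
      simp [hs₀, hab]
    have := congrArg (pullback.lift k b h2 ≫ ·) hg
    simpa [k, pullback.lift_fst_assoc, pullback.lift_snd_assoc] using this
  refine ⟨EffectiveEpi.desc f₀ g hker, ⟨?_, EffectiveEpi.fac f₀ g hker⟩, ?_⟩
  · have e1 : Epi (pullback.snd f₀ d₁) :=
      hf (pullback.fst f₀ d₁) d₁ (pullback.snd f₀ d₁) (IsPullback.of_hasPullback f₀ d₁).flip
    have e2 : Epi (pullback.fst (pullback.snd f₀ d₁ ≫ d₀) f₀) :=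
      hf (pullback.snd (pullback.snd f₀ d₁ ≫ d₀) f₀) (pullback.snd f₀ d₁ ≫ d₀) _
        (IsPullback.of_hasPullback (pullback.snd f₀ d₁ ≫ d₀) f₀)
    have eq := hg
    rw [← EffectiveEpi.fac f₀ g hker, Category.assoc, pullback.condition_assoc,
      ← pullback.condition_assoc (f := pullback.snd f₀ d₁ ≫ d₀), Category.assoc] at eq
    rwa [cancel_epi, cancel_epi] at eq
  · rintro h ⟨-, h2⟩
    exact EffectiveEpi.uniq f₀ g hker h h2

theorem grpq_hasCoequalizer_iff (hs₀ : s ≫ d₀ = 𝟙 X₀) (hs₁ : s ≫ d₁ = 𝟙 X₀) [EffectiveEpi f₀]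
    (hf : MorphismProperty.universally (MorphismProperty.epimorphisms C) f₀) :
    HasCoequalizer d₁ d₀ ↔
      HasCoequalizer (pullback.fst (pullback.snd f₀ d₁ ≫ d₀) f₀ ≫ pullback.fst f₀ d₁)
        (pullback.snd (pullback.snd f₀ d₁ ≫ d₀) f₀) := by
  constructor
  · intro h
    refine ⟨⟨⟨Cofork.ofπ (f₀ ≫ coequalizer.π d₁ d₀)
      (grpq_fwd d₀ d₁ f₀ _ (coequalizer.condition d₁ d₀)), ?_⟩⟩⟩
    refine Cofork.IsColimit.mk' _ fun c => ?_
    have hk := (grpq_desc d₀ d₁ s f₀ hs₀ hs₁ hf c.π c.condition).exists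
    have hk1 := hk.choose_spec.1
    have hk2 := hk.choose_spec.2
    let k := hk.choose
    refine ⟨coequalizer.desc k hk1, ?_, fun {m} hm => ?_⟩
    · simp [k, hk2]
    · simp only [Cofork.π_ofπ] at hm
      refine (coequalizerIsCoequalizer d₁ d₀).hom_ext (fun j => ?_)
      rcases j with _ | _
      · simp only [Cofork.app_zero_eq_comp_π_left, Cofork.π_ofπ]
        simp only [Category.assoc]
        congr 1
        rw [← cancel_epi f₀, ← Category.assoc, hm, coequalizer.π_desc, hk2]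
      · simp only [Cofork.app_one_eq_π, Cofork.π_ofπ]
        rw [← cancel_epi f₀, ← Category.assoc, hm]
        exact hk2.symm.trans (congrArg (f₀ ≫ ·) (coequalizer.π_desc _ _).symm)
  · intro h
    obtain ⟨k, ⟨hk1, hk2⟩, -⟩ := grpq_desc d₀ d₁ s f₀ hs₀ hs₁ hf
      (coequalizer.π _ _) (coequalizer.condition _ _)
    refine ⟨⟨⟨Cofork.ofπ k hk1, ?_⟩⟩⟩
    refine Cofork.IsColimit.mk' _ fun c => ?_
    refine ⟨coequalizer.desc (f₀ ≫ c.π) (grpq_fwd d₀ d₁ f₀ _ c.condition), ?_, fun {m} hm => ?_⟩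
    · rw [← cancel_epi f₀]
      simp [reassoc_of% hk2]
    · simp only [Cofork.π_ofπ] at hm
      refine Cofork.IsColimit.hom_ext (coequalizerIsCoequalizer _ _) ?_
      simp only [Cofork.π_ofπ]
      refine Eq.trans ?_ (coequalizer.π_desc _ _).symm
      rw [← hm, ← Category.assoc]
      exact congrArg (· ≫ m) hk2.symm

end Groth.L16
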