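import Groth.Prelude.Def_FrobAlg
import Mathlib.FieldTheory.PerfectClosure
import Mathlib.RingTheory.RingHom.FaithfullyFlat
import Mathlib.RingTheory.Flat.FaithfullyFlat.Algebra
import Mathlib.RingTheory.Flat.Tensor
import Mathlib.LinearAlgebra.TensorProduct.Tower
import Mathlib.Algebra.Module.Projective
import Mathlib.Data.Finsupp.ToDFinsupp

/-! Frobenius tower of a ring whose Frobenius is projective, and flatness of its perfect closure. -/

set_option autoImplicit false
universe u

namespace Groth.L16.PerfTower

open TensorProduct

variable (p : ℕ) [Fact p.Prime] (R : Type u) [CommRing R] [CharP R p]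

/-- `R` as an algebra over itself through the `n`-th iterated Frobenius. -/
def T (_p : ℕ) (R : Type u) (_n : ℕ) : Type u := R

instance (n : ℕ) : CommRing (T p R n) := inferInstanceAs (CommRing R)

instance (n : ℕ) : CharP (T p R n) p := inferInstanceAs (CharP R p)

/-- the identity map of underlying rings. -/
def el (n : ℕ) : R ≃+* T p R n := RingEquiv.refl R

instance instAlgT (n : ℕ) : Algebra R (T p R n) :=
  ((el p R n : R →+* T p R n).comp (iterateFrobenius R p n)).toAlgebra

theorem smul_el (n : ℕ) (r x : R) : r • el p R n x = el p R n (r ^ p ^ n * x) := by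
  rw [Algebra.smul_def, RingHom.algebraMap_toAlgebra, map_mul, RingHom.comp_apply, iterateFrobenius_def]
  rfl

theorem projective_T [Module.Projective R (FrobAlg.Twist p R)] : ∀ n, Module.Projective R (T p R n)
  | 0 => Module.Projective.of_equiv'
      (M := R) { toFun := el p R 0, invFun := (el p R 0).symm, map_add' := map_add _,
                 left_inv := (el p R 0).left_inv, right_inv := (el p R 0).right_inv,
                 map_smul' := fun r x => by
                   rw [RingHom.id_apply, smul_el, pow_zero, pow_one]; rfl }
  | n + 1 => by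
      classical
      have ih := projective_T n
      obtain ⟨s, hs⟩ := Module.projective_def'.1 ih
      let e : R ≃+* FrobAlg.Twist p R := FrobAlg.toTwist p R
      have he : ∀ (r x : R), r • e x = e (r ^ p * x) := fun r x => rfl
      let v : T p R (n + 1) ≃+* T p R n := (el p R (n + 1)).symm.trans (el p R n)
      have hv : ∀ (r : R) (x : T p R (n + 1)), v (r • x) = r ^ p • v x := by
        intro r x
        obtain ⟨a, rfl⟩ := (el p R (n + 1)).surjective x
        rw [smul_el]
        show el p R n _ = r ^ p • el p R n a
        rw [smul_el, ← pow_mul, ← pow_succ']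
        rfl
      let i : T p R (n + 1) →ₗ[R] (T p R n →₀ FrobAlg.Twist p R) :=
        { toFun := fun x => (s (v x)).mapRange e (map_zero e)
          map_add' := fun x y => by
            rw [map_add, map_add, Finsupp.mapRange_add (map_add e)]
          map_smul' := fun r x => by
            rw [hv, map_smul]
            ext j
            simp only [Finsupp.mapRange_apply, Finsupp.smul_apply, RingHom.id_apply, smul_eq_mul]
            exact (he r _).symm }
      let q : (T p R n →₀ FrobAlg.Twist p R) →ₗ[R] T p R (n + 1) :=
        { toFun := fun f => v.symm (Finsupp.linearCombination R (id : T p R n → T p R n)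
            (f.mapRange e.symm (map_zero _)))
          map_add' := fun f g => by
            rw [Finsupp.mapRange_add (map_add e.symm), map_add, map_add]
          map_smul' := fun r f => by
            have : (r • f).mapRange e.symm (map_zero _) = (r ^ p) • f.mapRange e.symm (map_zero _) := by
              ext j
              simp only [Finsupp.mapRange_apply, Finsupp.smul_apply, smul_eq_mul]
              rfl
            rw [this, map_smul, RingHom.id_apply]
            apply v.injective
            rw [RingEquiv.apply_symm_apply, hv, RingEquiv.apply_symm_apply] }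
      have : Module.Projective R (T p R n →₀ FrobAlg.Twist p R) :=
        Module.Projective.of_equiv' (finsuppLequivDFinsupp R).symm
      refine Module.Projective.of_split i q ?_
      ext x
      show v.symm (Finsupp.linearCombination R (id : T p R n → T p R n)
        (((s (v x)).mapRange e (map_zero e)).mapRange e.symm (map_zero _))) = _
      have : ((s (v x)).mapRange e (map_zero e)).mapRange e.symm (map_zero _) = s (v x) := by
        ext j; simp
      rw [this]
      exact (congrArg v.symm (LinearMap.congr_fun hs (v x))).trans (v.symm_apply_apply x)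

theorem frobenius_injective [Module.Projective R (FrobAlg.Twist p R)] :
    Function.Injective (frobenius R p) := by
  have : Module.FaithfullyFlat R (FrobAlg.Twist p R) :=
    { submodule_ne_top := fun m hm h => by
        have hle : ∀ z ∈ m • (⊤ : Submodule R (FrobAlg.Twist p R)), (FrobAlg.toTwist p R).symm z ∈ m := by
          intro z hz
          refine Submodule.smul_induction_on hz (fun a ha y _ => ?_) fun a b ha hb => ?_
          · show (FrobAlg.toTwist p R).symm (FrobAlg.toTwist p R (a ^ p) * y) ∈ m
            rw [map_mul, RingEquiv.symm_apply_apply]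
            exact Ideal.mul_mem_right _ _ (Ideal.pow_mem_of_mem m ha p (Fact.out : p.Prime).pos)
          · rw [map_add]; exact add_mem ha hb
        have := hle (1 : FrobAlg.Twist p R) (h.symm ▸ Submodule.mem_top)
        rw [map_one] at this
        exact hm.ne_top (m.eq_top_of_isUnit_mem this isUnit_one) }
  exact FaithfulSMul.algebraMap_injective R (FrobAlg.Twist p R)

/-- `x ↦ x^{1/p^n}`. -/
def psi (n : ℕ) :
    letI : Algebra R (PerfectClosure R p) := (PerfectClosure.of R p).toAlgebra
    T p R n →ₗ[R] PerfectClosure R p :=
  letI : Algebra R (PerfectClosure R p) := (PerfectClosure.of R p).toAlgebra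
  { toFun := fun x => PerfectClosure.mk R p (n, (el p R n).symm x)
    map_add' := fun x y => by
      rw [PerfectClosure.mk_add_mk, map_add]
      refine (PerfectClosure.mk_eq_iff R p _ _).2 ⟨0, ?_⟩
      simp only [add_zero, iterate_frobenius, add_pow_char_pow, ← pow_mul, ← pow_add]
    map_smul' := fun r x => by
      obtain ⟨a, rfl⟩ := (el p R n).surjective x
      rw [smul_el, RingEquiv.symm_apply_apply, RingEquiv.symm_apply_apply, Algebra.smul_def,
        RingHom.algebraMap_toAlgebra, RingHom.id_apply, PerfectClosure.of_apply, PerfectClosure.mk_mul_mk]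
      refine (PerfectClosure.mk_eq_iff R p _ _).2 ⟨0, ?_⟩
      simp only [zero_add, add_zero, iterate_frobenius, pow_zero, pow_one] }

theorem psi_apply (n : ℕ) (x : R) :
    letI : Algebra R (PerfectClosure R p) := (PerfectClosure.of R p).toAlgebra
    psi p R n (el p R n x) = PerfectClosure.mk R p (n, x) := rfl

/-- transition map. -/
def trans (n k : ℕ) : T p R n →ₗ[R] T p R (n + k) :=
  { toFun := fun x => el p R (n + k) (((el p R n).symm x) ^ p ^ k)
    map_add' := fun x y => by rw [map_add, add_pow_char_pow, map_add]
    map_smul' := fun r x => by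
      obtain ⟨a, rfl⟩ := (el p R n).surjective x
      rw [smul_el, RingHom.id_apply, smul_el, RingEquiv.symm_apply_apply, RingEquiv.symm_apply_apply,
        mul_pow, ← pow_mul, ← pow_add] }

theorem psi_comp_trans (n k : ℕ) :
    letI : Algebra R (PerfectClosure R p) := (PerfectClosure.of R p).toAlgebra
    psi p R (n + k) ∘ₗ trans p R n k = psi p R n := by
  letI : Algebra R (PerfectClosure R p) := (PerfectClosure.of R p).toAlgebra
  ext x
  show PerfectClosure.mk R p (n + k, (el p R n).symm x ^ p ^ k) = PerfectClosure.mk R p (n, (el p R n).symm x)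
  refine (PerfectClosure.mk_eq_iff R p _ _).2 ⟨0, ?_⟩
  simp only [add_zero, iterate_frobenius, ← pow_mul, ← pow_add, add_comm n k]

theorem exists_lift (N : Type*) [AddCommGroup N] [Module R N]
    (z : letI : Algebra R (PerfectClosure R p) := (PerfectClosure.of R p).toAlgebra
      PerfectClosure R p ⊗[R] N) :
    letI : Algebra R (PerfectClosure R p) := (PerfectClosure.of R p).toAlgebra
    ∃ (n : ℕ) (w : T p R n ⊗[R] N), LinearMap.rTensor N (psi p R n) w = z := by
  letI : Algebra R (PerfectClosure R p) := (PerfectClosure.of R p).toAlgebra
  induction z using TensorProduct.induction_on with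
  | zero => exact ⟨0, 0, map_zero _⟩
  | tmul a x =>
    obtain ⟨⟨n, b⟩, rfl⟩ := PerfectClosure.mk_surjective R p a
    exact ⟨n, el p R n b ⊗ₜ x, rfl⟩
  | add a b ha hb =>
    obtain ⟨n, v, rfl⟩ := ha
    obtain ⟨m, w, rfl⟩ := hb
    have h : ∀ n k m, n + k = m → ∀ v : T p R n ⊗[R] N, ∃ v' : T p R m ⊗[R] N,
        LinearMap.rTensor N (psi p R m) v' = LinearMap.rTensor N (psi p R n) v := by
      rintro n k _ rfl v
      exact ⟨LinearMap.rTensor N (trans p R n k) v, by rw [← LinearMap.rTensor_comp_apply, psi_comp_trans]⟩
    obtain ⟨v', hv⟩ := h n m (n + m) rfl v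
    obtain ⟨w', hw⟩ := h m n (n + m) (add_comm _ _) w
    exact ⟨n + m, v' + w', by rw [map_add, hv, hw]⟩

theorem psi_injective [Module.Projective R (FrobAlg.Twist p R)] (n : ℕ) :
    letI : Algebra R (PerfectClosure R p) := (PerfectClosure.of R p).toAlgebra
    Function.Injective (psi p R n) := by
  letI : Algebra R (PerfectClosure R p) := (PerfectClosure.of R p).toAlgebra
  intro x y h
  obtain ⟨z, hz⟩ := (PerfectClosure.mk_eq_iff R p _ _).1 h
  exact (el p R n).symm.injective ((frobenius_injective p R).iterate _ hz)

theorem faithfullyFlat_perfectClosure [Module.Projective R (FrobAlg.Twist p R)] :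
    (PerfectClosure.of R p).FaithfullyFlat := by
  letI : Algebra R (PerfectClosure R p) := (PerfectClosure.of R p).toAlgebra
  show Module.FaithfullyFlat R (PerfectClosure R p)
  have : Module.Flat R (PerfectClosure R p) := by
    refine Module.Flat.iff_lTensor_injective'.2 fun I => ?_
    rw [injective_iff_map_eq_zero]
    intro z hz
    obtain ⟨n, w, rfl⟩ := exists_lift p R I z
    have := projective_T p R n
    have key : ∀ w : T p R n ⊗[R] I,
        psi p R n (TensorProduct.rid R _ (LinearMap.lTensor _ I.subtype w)) =
          TensorProduct.rid R _ (LinearMap.lTensor _ I.subtype (LinearMap.rTensor I (psi p R n) w)) := by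
      intro w
      induction w using TensorProduct.induction_on with
      | zero => simp
      | tmul a b => simp
      | add a b ha hb => simp only [map_add, ha, hb]
    have h0 := key w
    rw [hz, map_zero] at h0
    rw [← map_zero (psi p R n)] at h0
    have h1 := psi_injective p R n h0
    rw [LinearEquiv.map_eq_zero_iff] at h1
    have h2 := Module.Flat.lTensor_preserves_injective_linearMap (M := T p R n) I.subtype I.injective_subtype
    rw [← map_zero (LinearMap.lTensor (T p R n) I.subtype)] at h1
    rw [h2 h1, map_zero]
  refine { submodule_ne_top := fun m hm h => ?_ }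
  have hle : ∀ z ∈ m • (⊤ : Submodule R (PerfectClosure R p)), ∃ n, ∃ y ∈ m, z = PerfectClosure.mk R p (n, y) := by
    intro z hz
    refine Submodule.smul_induction_on hz (fun a ha y _ => ?_) ?_
    · obtain ⟨⟨n, b⟩, rfl⟩ := PerfectClosure.mk_surjective R p y
      refine ⟨n, a ^ p ^ n * b, ?_, ?_⟩
      swap
      · exact ((psi p R n).map_smul a (el p R n b)).symm.trans (by rw [smul_el, psi_apply])
      exact Ideal.mul_mem_right _ _ (Ideal.pow_mem_of_mem m ha _ (pow_pos (Fact.out : p.Prime).pos n))
    · rintro _ _ ⟨n, a, ha, rfl⟩ ⟨k, b, hb, rfl⟩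
      refine ⟨n + k, _, ?_, PerfectClosure.mk_add_mk R p (n, a) (k, b)⟩
      simp only [iterate_frobenius]
      exact add_mem (Ideal.pow_mem_of_mem m ha _ (pow_pos (Fact.out : p.Prime).pos _))
        (Ideal.pow_mem_of_mem m hb _ (pow_pos (Fact.out : p.Prime).pos _))
  obtain ⟨n, y, hy, h1⟩ := hle 1 (h.symm ▸ Submodule.mem_top)
  rw [PerfectClosure.one_def, PerfectClosure.mk_eq_iff] at h1
  obtain ⟨z, hz⟩ := h1
  simp only [iterate_frobenius, one_pow, zero_add] at hz
  exact hm.ne_top (m.eq_top_of_isUnit_mem
    (hz.symm ▸ Ideal.pow_mem_of_mem m hy _ (pow_pos (Fact.out : p.Prime).pos _)) isUnit_one)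

theorem psi_rTensor_injective [Module.Projective R (FrobAlg.Twist p R)] (n : ℕ)
    (N : Type*) [AddCommGroup N] [Module R N] :
    letI : Algebra R (PerfectClosure R p) := (PerfectClosure.of R p).toAlgebra
    Function.Injective (LinearMap.rTensor N (psi p R n)) := by
  letI : Algebra R (PerfectClosure R p) := (PerfectClosure.of R p).toAlgebra
  let e : PerfectClosure R p ≃+* PerfectClosure R p := (iterateFrobeniusEquiv (PerfectClosure R p) p n).symm
  let g : T p R n →+* PerfectClosure R p := ((e : PerfectClosure R p →+* PerfectClosure R p).comp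
    (PerfectClosure.of R p)).comp ((el p R n).symm : T p R n →+* R)
  have hg : ∀ x : T p R n, g x = psi p R n x := fun x => by
    show e (PerfectClosure.of R p ((el p R n).symm x)) = PerfectClosure.mk R p (n, (el p R n).symm x)
    rw [RingEquiv.symm_apply_eq, coe_iterateFrobeniusEquiv, coe_iterateFrobenius,
      PerfectClosure.iterate_frobenius_mk]
  have hff : g.FaithfullyFlat :=
    RingHom.FaithfullyFlat.stableUnderComposition _ _
      (RingHom.FaithfullyFlat.of_bijective (el p R n).symm.bijective)
      (RingHom.FaithfullyFlat.stableUnderComposition _ _ (faithfullyFlat_perfectClosure p R)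
        (RingHom.FaithfullyFlat.of_bijective e.bijective))
  letI : Algebra (T p R n) (PerfectClosure R p) := g.toAlgebra
  haveI : IsScalarTower R (T p R n) (PerfectClosure R p) := IsScalarTower.of_algebraMap_eq fun r => by
    show PerfectClosure.of R p r = g (algebraMap R (T p R n) r)
    rw [hg, Algebra.algebraMap_eq_smul_one, map_smul]
    show _ = r • psi p R n 1
    rw [← map_one (el p R n), psi_apply, Algebra.smul_def]
    have : PerfectClosure.mk R p (n, 1) = 1 :=
      (PerfectClosure.mk_eq_iff R p _ _).2 ⟨0, by simp⟩
    rw [this, mul_one]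
    rfl
  haveI : Module.FaithfullyFlat (T p R n) (PerfectClosure R p) :=
    (RingHom.faithfullyFlat_algebraMap_iff (R := T p R n) (S := PerfectClosure R p)).1 hff
  let c := TensorProduct.AlgebraTensorModule.cancelBaseChange R (T p R n) (T p R n) (PerfectClosure R p) N
  have key : ∀ w : T p R n ⊗[R] N, LinearMap.rTensor N (psi p R n) w =
      c (TensorProduct.mk (T p R n) (PerfectClosure R p) (T p R n ⊗[R] N) 1 w) := by
    intro w
    induction w using TensorProduct.induction_on with
    | zero => simp
    | tmul a b =>
      show psi p R n a ⊗ₜ b = (a • (1 : PerfectClosure R p)) ⊗ₜ b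
      rw [Algebra.smul_def, mul_one]
      exact congrArg (· ⊗ₜ b) (hg a).symm
    | add a b ha hb => simp only [map_add, ha, hb]
  intro v w h
  rw [key, key] at h
  exact Module.FaithfullyFlat.tensorProduct_mk_injective (A := T p R n) (B := PerfectClosure R p) _
    (c.injective h)

end Groth.L16.PerfTower
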