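import Mathlib.AlgebraicGeometry.Birational.RationalMap
import Mathlib.AlgebraicGeometry.Noetherian

/-! Compatibility of `fromSpecStalkOfMem` with specialisation. -/

open CategoryTheory AlgebraicGeometry

namespace Groth.L16

universe u

variable {X Y : Scheme.{u}}

theorem opens_fromSpecStalkOfMem_specializes (U : X.Opens) {x y : X} (h : x ⤳ y) (hy : y ∈ U) :
    Spec.map (X.presheaf.stalkSpecializes h) ≫ U.fromSpecStalkOfMem y hy =
      U.fromSpecStalkOfMem x (h.mem_open U.2 hy) := by
  rw [← cancel_mono U.ι, Category.assoc, Scheme.Opens.fromSpecStalkOfMem_ι,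
    Scheme.Opens.fromSpecStalkOfMem_ι, Scheme.SpecMap_stalkSpecializes_fromSpecStalk]

theorem partialMap_specializes_fromFunctionField [IrreducibleSpace X] (g : X.PartialMap Y) {x : X}
    (hx : x ∈ g.domain) :
    Spec.map (X.presheaf.stalkSpecializes (genericPoint_specializes x)) ≫ g.fromSpecStalkOfMem hx =
      g.fromFunctionField := by
  unfold Scheme.PartialMap.fromFunctionField Scheme.PartialMap.fromSpecStalkOfMem
  rw [← Category.assoc, opens_fromSpecStalkOfMem_specializes]

theorem definedOver_iff {S X Y : Scheme.{u}} [X.Over S] [Y.Over S] [IsIntegral X]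
    [LocallyOfFiniteType (Y ↘ S)] (f : X ⤏ Y) (x : X) :
    (∃ g : X.PartialMap Y, g.IsOver S ∧ g.toRationalMap = f ∧ x ∈ g.domain) ↔
      ∃ φ : Spec (X.presheaf.stalk x) ⟶ Y,
        φ ≫ (Y ↘ S) = X.fromSpecStalk x ≫ (X ↘ S) ∧
        Spec.map (X.presheaf.stalkSpecializes (genericPoint_specializes x)) ≫ φ =
          f.fromFunctionField := by
  constructor
  · rintro ⟨g, hg, rfl, hx⟩
    refine ⟨g.fromSpecStalkOfMem hx, ?_, partialMap_specializes_fromFunctionField g hx⟩
    unfold Scheme.PartialMap.fromSpecStalkOfMem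
    rw [Category.assoc, hg.comp_over]
    exact Scheme.Opens.fromSpecStalkOfMem_ι_assoc g.domain x hx _
  · rintro ⟨φ, hφ, hη⟩
    obtain ⟨U, hxU, h, hfac, hover⟩ :=
      spread_out_of_isGermInjective' (X ↘ S) (Y ↘ S) φ hφ
    let g : X.PartialMap Y := ⟨U, U.isOpen.dense ⟨x, hxU⟩, h⟩
    refine ⟨g, ⟨hover⟩, ?_, hxU⟩
    refine Scheme.RationalMap.eq_of_fromFunctionField_eq _ _ ?_
    rw [Scheme.RationalMap.fromFunctionField_toRationalMap, ← hη, hfac,
      ← partialMap_specializes_fromFunctionField g hxU]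
    rfl

end Groth.L16
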