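import Mathlib.RingTheory.RootsOfUnity.PrimitiveRoots
import Mathlib.LinearAlgebra.Matrix.SpecialLinearGroup
import Mathlib.GroupTheory.OrderOfElement
import Mathlib.Tactic.LinearCombination
import Mathlib.Tactic.FieldSimp

/-! The matrix `!![t,-1;1,0]` with `t = ξ + ξ⁻¹` has the order of `ξ` (helper16). -/

open Matrix

namespace Groth.L16.SL2Trace

variable {K : Type*} [Field K]

/-- The companion matrix of `X^2 - t X + 1`. -/
def Mt (t : K) : Matrix.SpecialLinearGroup (Fin 2) K :=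
  ⟨!![t, -1; 1, 0], by simp [Matrix.det_fin_two_of]⟩

lemma Mt_val (t : K) : (Mt t : Matrix (Fin 2) (Fin 2) K) = !![t, -1; 1, 0] := rfl

lemma Mt_sq (t : K) : (Mt t : Matrix (Fin 2) (Fin 2) K) * Mt t
    = t • (Mt t : Matrix (Fin 2) (Fin 2) K) - 1 := by
  rw [Mt_val]
  ext i j
  fin_cases i <;> fin_cases j <;> simp [Matrix.mul_fin_two] <;> ring

variable {L : Type*} [Field L] [Algebra K L]

lemma pow_rep (t : K) (ξ : L) (hξ0 : ξ ≠ 0) (ht : algebraMap K L t = ξ + ξ⁻¹) (k : ℕ) :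
    ∃ a b : K, (Mt t : Matrix (Fin 2) (Fin 2) K) ^ k = a • (Mt t : Matrix (Fin 2) (Fin 2) K) + b • 1
      ∧ algebraMap K L a * ξ + algebraMap K L b = ξ ^ k
      ∧ algebraMap K L a * ξ⁻¹ + algebraMap K L b = ξ⁻¹ ^ k := by
  induction k with
  | zero => exact ⟨0, 1, by simp, by simp, by simp⟩
  | succ k ih =>
    obtain ⟨a, b, h1, h2, h3⟩ := ih
    refine ⟨a * t + b, -a, ?_, ?_, ?_⟩
    · rw [pow_succ, h1, add_mul, smul_mul_assoc, Mt_sq, smul_mul_assoc, one_mul]
      rw [smul_sub, smul_smul, add_smul, neg_smul]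
      abel
    · rw [map_add, map_mul, ht, map_neg, pow_succ, ← h2]
      field_simp
      ring
    · rw [map_add, map_mul, ht, map_neg, pow_succ, ← h3]
      field_simp
      ring

lemma pow_eq_one_iff (t : K) (ξ : L) (hξ0 : ξ ≠ 0) (hne : ξ ≠ ξ⁻¹)
    (ht : algebraMap K L t = ξ + ξ⁻¹) (k : ℕ) : (Mt t) ^ k = 1 ↔ ξ ^ k = 1 := by
  obtain ⟨a, b, h1, h2, h3⟩ := pow_rep t ξ hξ0 ht k
  constructor
  · intro h
    have h' : (Mt t : Matrix (Fin 2) (Fin 2) K) ^ k = 1 := by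
      have := congrArg (fun g : Matrix.SpecialLinearGroup (Fin 2) K => (g : Matrix (Fin 2) (Fin 2) K)) h
      simpa using this
    rw [h1, Mt_val] at h'
    have ha : a = 0 := by
      have := congrFun (congrFun h' 1) 0
      simpa using this
    have hb : b = 1 := by
      have := congrFun (congrFun h' 1) 1
      simpa using this
    rw [← h2, ha, hb]; simp
  · intro h
    have h' : ξ⁻¹ ^ k = 1 := by rw [inv_pow, h, inv_one]
    rw [h] at h2
    rw [h'] at h3
    have ha : algebraMap K L a = 0 := by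
      have h4 : algebraMap K L a * (ξ - ξ⁻¹) = 0 := by linear_combination h2 - h3
      rcases mul_eq_zero.1 h4 with h5 | h5
      · exact h5
      · exact absurd (sub_eq_zero.1 h5) hne
    have hb : b = 1 := by
      apply (algebraMap K L).injective
      rw [map_one]; linear_combination h2 - ξ * ha
    have ha0 : a = 0 := (algebraMap K L).injective (by rw [ha, map_zero])
    apply Subtype.ext
    change ((Mt t ^ k : Matrix.SpecialLinearGroup (Fin 2) K) : Matrix (Fin 2) (Fin 2) K) = _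
    rw [Matrix.SpecialLinearGroup.coe_pow, h1, ha0, hb]
    simp

lemma ne_inv_of_primitive (n : ℕ) (ξ : L) (hn : 3 ≤ n) (hξ : IsPrimitiveRoot ξ n) : ξ ≠ ξ⁻¹ := by
  intro h
  have h0 : ξ ≠ 0 := hξ.ne_zero (by omega)
  have h2 : ξ ^ 2 = 1 := by
    rw [pow_two]; nth_rewrite 2 [h]; exact mul_inv_cancel₀ h0
  have := Nat.le_of_dvd (by norm_num) ((hξ.pow_eq_one_iff_dvd 2).1 h2)
  omega

lemma orderOf_Mt (n : ℕ) (t : K) (ξ : L) (hn : 3 ≤ n) (hξ : IsPrimitiveRoot ξ n)
    (ht : algebraMap K L t = ξ + ξ⁻¹) : orderOf (Mt t) = n := by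
  have h0 : ξ ≠ 0 := hξ.ne_zero (by omega)
  rw [orderOf_eq_iff (by omega)]
  have hne := ne_inv_of_primitive n ξ hn hξ
  refine ⟨(pow_eq_one_iff t ξ h0 hne ht n).2 hξ.pow_eq_one, fun m hm hm0 h => ?_⟩
  have := Nat.le_of_dvd hm0 ((hξ.pow_eq_one_iff_dvd m).1 ((pow_eq_one_iff t ξ h0 hne ht m).1 h))
  omega

end Groth.L16.SL2Trace
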