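import Groth.Prelude.Def_W4c3severiratdpLat
import Mathlib.Algebra.Order.Chebyshev
import Mathlib.Data.Fin.Tuple.Basic
import Mathlib.Tactic

/-!
Conic / exceptional classes in the lattices `DP δ`, `δ ≤ 8`: enumeration, reflections in roots and
descent to a chamber (helper16).
-/

namespace Groth.L16.Severi

open W4c3severiratdp

variable {δ : ℕ}

lemma form_comm (v w : DP δ) : form v w = form w v := by
  simp only [form, mul_comm]

lemma form_add_left (u v w : DP δ) : form (u + v) w = form u w + form v w := by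
  simp only [form, Pi.add_apply, add_mul, Finset.sum_add_distrib]; ring

lemma form_smul_left (t : ℤ) (v w : DP δ) : form (t • v) w = t * form v w := by
  simp only [form, Pi.smul_apply, smul_eq_mul, mul_assoc, ← Finset.mul_sum]; ring

lemma form_add_right (u v w : DP δ) : form u (v + w) = form u v + form u w := by
  rw [form_comm, form_add_left, form_comm v, form_comm w]

lemma form_smul_right (t : ℤ) (v w : DP δ) : form v (t • w) = t * form v w := by
  rw [form_comm, form_smul_left, form_comm]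

lemma form_sub_left (u v w : DP δ) : form (u - v) w = form u w - form v w := by
  simp only [form, Pi.sub_apply, sub_mul, Finset.sum_sub_distrib]; ring

lemma form_sub_right (u v w : DP δ) : form u (v - w) = form u v - form u w := by
  rw [form_comm, form_sub_left, form_comm v, form_comm w]

/-- The reflection `v ↦ v + (v·r) r` in a root `r`. -/
def refl (r : DP δ) (hr : form r r = -2) : DP δ ≃ₗ[ℤ] DP δ :=
  LinearEquiv.ofInvolutive
    { toFun := fun v => v + form v r • r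
      map_add' := fun v w => by rw [form_add_left, add_smul]; abel
      map_smul' := fun t v => by
        rw [form_smul_left, RingHom.id_apply, smul_add, smul_smul] }
    fun v => by
      show (v + form v r • r) + form (v + form v r • r) r • r = v
      rw [form_add_left, form_smul_left, hr, add_assoc, ← add_smul,
        show form v r + (form v r + form v r * -2) = 0 by ring, zero_smul, add_zero]

lemma refl_apply (r : DP δ) (hr : form r r = -2) (v : DP δ) : refl r hr v = v + form v r • r := rfl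

lemma isWeyl_refl (r : DP δ) (hr : form r r = -2) (hK : form (canon δ) r = 0) :
    IsWeyl (refl r hr) := by
  refine ⟨fun v w => ?_, ?_⟩
  · simp only [refl_apply, form_add_left, form_add_right, form_smul_left, form_smul_right]
    rw [hr, form_comm r w]; ring
  · rw [refl_apply, hK, zero_smul, add_zero]

lemma isWeyl_one : IsWeyl (LinearEquiv.refl ℤ (DP δ)) := ⟨fun _ _ => rfl, rfl⟩

lemma isWeyl_trans {g h : DP δ ≃ₗ[ℤ] DP δ} (hg : IsWeyl g) (hh : IsWeyl h) : IsWeyl (g.trans h) :=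
  ⟨fun v w => by simp only [LinearEquiv.trans_apply, hh.1, hg.1],
    by simp only [LinearEquiv.trans_apply, hg.2, hh.2]⟩

lemma isWeyl_symm {g : DP δ ≃ₗ[ℤ] DP δ} (hg : IsWeyl g) : IsWeyl g.symm := by
  refine ⟨fun v w => ?_, ?_⟩
  · conv_rhs => rw [← g.apply_symm_apply v, ← g.apply_symm_apply w, hg.1]
  · rw [LinearEquiv.symm_apply_eq, hg.2]

/-- Classes with `v·v = -e`, `K·v = -l`. -/
def IsCl (e l : ℤ) (v : DP δ) : Prop := form v v = -e ∧ form (canon δ) v = -l

lemma isCl_of_conic {v : DP δ} (h : IsConic v) : IsCl 0 2 v := ⟨by simpa using h.1, h.2⟩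

lemma isCl_of_exc {v : DP δ} (h : IsExc v) : IsCl 1 1 v := h

lemma isCl_map {e l : ℤ} {g : DP δ ≃ₗ[ℤ] DP δ} (hg : IsWeyl g) {v : DP δ} (hv : IsCl e l v) :
    IsCl e l (g v) :=
  ⟨by rw [hg.1, hv.1], by rw [← hg.2, hg.1, hv.2]⟩

/-- The two kinds of classes considered. -/
def Good (e l : ℤ) : Prop := (e = 0 ∧ l = 2) ∨ (e = 1 ∧ l = 1)

lemma isCl_eqs {e l : ℤ} {v : DP δ} (h : IsCl e l v) :
    ∑ i : Fin δ, v i.succ = 3 * v 0 - l ∧ ∑ i : Fin δ, v i.succ * v i.succ = v 0 * v 0 + e := by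
  obtain ⟨h1, h2⟩ := h
  simp only [form, canon, Fin.cases_zero, Fin.cases_succ, neg_mul, one_mul,
    Finset.sum_neg_distrib] at h1 h2
  constructor <;> linarith

lemma bounds {e l : ℤ} (hg : Good e l) (hδ : δ ≤ 8) {v : DP δ} (h : IsCl e l v) :
    (-1 ≤ v 0 ∧ v 0 ≤ 11) ∧ ∀ i : Fin δ, -11 ≤ v i.succ ∧ v i.succ ≤ 11 := by
  obtain ⟨h1, h2⟩ := isCl_eqs h
  have hcs : (∑ i : Fin δ, v i.succ) ^ 2 ≤ (δ : ℤ) * ∑ i : Fin δ, (v i.succ) ^ 2 := by
    simpa using sq_sum_le_card_mul_sum_sq (s := (Finset.univ : Finset (Fin δ))) (f := fun i => v i.succ)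
  simp only [pow_two] at hcs
  rw [h1, h2] at hcs
  have hnn : 0 ≤ v 0 * v 0 + e := h2 ▸ Finset.sum_nonneg fun i _ => mul_self_nonneg _
  have hδ' : (δ : ℤ) ≤ 8 := by exact_mod_cast hδ
  have h8 := hcs.trans (mul_le_mul_of_nonneg_right hδ' hnn)
  have hd : -1 ≤ v 0 ∧ v 0 ≤ 11 := by
    rcases hg with ⟨rfl, rfl⟩ | ⟨rfl, rfl⟩ <;> constructor <;> nlinarith
  refine ⟨hd, fun i => ?_⟩
  have hi : v i.succ * v i.succ ≤ v 0 * v 0 + e :=
    h2 ▸ Finset.single_le_sum (f := fun i => v i.succ * v i.succ)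
      (fun j _ => mul_self_nonneg _) (Finset.mem_univ i)
  rcases hg with ⟨rfl, rfl⟩ | ⟨rfl, rfl⟩ <;> constructor <;> nlinarith

/-- A list read as a vector, padded by zeros. -/
def ofL (δ : ℕ) (x : List ℤ) : DP δ := fun i => x.getD i.val 0

/-- Integer lists of length `n` with given sum and sum of squares, entries in `[-11, 11]`. -/
def EL : ℕ → ℤ → ℤ → List (List ℤ)
  | 0, s, q => if s = 0 ∧ q = 0 then [[]] else []
  | n + 1, s, q => (List.range 23).flatMap fun (i : ℕ) =>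
      if 0 ≤ q - ((i : ℤ) - 11) * ((i : ℤ) - 11) ∧
          (s - ((i : ℤ) - 11)) * (s - ((i : ℤ) - 11)) ≤ (n : ℤ) * (q - ((i : ℤ) - 11) * ((i : ℤ) - 11))
        then (EL n (s - ((i : ℤ) - 11)) (q - ((i : ℤ) - 11) * ((i : ℤ) - 11))).map (((i : ℤ) - 11) :: ·)
        else []

lemma mem_EL : ∀ (n : ℕ) (s q : ℤ) (m : Fin n → ℤ), (∀ i, -11 ≤ m i ∧ m i ≤ 11) →
    ∑ i, m i = s → ∑ i, m i * m i = q → List.ofFn m ∈ EL n s q := by
  intro n
  induction n with
  | zero => intro s q m _ hs hq; simp at hs hq; simp [EL, ← hs, ← hq]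
  | succ n ih =>
    intro s q m hb hs hq
    rw [Fin.sum_univ_succ] at hs hq
    obtain ⟨i, hi⟩ : ∃ i : ℕ, (i : ℤ) - 11 = m 0 := ⟨(m 0 + 11).toNat, by have := hb 0; omega⟩
    rw [EL, List.mem_flatMap]
    refine ⟨i, List.mem_range.2 ?_, ?_⟩
    · have := hb 0; omega
    have hnn : 0 ≤ ∑ i : Fin n, m i.succ * m i.succ :=
      Finset.sum_nonneg fun i _ => mul_self_nonneg _
    have hcs : (∑ i : Fin n, m i.succ) ^ 2 ≤ (n : ℤ) * ∑ i : Fin n, (m i.succ) ^ 2 := by
      simpa using sq_sum_le_card_mul_sum_sq (s := (Finset.univ : Finset (Fin n))) (f := fun i => m i.succ)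
    simp only [pow_two] at hcs
    rw [hi, if_pos]
    · rw [List.ofFn_succ, List.mem_map]
      exact ⟨List.ofFn fun j => m j.succ,
        ih _ _ _ (fun j => hb j.succ) (by linarith) (by linarith), rfl⟩
    · rw [show s - m 0 = ∑ i : Fin n, m i.succ by linarith,
        show q - m 0 * m 0 = ∑ i : Fin n, m i.succ * m i.succ by linarith]
      exact ⟨hnn, hcs⟩

/-- All classes of the given kind, as lists. -/
def allCl (δ : ℕ) (e l : ℤ) : List (List ℤ) :=
  (List.range 13).flatMap fun (i : ℕ) =>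
    (EL δ (3 * ((i : ℤ) - 1) - l) (((i : ℤ) - 1) * ((i : ℤ) - 1) + e)).map (((i : ℤ) - 1) :: ·)

/-- Reduce a property of all classes to a finite check. -/
theorem forall_cl {e l : ℤ} (hg : Good e l) (hδ : δ ≤ 8) (P : DP δ → Prop) [DecidablePred P]
    (h : (allCl δ e l).all (fun x => decide (P (ofL δ x))) = true) {v : DP δ} (hv : IsCl e l v) :
    P v := by
  obtain ⟨hd, hb⟩ := bounds hg hδ hv
  obtain ⟨h1, h2⟩ := isCl_eqs hv
  obtain ⟨i, hi⟩ : ∃ i : ℕ, (i : ℤ) - 1 = v 0 := ⟨(v 0 + 1).toNat, by omega⟩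
  have hmem : List.ofFn v ∈ allCl δ e l := by
    rw [allCl, List.mem_flatMap]
    refine ⟨i, List.mem_range.2 ?_, ?_⟩
    · omega
    rw [hi, List.ofFn_succ, List.mem_map]
    exact ⟨_, mem_EL _ _ _ _ hb h1 h2, rfl⟩
  have hv' := of_decide_eq_true (List.all_eq_true.1 h _ hmem)
  convert hv'
  funext j
  simp [ofL, -List.ofFn_succ, Nat.le_of_lt_succ j.isLt]

/-- The root `e_{i} - e_{i+1}` as a list (`1 ≤ i`). -/
def swapRoot (i : ℕ) : List ℤ := List.replicate i 0 ++ [-1, 1]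

/-- The root `ℓ - e₁ - e₂ - e₃` as a list. -/
def cremRoot : List ℤ := [1, 1, 1, 1]

/-- Simple roots: swaps of the positions `lo, …, hi` and, if `cr`, the Cremona root. -/
def roots (δ lo hi : ℕ) (cr : Bool) : List (DP δ) :=
  ((List.range (hi - lo)).map (fun i => ofL δ (swapRoot (lo + i)))) ++
    (if cr then [ofL δ cremRoot] else [])

/-- Potential decreasing under descent. -/
def pot (v : DP δ) : ℤ := 100 * v 0 + ∑ i : Fin δ, ((i.val : ℤ) + 1) * v i.succ

lemma pot_add_smul (v r : DP δ) (t : ℤ) : pot (v + t • r) = pot v + t * pot r := by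
  simp only [pot, Pi.add_apply, Pi.smul_apply, smul_eq_mul, mul_add, Finset.sum_add_distrib,
    Finset.mul_sum]
  rw [show ∀ a b c d : ℤ, a + b + (c + d) = a + c + (b + d) from fun a b c d => by ring]
  congr 1
  congr 1
  · ring
  · exact Finset.sum_congr rfl fun i _ => by ring

lemma pot_lower {e l : ℤ} (hg : Good e l) (hδ : δ ≤ 8) {v : DP δ} (h : IsCl e l v) :
    -1000 ≤ pot v := by
  obtain ⟨hd, hb⟩ := bounds hg hδ h
  have h1 : ∀ i ∈ (Finset.univ : Finset (Fin δ)), (-88 : ℤ) ≤ ((i.val : ℤ) + 1) * v i.succ := by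
    intro i _
    have hi : (i.val : ℤ) + 1 ≤ 8 := by have := i.isLt; omega
    have := hb i
    nlinarith
  have h2 := Finset.card_nsmul_le_sum _ _ _ h1
  simp at h2
  have hδ' : (δ : ℤ) ≤ 8 := by exact_mod_cast hδ
  unfold pot; nlinarith

/-- Descent into the chamber of `R`, fixing every vector of `Fix`. -/
theorem descent {e l : ℤ} (hg : Good e l) (hδ : δ ≤ 8) (R Fix : List (DP δ))
    (hR : ∀ r ∈ R, form r r = -2 ∧ form (canon δ) r = 0 ∧ 0 < pot r ∧ ∀ w ∈ Fix, form w r = 0)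
    {v : DP δ} (hv : IsCl e l v) :
    ∃ g : DP δ ≃ₗ[ℤ] DP δ, IsWeyl g ∧ (∀ w ∈ Fix, g w = w) ∧ ∀ r ∈ R, 0 ≤ form (g v) r := by
  suffices h : ∀ (N : ℕ) (v : DP δ), IsCl e l v → (pot v + 1000).toNat = N →
      ∃ g : DP δ ≃ₗ[ℤ] DP δ, IsWeyl g ∧ (∀ w ∈ Fix, g w = w) ∧ ∀ r ∈ R, 0 ≤ form (g v) r from
    h _ v hv rfl
  intro N
  induction N using Nat.strong_induction_on with
  | _ N ih =>
    intro v hv hN
    by_cases hdom : ∀ r ∈ R, 0 ≤ form v r
    · exact ⟨LinearEquiv.refl ℤ _, isWeyl_one, fun _ _ => rfl, hdom⟩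
    · push Not at hdom
      obtain ⟨r, hr, hneg⟩ := hdom
      obtain ⟨hrr, hrK, hrp, hrF⟩ := hR r hr
      have hW := isWeyl_refl r hrr hrK
      have hv' := isCl_map hW hv
      have hlow := pot_lower hg hδ hv'
      have hdec : pot (refl r hrr v) < pot v := by
        rw [refl_apply, pot_add_smul]; nlinarith
      obtain ⟨g, hg1, hg2, hg3⟩ := ih _ (by omega) _ hv' rfl
      refine ⟨(refl r hrr).trans g, isWeyl_trans hW hg1, fun w hw => ?_, hg3⟩
      rw [LinearEquiv.trans_apply, refl_apply, hrF w hw, zero_smul, add_zero, hg2 w hw]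

/-- Descent followed by a finite classification of the chamber. -/
theorem normalize {e l : ℤ} (hg : Good e l) (hδ : δ ≤ 8) (R Fix : List (DP δ))
    (hR : ∀ r ∈ R, form r r = -2 ∧ form (canon δ) r = 0 ∧ 0 < pot r ∧ ∀ w ∈ Fix, form w r = 0)
    (P : DP δ → Prop) [DecidablePred P]
    (h : (allCl δ e l).all (fun x => decide ((∀ r ∈ R, 0 ≤ form (ofL δ x) r) → P (ofL δ x))) = true)
    {v : DP δ} (hv : IsCl e l v) :
    ∃ g : DP δ ≃ₗ[ℤ] DP δ, IsWeyl g ∧ (∀ w ∈ Fix, g w = w) ∧ P (g v) := by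
  obtain ⟨g, hg1, hg2, hg3⟩ := descent hg hδ R Fix hR hv
  exact ⟨g, hg1, hg2, forall_cl hg hδ (fun v => (∀ r ∈ R, 0 ≤ form v r) → P v) h (isCl_map hg1 hv) hg3⟩

/-- The exceptional class `e₈` (`(0; 0, …, 0, -1)`). -/
def e8 : DP 8 := ofL 8 [0, 0, 0, 0, 0, 0, 0, 0, -1]

/-- Representatives by the product with `e₈`. -/
def excRep (k : ℤ) : DP 8 :=
  if k = -1 then e8 else if k = 0 then ofL 8 [0, 0, 0, 0, 0, 0, 0, -1, 0]
  else if k = 1 then ofL 8 [1, 1, 0, 0, 0, 0, 0, 0, 1]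
  else if k = 2 then ofL 8 [3, 1, 1, 1, 1, 1, 1, 0, 2] else ofL 8 [6, 2, 2, 2, 2, 2, 2, 2, 3]

lemma exc_to_e8 {v : DP 8} (hv : IsExc v) :
    ∃ g : DP 8 ≃ₗ[ℤ] DP 8, IsWeyl g ∧ g v = e8 := by
  obtain ⟨g, h1, -, h3⟩ := normalize (Or.inr ⟨rfl, rfl⟩) le_rfl (roots 8 1 8 true) []
    (by decide +kernel) (fun w => w = e8) (by decide +kernel) (isCl_of_exc hv)
  exact ⟨g, h1, h3⟩

lemma exc_fix_e8 {v : DP 8} (hv : IsExc v) :
    ∃ g : DP 8 ≃ₗ[ℤ] DP 8, IsWeyl g ∧ g e8 = e8 ∧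
      g v = excRep (form v e8) ∧ -1 ≤ form v e8 ∧ form v e8 ≤ 3 := by
  obtain ⟨g, h1, h2, h3, h4, h5⟩ := normalize (Or.inr ⟨rfl, rfl⟩) le_rfl (roots 8 1 7 true) [e8]
    (by decide +kernel) (fun w => w = excRep (form w e8) ∧ -1 ≤ form w e8 ∧ form w e8 ≤ 3)
    (by decide +kernel) (isCl_of_exc hv)
  have he : g e8 = e8 := h2 _ (List.mem_singleton_self _)
  have hk : form (g v) e8 = form v e8 := by
    conv_lhs => rw [← he, h1.1]
  rw [hk] at h3 h4 h5
  exact ⟨g, h1, he, h3, h4, h5⟩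

end Groth.L16.Severi
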