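import Groth.Agent.L16.SeveriLattice

/-! Weyl orbits of pairs of conic classes in `DP δ` (helper16). -/

namespace Groth.L16.Severi

open W4c3severiratdp

/-- The standard conic `(1; 1, 0, …)`. -/
def c0 (δ : ℕ) : DP δ := ofL δ [1, 1]

/-- Representatives by product with `c0`. -/
def conRep (δ : ℕ) (k : ℤ) : DP δ :=
  ofL δ (if k = 0 then [1, 1]
    else if k = 1 then [1, 0, 1]
    else if k = 2 then [2, 0, 1, 1, 1, 1]
    else if k = 3 then [3, 0, 2, 1, 1, 1, 1, 1]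
    else if k = 4 then [5, 1, 2, 2, 2, 2, 2, 2]
    else if k = 5 then [5, 0, 2, 2, 2, 2, 2, 2, 1]
    else if k = 6 then [7, 1, 3, 3, 3, 3, 2, 2, 2]
    else if k = 7 then [8, 1, 3, 3, 3, 3, 3, 3, 3]
    else [11, 3, 4, 4, 4, 4, 4, 4, 4])

/-- The second orbit for `δ = 8`, product `4`. -/
def conRep4 (δ : ℕ) : DP δ := ofL δ [4, 0, 2, 2, 2, 1, 1, 1, 1]

/-- The statement checked on each chamber element. -/
def PairP (δ : ℕ) (w : DP δ) : Prop :=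
  w = conRep δ (form w (c0 δ)) ∨ (δ = 8 ∧ form w (c0 δ) = 4 ∧ w = conRep4 δ)

instance (δ : ℕ) : DecidablePred (PairP δ) := fun w => by unfold PairP; infer_instance

/-- Chamber roots with the first position `lo`. -/
def chRoots (δ lo : ℕ) : List (DP δ) := roots δ lo δ (decide (3 ≤ δ))

lemma conic_to_c0 {δ : ℕ} (h2 : 2 ≤ δ) (h8 : δ ≤ 8) {v : DP δ} (hv : IsConic v) :
    ∃ g : DP δ ≃ₗ[ℤ] DP δ, IsWeyl g ∧ g v = c0 δ := by
  interval_cases δ <;>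
  · obtain ⟨g, h1, -, h3⟩ := normalize (Or.inl ⟨rfl, rfl⟩) (by norm_num)
      (chRoots _ 1) [] (by decide +kernel) (fun w => w = c0 _) (by decide +kernel)
      (isCl_of_conic hv)
    exact ⟨g, h1, h3⟩

lemma conic_fix_c0 {δ : ℕ} (h2 : 2 ≤ δ) (h8 : δ ≤ 8) {v : DP δ} (hv : IsConic v) :
    ∃ g : DP δ ≃ₗ[ℤ] DP δ, IsWeyl g ∧ g (c0 δ) = c0 δ ∧ PairP δ (g v) := by
  interval_cases δ <;>
  · obtain ⟨g, h1, h2', h3⟩ := normalize (Or.inl ⟨rfl, rfl⟩) (by norm_num)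
      (chRoots _ 2) [c0 _] (by decide +kernel) (PairP _) (by decide +kernel)
      (isCl_of_conic hv)
    exact ⟨g, h1, h2' _ (List.mem_singleton_self _), h3⟩

/-- Every pair is equivalent to a standard one. -/
lemma pair_normal {δ : ℕ} (h2 : 2 ≤ δ) (h8 : δ ≤ 8) {v w : DP δ} (hv : IsConic v) (hw : IsConic w) :
    ∃ g : DP δ ≃ₗ[ℤ] DP δ, IsWeyl g ∧ g v = c0 δ ∧
      (g w = conRep δ (form v w) ∨ (δ = 8 ∧ form v w = 4 ∧ g w = conRep4 δ)) := by
  obtain ⟨g, hg, hgv⟩ := conic_to_c0 h2 h8 hv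
  have hw' : IsConic (g w) := ⟨by rw [hg.1]; exact hw.1, by rw [← hg.2, hg.1]; exact hw.2⟩
  obtain ⟨g', hg', hf, hP⟩ := conic_fix_c0 h2 h8 hw'
  have hk : form (g' (g w)) (c0 δ) = form v w := by
    rw [← hf, hg'.1, ← hgv, hg.1, form_comm]
  rw [PairP, hk] at hP
  exact ⟨g.trans g', isWeyl_trans hg hg', by rw [LinearEquiv.trans_apply, hgv, hf], hP⟩

end Groth.L16.Severi
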