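import Groth.Statements.S18977

/-!
Composition of torsors along a semidirect product, pointwise.
-/

set_option autoImplicit false

universe u

open CategoryTheory MonoidalCategory CartesianMonoidalCategory MonObj AlgebraicGeometry

namespace Groth.L16.TorsComp

variable {S : Scheme.{u}}

/-- the value of an action on T-points -/
noncomputable abbrev app {G X : Over S} [GrpObj G] (a : AlgGrp.Action G X) {T : Over S}
    (g : T ⟶ G) (x : T ⟶ X) : T ⟶ X := lift g x ≫ a.act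

theorem app_one {G X : Over S} [GrpObj G] (a : AlgGrp.Action G X) {T : Over S} (x : T ⟶ X) :
    app a (1 : T ⟶ G) x = x := by
  have h : lift (1 : T ⟶ G) x = lift (toUnit T) x ≫ (η[G] ▷ X) := by
    rw [lift_whiskerRight]; rfl
  rw [app, h, Category.assoc, a.one_act]
  simp

theorem app_mul {G X : Over S} [GrpObj G] (a : AlgGrp.Action G X) {T : Over S} (g h : T ⟶ G)
    (x : T ⟶ X) : app a (g * h) x = app a g (app a h x) := by
  have e : lift (g * h) x = lift (lift g h) x ≫ (μ[G] ▷ X) := by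
    rw [lift_whiskerRight]; rfl
  rw [app, e, Category.assoc, a.mul_act, lift_lift_associator_hom_assoc, lift_whiskerLeft_assoc]

theorem app_equiv {G Q X Y : Over S} [GrpObj G] [GrpObj Q] (q : G ⟶ Q) (a : AlgGrp.Action G X)
    (b : AlgGrp.Action Q Y) (φ : X ⟶ Y) (h : (q ⊗ₘ φ) ≫ b.act = a.act ≫ φ) {T : Over S}
    (g : T ⟶ G) (x : T ⟶ X) : app a g x ≫ φ = app b (g ≫ q) (x ≫ φ) := by
  rw [app, app, Category.assoc, ← h, lift_map_assoc]

theorem app_restrict {G N X : Over S} [GrpObj G] [GrpObj N] (a : AlgGrp.Action G X) (i : N ⟶ G)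
    [IsMonHom i] {T : Over S} (n : T ⟶ N) (x : T ⟶ X) :
    app (a.restrict i) n x = app a (n ≫ i) x := by
  simp [app, AlgGrp.Action.restrict_act]

/-- an element over the unit of the quotient comes from the kernel -/
theorem exists_of_ker {G N Q : Over S} [GrpObj G] [GrpObj Q] {i : N ⟶ G} {q : G ⟶ Q}
    (hker : AlgGrp.IsKernel i q) {T : Over S} (g : T ⟶ G) (hg : g ≫ q = (1 : T ⟶ Q)) :
    ∃ n : T ⟶ N, n ≫ i = g :=
  ⟨IsPullback.lift hker g (toUnit T) hg, IsPullback.lift_fst hker _ _ _⟩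

theorem isPullback_comp {G N Q H X Y Z : Over S} [GrpObj G] [GrpObj N] [GrpObj Q] [GrpObj H]
    (iN : N ⟶ G) [IsMonHom iN] (q : G ⟶ Q) [IsMonHom q] (hker : AlgGrp.IsKernel iN q)
    (iH : H ⟶ G) [IsIso (iH ≫ q)] (a : AlgGrp.Action G X) (φ₁ : X ⟶ Y)
    (h₁ : IsPullback (a.restrict iN).act (snd N X) φ₁ φ₁)
    (aY : AlgGrp.Action Q Y) (hequiv : (q ⊗ₘ φ₁) ≫ aY.act = a.act ≫ φ₁)
    (φ₂ : Y ⟶ Z) (h₂ : IsPullback aY.act (snd Q Y) φ₂ φ₂) :
    IsPullback a.act (snd G X) (φ₁ ≫ φ₂) (φ₁ ≫ φ₂) := by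
  have split : ∀ {T : Over S} (p : T ⟶ G ⊗ X), p ≫ a.act = app a (p ≫ fst G X) (p ≫ snd G X) := by
    intro T p
    rw [app, ← comp_lift, lift_fst_snd, Category.comp_id]
  refine IsPullback.mk' ?_ ?_ ?_
  · have e₁ := app_equiv q a aY φ₁ hequiv (fst G X) (snd G X)
    rw [app, lift_fst_snd, Category.id_comp] at e₁
    have e₂ : lift (fst G X ≫ q) (snd G X ≫ φ₁) ≫ aY.act ≫ φ₂ =
        lift (fst G X ≫ q) (snd G X ≫ φ₁) ≫ snd Q Y ≫ φ₂ := by rw [h₂.w]
    rw [← Category.assoc, e₁, app, Category.assoc, e₂, lift_snd_assoc]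
    simp only [Category.assoc]
  · intro T p p' hact hsnd
    rw [split p, split p'] at hact
    have hx : p' ≫ snd G X = p ≫ snd G X := hsnd.symm
    rw [hx] at hact
    set g := p ≫ fst G X with hg
    set g' := p' ≫ fst G X with hg'
    set x := p ≫ snd G X with hxdef
    have hY : app aY (g ≫ q) (x ≫ φ₁) = app aY (g' ≫ q) (x ≫ φ₁) := by
      rw [← app_equiv q a aY φ₁ hequiv, ← app_equiv q a aY φ₁ hequiv, hact]
    have hq : g ≫ q = g' ≫ q := by
      have := h₂.hom_ext (show lift (g ≫ q) (x ≫ φ₁) ≫ aY.act = lift (g' ≫ q) (x ≫ φ₁) ≫ aY.act from hY) (by simp)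
      simpa using congrArg (fun w => w ≫ fst Q Y) this
    obtain ⟨n, hn⟩ := exists_of_ker hker (g * g'⁻¹)
      (by rw [MonObj.mul_comp, GrpObj.inv_comp, hq, mul_inv_cancel])
    have hfix : app (a.restrict iN) n (app a g' x) = app (a.restrict iN) 1 (app a g' x) := by
      rw [app_restrict, app_restrict, hn, ← app_mul, inv_mul_cancel_right, hact, MonObj.one_comp,
        app_one]
    have hn1 : n = 1 := by
      have := h₁.hom_ext (show lift n (app a g' x) ≫ (a.restrict iN).act = lift 1 (app a g' x) ≫ (a.restrict iN).act from hfix) (by simp)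
      simpa using congrArg (fun w => w ≫ fst N X) this
    have hgg : g = g' := by
      rw [hn1, MonObj.one_comp] at hn
      exact mul_inv_eq_one.mp hn.symm
    refine CartesianMonoidalCategory.hom_ext _ _ ?_ hsnd
    exact hgg
  · intro T x' x hxx
    rw [← Category.assoc, ← Category.assoc] at hxx
    obtain ⟨l, hl₁, hl₂⟩ : ∃ l : T ⟶ Q ⊗ Y, l ≫ aY.act = x' ≫ φ₁ ∧ l ≫ snd Q Y = x ≫ φ₁ :=
      ⟨h₂.lift _ _ hxx, h₂.lift_fst _ _ _, h₂.lift_snd _ _ _⟩
    set h : T ⟶ G := (l ≫ fst Q Y ≫ inv (iH ≫ q)) ≫ iH with hh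
    have hhq : h ≫ q = l ≫ fst Q Y := by
      rw [hh]; simp only [Category.assoc, IsIso.inv_hom_id, Category.comp_id]
    have hy : app a h x ≫ φ₁ = x' ≫ φ₁ := by
      rw [app_equiv q a aY φ₁ hequiv, hhq, ← hl₂, ← hl₁, app, ← comp_lift, lift_fst_snd,
        Category.comp_id]
    obtain ⟨m, hm₁, hm₂⟩ : ∃ m : T ⟶ N ⊗ X, m ≫ (a.restrict iN).act = x' ∧ m ≫ snd N X = app a h x :=
      ⟨h₁.lift _ _ hy.symm, h₁.lift_fst _ _ _, h₁.lift_snd _ _ _⟩
    refine ⟨lift ((m ≫ fst N X ≫ iN) * h) x, ?_, lift_snd _ _⟩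
    have hm : app (a.restrict iN) (m ≫ fst N X) (m ≫ snd N X) = m ≫ (a.restrict iN).act := by
      rw [app, ← comp_lift, lift_fst_snd, Category.comp_id]
    show app a ((m ≫ fst N X ≫ iN) * h) x = x'
    rw [app_mul, ← hm₂, ← Category.assoc, ← app_restrict, hm, hm₁]

theorem isLocallyTrivialFor_comp {X Y Z : Scheme.{u}} (f : X ⟶ Y) (g : Y ⟶ Z)
    (K : Precoverage Scheme.{u}) [K.IsStableUnderBaseChange] [K.IsStableUnderComposition]
    (hf : NonAbH1.IsLocallyTrivialFor K (Over.mk f : Over Y))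
    (hg : NonAbH1.IsLocallyTrivialFor K (Over.mk g : Over Z)) :
    NonAbH1.IsLocallyTrivialFor K (Over.mk (f ≫ g) : Over Z) := by
  obtain ⟨R, hR, hRs⟩ := hf
  obtain ⟨R', hR', hRs'⟩ := hg
  obtain ⟨κ, W, w, rfl⟩ := R.exists_eq_ofArrows
  obtain ⟨σ, V, v, rfl⟩ := R'.exists_eq_ofArrows
  choose s hs using fun i => hRs' (v i) (Presieve.ofArrows.mk i)
  choose t ht using fun j => hRs (w j) (Presieve.ofArrows.mk j)
  have hcov : ∀ i, Presieve.ofArrows (fun j : κ => Limits.pullback (w j) (s i))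
      (fun j => Limits.pullback.snd (w j) (s i)) ∈ K (V i) := fun i =>
    Precoverage.mem_coverings_of_isPullback _ hR (s i) _ _
      fun j => (IsPullback.of_hasPullback (w j) (s i)).flip
  refine ⟨_, Precoverage.comp_mem_coverings v hR'
    (fun i (j : κ) => Limits.pullback.snd (w j) (s i)) hcov, ?_⟩
  rintro S' u ⟨⟨i, j⟩⟩
  refine ⟨Limits.pullback.fst (w j) (s i) ≫ t j, ?_⟩
  have h1 : t j ≫ f = w j := ht j
  have h2 : s i ≫ g = v i := hs i
  show (Limits.pullback.fst (w j) (s i) ≫ t j) ≫ f ≫ g = Limits.pullback.snd (w j) (s i) ≫ v i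
  rw [Category.assoc, reassoc_of% h1, Limits.pullback.condition_assoc, h2]

end Groth.L16.TorsComp
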