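import Groth.Agent.L16.FrameIso
import Groth.Agent.L16.ProjSpace.TwistQCoh
import Groth.Agent.L18.ConeMaps
import Groth.Agent.L18.GrMod.TwistFrame
import Groth.Agent.L18.AmpleLocal

/-!
`Φ^* O(n) ≅ O(n)` on the domain of the morphism of `Proj`s induced by a graded homomorphism.
-/

set_option autoImplicit false
universe u

open CategoryTheory CategoryTheory.Limits AlgebraicGeometry TopologicalSpace Opposite HomogeneousLocalization
open Groth.L18.Frame (rs ro rs_rs rs_self rs_smul ro_ro IsFrame pull pull_rs pull_smul)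
open GradedFunLike (map_mem)

noncomputable section

namespace Groth.L16.TwistCone

variable {R A : Type u} [CommRing R] [CommRing A] [Algebra R A] (𝒜 : ℕ → Submodule R A) [GradedAlgebra 𝒜]
  (n : ℤ)

theorem nat_deg (n : ℤ) : ((n.toNat : ℕ) : ℤ) = ((-n).toNat : ℕ) + n := by omega

/-- The frame `t ^ n` of `O(n)` on `D₊(t)`, on any smaller open. -/
def powSect (t : A) (ht : t ∈ 𝒜 1) (W : (Proj 𝒜).Opens) (hW : W ≤ Proj.basicOpen 𝒜 t) :
    Γ(Twist.twist 𝒜 n, W) :=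
  Groth.L18.GrM.genT (n := n) (i := n.toNat) (j := (-n).toNat)
    ⟨t ^ n.toNat, by simpa using SetLike.pow_mem_graded n.toNat ht⟩
    ⟨t ^ (-n).toNat, by simpa using SetLike.pow_mem_graded (-n).toNat ht⟩ (nat_deg n) W
    (fun x hc => (Proj.mem_basicOpen 𝒜 t x.1).1 (hW x.2) (x.1.isPrime.mem_of_pow_mem _ hc))

theorem isFrame_powSect (t : A) (ht : t ∈ 𝒜 1) (W : (Proj 𝒜).Opens) (hW : W ≤ Proj.basicOpen 𝒜 t) :
    IsFrame (Twist.twist 𝒜 n) W (powSect 𝒜 n t ht W hW) :=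
  Groth.L18.GrM.isFrame_genT _ _ _ W
    (fun x hc => (Proj.mem_basicOpen 𝒜 t x.1).1 (hW x.2) (x.1.isPrime.mem_of_pow_mem _ hc)) _

theorem rs_powSect (t : A) (ht : t ∈ 𝒜 1) (W : (Proj 𝒜).Opens) (hW : W ≤ Proj.basicOpen 𝒜 t)
    (V : (Proj 𝒜).Opens) (h : V ≤ W) :
    rs (Twist.twist 𝒜 n) h (powSect 𝒜 n t ht W hW) = powSect 𝒜 n t ht V (h.trans hW) := rfl

/-- The ratio of the two frames on `D₊(t t')`, as an element of the chart ring. -/
def ratio (t t' : A) (ht : t ∈ 𝒜 1) (ht' : t' ∈ 𝒜 1) : Away 𝒜 (t * t') :=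
  Away.mk 𝒜 (SetLike.mul_mem_graded ht ht') (n.toNat + (-n).toNat)
    (t ^ (2 * n.toNat) * t' ^ (2 * (-n).toNat)) (by
      have := SetLike.mul_mem_graded (SetLike.pow_mem_graded (2 * n.toNat) ht)
        (SetLike.pow_mem_graded (2 * (-n).toNat) ht')
      simp only [smul_eq_mul] at this ⊢
      rwa [show (n.toNat + (-n).toNat) * (1 + 1) = 2 * n.toNat * 1 + 2 * (-n).toNat * 1 by ring])

theorem le_basicOpen_left (t t' : A) : Proj.basicOpen 𝒜 (t * t') ≤ Proj.basicOpen 𝒜 t :=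
  (Proj.basicOpen_mul 𝒜 t t').trans_le inf_le_left

theorem le_basicOpen_right (t t' : A) : Proj.basicOpen 𝒜 (t * t') ≤ Proj.basicOpen 𝒜 t' :=
  (Proj.basicOpen_mul 𝒜 t t').trans_le inf_le_right

theorem ratio_smul (t t' : A) (ht : t ∈ 𝒜 1) (ht' : t' ∈ 𝒜 1) (W : (Proj 𝒜).Opens)
    (hW : W ≤ Proj.basicOpen 𝒜 (t * t')) :
    powSect 𝒜 n t ht W (hW.trans (le_basicOpen_left 𝒜 t t')) =
      ro hW (Proj.awayToSection 𝒜 (t * t') (ratio 𝒜 n t t' ht ht')) •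
        powSect 𝒜 n t' ht' W (hW.trans (le_basicOpen_right 𝒜 t t')) := by
  refine Groth.L18.GrM.sectN_ext (𝒜 := 𝒜) fun x => ?_
  have hx : t * t' ∉ x.1.asHomogeneousIdeal := hW x.2
  have hxt' : t' ∉ x.1.asHomogeneousIdeal := fun h => hx (x.1.asHomogeneousIdeal.toIdeal.mul_mem_left _ h)
  have hxt : t ∉ x.1.asHomogeneousIdeal := fun h => hx (x.1.asHomogeneousIdeal.toIdeal.mul_mem_right _ h)
  refine Eq.trans ?_ (GrTwist.coe_smul_val n x.1 _ _).symm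
  show Localization.mk (t ^ n.toNat) (⟨t ^ (-n).toNat, fun h => hxt (x.1.isPrime.mem_of_pow_mem _ h)⟩ :
      x.1.asHomogeneousIdeal.toIdeal.primeCompl) =
    Localization.mk (t ^ (2 * n.toNat) * t' ^ (2 * (-n).toNat))
        (⟨(t * t') ^ (n.toNat + (-n).toNat), fun h => hx (x.1.isPrime.mem_of_pow_mem _ h)⟩ :
          x.1.asHomogeneousIdeal.toIdeal.primeCompl) *
      Localization.mk (t' ^ n.toNat) (⟨t' ^ (-n).toNat, fun h => hxt' (x.1.isPrime.mem_of_pow_mem _ h)⟩ :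
        x.1.asHomogeneousIdeal.toIdeal.primeCompl)
  rw [Localization.mk_mul, Localization.mk_eq_mk_iff, Localization.r_iff_exists]
  refine ⟨1, ?_⟩
  simp only [Submonoid.coe_mul, OneMemClass.coe_one, one_mul]
  generalize n.toNat = p
  generalize (-n).toNat = q
  ring

theorem exists_notMem_one (hgen : (HomogeneousIdeal.irrelevant 𝒜).toIdeal = Ideal.span (𝒜 1 : Set A))
    (x : Proj 𝒜) : ∃ t : 𝒜 1, x ∈ Proj.basicOpen 𝒜 (t : A) := by
  by_contra hc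
  push Not at hc
  refine x.not_irrelevant_le (hgen.trans_le (Ideal.span_le.2 fun a ha => ?_))
  exact not_not.1 fun h => hc ⟨a, ha⟩ h

/-- `awayι` pulls `awayToSection` back to the tautological section. -/
theorem awayι_appLE {d : ℕ} {f : A} (hd : 0 < d) (hf : f ∈ 𝒜 d) :
    Proj.awayToSection 𝒜 f ≫ (Proj.awayι 𝒜 f hf hd).appLE (Proj.basicOpen 𝒜 f) ⊤
      (fun x _ => (Proj.opensRange_awayι 𝒜 f hf hd).le ⟨x, rfl⟩) =
    (Scheme.ΓSpecIso (.of (Away 𝒜 f))).inv := by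
  refine Eq.trans ?_ (Groth.L16.ProjTwist.awayToSection_topIso (𝒜 := 𝒜) hd hf)
  congr 1
  have e1 : (Proj.basicOpen 𝒜 f).topIso.inv =
      (Proj.basicOpen 𝒜 f).ι.appLE (Proj.basicOpen 𝒜 f) ⊤ (fun x _ => x.2) := by
    rw [Scheme.Opens.ι_appLE, Scheme.Opens.topIso_inv]; rfl
  have e2 : (Proj.basicOpenIsoSpec 𝒜 f hf hd).inv.appTop =
      (Proj.basicOpenIsoSpec 𝒜 f hf hd).inv.appLE ⊤ ⊤ le_top := (Scheme.Hom.app_eq_appLE _)
  rw [e1, e2, Scheme.Hom.appLE_comp_appLE]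
  rfl

variable {𝒜} {B : Type u} [CommRing B] [Algebra R B] {ℬ : ℕ → Submodule R B} [GradedAlgebra ℬ]
  (φ : 𝒜 →+*ᵍ ℬ) (p : (PCone.dom φ : Scheme.{u}) ⟶ Proj 𝒜)
  (hp : ∀ (d : ℕ) (f : A) (hd : 0 < d) (hf : f ∈ 𝒜 d), PCone.chart φ hf hd ≫ p =
    Spec.map (CommRingCat.ofHom (Away.map φ f)) ≫ Proj.awayι 𝒜 f hf hd)

include hp

theorem image_preimage_le {d : ℕ} {f : A} (hd : 0 < d) (hf : f ∈ 𝒜 d) :
    (PCone.dom φ).ι ''ᵁ (p ⁻¹ᵁ Proj.basicOpen 𝒜 f) ≤ Proj.basicOpen ℬ (φ f) := by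
  rw [Groth.L18.Cones.pmap_preimage φ p hp hd hf, ← Scheme.Hom.opensRange_comp]
  simp only [Groth.L18.Cones.pchart_ι, Proj.opensRange_awayι, le_refl]

/-- The morphism on sections of the standard opens. -/
theorem app_awayToSection {d : ℕ} {f : A} (hd : 0 < d) (hf : f ∈ 𝒜 d) (z : Away 𝒜 f) :
    (show Γ(Proj ℬ, (PCone.dom φ).ι ''ᵁ (p ⁻¹ᵁ Proj.basicOpen 𝒜 f)) from
      p.app (Proj.basicOpen 𝒜 f) (Proj.awayToSection 𝒜 f z)) =
    ro (image_preimage_le φ p hp hd hf) (Proj.awayToSection ℬ (φ f) (Away.map φ f z)) := by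
  set c := PCone.chart φ hf hd
  set W := p ⁻¹ᵁ Proj.basicOpen 𝒜 f with hWdef
  have hW : W = c.opensRange := Groth.L18.Cones.pmap_preimage φ p hp hd hf
  have hle : ⊤ ≤ c ⁻¹ᵁ W := fun x _ => hW.ge ⟨x, rfl⟩
  have hinj : Function.Injective (c.appLE W ⊤ hle).hom := by
    have key : ∀ (W' : (PCone.dom φ).toScheme.Opens) (e : W' = c ''ᵁ ⊤) (h : ⊤ ≤ c ⁻¹ᵁ W'),
        Function.Injective (c.appLE W' ⊤ h).hom := by
      rintro W' rfl h
      rw [← c.appIso_hom']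
      exact (ConcreteCategory.bijective_of_isIso (c.appIso ⊤).hom).1
    exact key W (hW.trans c.image_top_eq_opensRange.symm) hle
  apply hinj
  have hR : (p.app (Proj.basicOpen 𝒜 f) ≫ c.appLE W ⊤ hle) =
      (c ≫ p).appLE (Proj.basicOpen 𝒜 f) ⊤ hle := by
    rw [Scheme.Hom.app_eq_appLE, Scheme.Hom.appLE_comp_appLE]
  refine (congr($hR (Proj.awayToSection 𝒜 f z))).trans ?_
  have key : ∀ (g : Spec (.of (Away ℬ (φ f))) ⟶ Proj 𝒜)
      (e : g = Spec.map (CommRingCat.ofHom (Away.map φ f)) ≫ Proj.awayι 𝒜 f hf hd) h,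
      Proj.awayToSection 𝒜 f ≫ g.appLE (Proj.basicOpen 𝒜 f) ⊤ h =
        CommRingCat.ofHom (Away.map φ f) ≫ (Scheme.ΓSpecIso (.of (Away ℬ (φ f)))).inv := by
    rintro g rfl h
    rw [Scheme.ΓSpecIso_inv_naturality, ← Scheme.Hom.appLE_comp_appLE _ _ (Proj.basicOpen 𝒜 f) ⊤ ⊤
      (fun x _ => (Proj.opensRange_awayι 𝒜 f hf hd).le ⟨x, rfl⟩) le_top, ← Category.assoc,
      awayι_appLE 𝒜 hd hf]
    congr 1
  refine (congr($(key _ (hp d f hd hf) _) z)).trans ?_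
  show (Scheme.ΓSpecIso (.of (Away ℬ (φ f)))).inv (Away.map φ f z) = _
  have hB : Proj.awayToSection ℬ (φ f) ≫ (c ≫ (PCone.dom φ).ι).appLE (Proj.basicOpen ℬ (φ f)) ⊤
      (by rw [Groth.L18.Cones.pchart_ι]; exact fun x _ => (Proj.opensRange_awayι ℬ (φ f) (φ.2 hf) hd).le ⟨x, rfl⟩) =
      (Scheme.ΓSpecIso (.of (Away ℬ (φ f)))).inv := by
    have key' : ∀ (g : Spec (.of (Away ℬ (φ f))) ⟶ Proj ℬ) (e : g = Proj.awayι ℬ (φ f) (φ.2 hf) hd) h,
        Proj.awayToSection ℬ (φ f) ≫ g.appLE (Proj.basicOpen ℬ (φ f)) ⊤ h =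
          (Scheme.ΓSpecIso (.of (Away ℬ (φ f)))).inv := by
      rintro g rfl h
      exact awayι_appLE ℬ hd (φ.2 hf)
    exact key' _ (Groth.L18.Cones.pchart_ι φ hf hd) _
  refine (congr($hB (Away.map φ f z))).symm.trans ?_
  have hι : W ≤ (PCone.dom φ).ι ⁻¹ᵁ Proj.basicOpen ℬ (φ f) := by
    intro x hx
    exact image_preimage_le φ p hp hd hf ⟨x, hx, rfl⟩
  rw [← Scheme.Hom.appLE_comp_appLE c (PCone.dom φ).ι (Proj.basicOpen ℬ (φ f)) W ⊤ hι hle]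
  show (c.appLE W ⊤ hle).hom (((PCone.dom φ).ι.appLE (Proj.basicOpen ℬ (φ f)) W hι).hom _) = _
  rw [Scheme.Opens.ι_appLE]
  rfl

theorem nonempty_pullback_iso
    (hgen : (HomogeneousIdeal.irrelevant 𝒜).toIdeal = Ideal.span (𝒜 1 : Set A)) :
    Nonempty ((Scheme.Modules.pullback p).obj (Twist.twist 𝒜 n) ≅
      (Twist.twist ℬ n).restrict (PCone.dom φ).ι) := by
  let O : 𝒜 1 → (Proj 𝒜).Opens := fun t => Proj.basicOpen 𝒜 (t : A)
  let U : 𝒜 1 → (PCone.dom φ).toScheme.Opens := fun t => p ⁻¹ᵁ O t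
  have hU : ∀ x, ∃ t, x ∈ U t := fun x => exists_notMem_one 𝒜 hgen (p x)
  have hO : ∀ t t' : 𝒜 1, O t ⊓ O t' ≤ Proj.basicOpen 𝒜 ((t : A) * t') := fun t t' =>
    (Proj.basicOpen_mul 𝒜 (t : A) t').ge
  let cA : ∀ t t' : 𝒜 1, Γ(Proj 𝒜, O t ⊓ O t') := fun t t' =>
    ro (hO t t') (Proj.awayToSection 𝒜 ((t : A) * t') (ratio 𝒜 n t t' t.2 t'.2))
  have hsub : ∀ t : 𝒜 1, (PCone.dom φ).ι ''ᵁ U t ≤ Proj.basicOpen ℬ (φ t) := fun t =>
    image_preimage_le φ p hp Nat.one_pos t.2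
  refine Groth.L16.FrameIso.nonempty_iso U
    (fun t => pull p (Twist.twist 𝒜 n) (O t) (powSect 𝒜 n t t.2 (O t) le_rfl))
    (fun t => (isFrame_powSect 𝒜 n t t.2 (O t) le_rfl).pullback p _) hU
    (fun t t' => p.app (O t ⊓ O t') (cA t t')) (fun t t' => ?_)
    (fun t => (show Γ((Twist.twist ℬ n).restrict (PCone.dom φ).ι, U t) from
      powSect ℬ n (φ t) (φ.2 t.2) _ (hsub t)))
    (fun t => ?_) (fun t t' => ?_)
  · have h := congrArg (pull p (Twist.twist 𝒜 n) (O t ⊓ O t'))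
      (ratio_smul 𝒜 n (t : A) t' t.2 t'.2 (O t ⊓ O t') (hO t t'))
    rw [pull_smul, ← rs_powSect 𝒜 n t t.2 (O t) le_rfl _ inf_le_left,
      ← rs_powSect 𝒜 n t' t'.2 (O t') le_rfl _ inf_le_right, ← pull_rs, ← pull_rs] at h
    exact h
  · exact (Groth.L18.Ample.isFrame_restrict_iff _ _ _ _).2 (isFrame_powSect ℬ n _ _ _ _)
  · refine Eq.trans ?_ (Groth.L18.Frame.restrict_smul' _ (PCone.dom φ) _ _ _).symm
    have hI : (PCone.dom φ).ι ''ᵁ (U t ⊓ U t') ≤ Proj.basicOpen ℬ (φ ((t : A) * t')) := by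
      rw [map_mul, Proj.basicOpen_mul]
      exact le_inf (((PCone.dom φ).ι.image_mono inf_le_left).trans (hsub t))
        (((PCone.dom φ).ι.image_mono inf_le_right).trans (hsub t'))
    have hc : (show Γ(Proj ℬ, (PCone.dom φ).ι ''ᵁ (U t ⊓ U t')) from p.app (O t ⊓ O t') (cA t t')) =
        ro hI (Proj.awayToSection ℬ (φ ((t : A) * t'))
          (Away.map φ ((t : A) * t') (ratio 𝒜 n t t' t.2 t'.2))) := by
      have e : p.app (O t ⊓ O t') (cA t t') = ro (p.preimage_mono (hO t t'))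
          (p.app _ (Proj.awayToSection 𝒜 ((t : A) * t') (ratio 𝒜 n t t' t.2 t'.2))) :=
        congr($(p.naturality (homOfLE (hO t t')).op) _)
      rw [e]
      exact (congrArg (ro ((PCone.dom φ).ι.image_mono (p.preimage_mono (hO t t'))))
        (app_awayToSection φ p hp (Nat.add_pos_left Nat.one_pos 1) (SetLike.mul_mem_graded t.2 t'.2) _)).trans
        (ro_ro _ _ _)
    rw [hc, show Away.map φ ((t : A) * t') (ratio 𝒜 n t t' t.2 t'.2) = _ from Away.map_mk φ _ _ _ _ _]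
    refine Groth.L18.GrM.sectN_ext (𝒜 := ℬ) fun x => ?_
    have hx : φ ((t : A) * t') ∉ x.1.asHomogeneousIdeal := hI x.2
    have hxt' : φ t' ∉ x.1.asHomogeneousIdeal := fun h =>
      hx (by rw [map_mul]; exact x.1.asHomogeneousIdeal.toIdeal.mul_mem_left _ h)
    have hxt : φ t ∉ x.1.asHomogeneousIdeal := fun h =>
      hx (by rw [map_mul]; exact x.1.asHomogeneousIdeal.toIdeal.mul_mem_right _ h)
    refine Eq.trans ?_ (GrTwist.coe_smul_val n x.1 _ _).symm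
    show Localization.mk (φ t ^ n.toNat) (⟨φ t ^ (-n).toNat, fun h => hxt (x.1.isPrime.mem_of_pow_mem _ h)⟩ :
        x.1.asHomogeneousIdeal.toIdeal.primeCompl) =
      Localization.mk (φ ((t : A) ^ (2 * n.toNat) * (t' : A) ^ (2 * (-n).toNat)))
          (⟨φ ((t : A) * t') ^ (n.toNat + (-n).toNat), fun h => hx (x.1.isPrime.mem_of_pow_mem _ h)⟩ :
            x.1.asHomogeneousIdeal.toIdeal.primeCompl) *
        Localization.mk (φ t' ^ n.toNat) (⟨φ t' ^ (-n).toNat, fun h => hxt' (x.1.isPrime.mem_of_pow_mem _ h)⟩ :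
          x.1.asHomogeneousIdeal.toIdeal.primeCompl)
    rw [Localization.mk_mul, Localization.mk_eq_mk_iff, Localization.r_iff_exists]
    refine ⟨1, ?_⟩
    simp only [Submonoid.coe_mul, OneMemClass.coe_one, one_mul, map_mul, map_pow]
    generalize n.toNat = a
    generalize (-n).toNat = b
    ring

end Groth.L16.TwistCone
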