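import Groth.Agent.L16.SchSupport
import Groth.Agent.L17.AffinePush
import Groth.Agent.L10.TopCoh
import Groth.Agent.L16.CohLinear
import Mathlib.AlgebraicGeometry.Noetherian

/-!
# Coherent modules supported in closed points are acyclic
-/

set_option autoImplicit false
set_option linter.style.haveILetI false

universe u

open CategoryTheory CategoryTheory.Limits AlgebraicGeometry TopologicalSpace Opposite

noncomputable section

namespace Groth.L16.ZeroDim

/-- A Noetherian space with closed points is discrete. -/
theorem discrete_of_noetherian {T : Type u} [TopologicalSpace T] [NoetherianSpace T] [QuasiSober T]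
    (h : ∀ x : T, IsClosed ({x} : Set T)) : DiscreteTopology T := by
  haveI : T1Space T := ⟨h⟩
  obtain ⟨S, hfin, hS1, hS2, hcov⟩ := NoetherianSpace.exists_finite_set_isClosed_irreducible
    (isClosed_univ (X := T))
  have hsub : ∀ s ∈ S, Set.Subsingleton s := fun s hs a ha b hb => by
    obtain ⟨g, hg⟩ := QuasiSober.sober (hS2 s hs) (hS1 s hs)
    have : s = {g} := by rw [← hg.def, (h g).closure_eq]
    rw [this] at ha hb
    rw [Set.mem_singleton_iff.1 ha, Set.mem_singleton_iff.1 hb]
  have hf : (Set.univ : Set T).Finite := by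
    rw [hcov, Set.sUnion_eq_biUnion]
    exact hfin.biUnion fun s hs => (hsub s hs).finite
  haveI : Finite T := Set.finite_univ_iff.1 hf
  infer_instance

/-- A locally Noetherian scheme with closed points is discrete. -/
theorem discrete_of_isLocallyNoetherian {Z : Scheme.{u}} [IsLocallyNoetherian Z]
    (h : ∀ z : Z, IsClosed ({z} : Set Z)) : DiscreteTopology Z := by
  refine discreteTopology_iff_isOpen_singleton.2 fun z => ?_
  obtain ⟨_, ⟨U, hU, rfl⟩, hzU, -⟩ :=
    Z.isBasis_affineOpens.exists_subset_of_mem_open (Set.mem_univ z) isOpen_univ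
  haveI : IsNoetherianRing Γ(Z, U) := IsLocallyNoetherian.component_noetherian ⟨U, hU⟩
  haveI : NoetherianSpace (U : Set Z) := by
    let e : PrimeSpectrum Γ(Z, U) ≃ₜ (U : Set Z) :=
      hU.fromSpec.isOpenEmbedding.isEmbedding.toHomeomorph.trans (Homeomorph.setCongr hU.range_fromSpec)
    exact (noetherianSpace_iff_of_homeomorph e).1 inferInstance
  haveI : QuasiSober (U : Set Z) := U.2.isOpenEmbedding_subtypeVal.quasiSober
  haveI : DiscreteTopology (U : Set Z) := discrete_of_noetherian fun x => by
    have he : ({x} : Set (U : Set Z)) = Subtype.val ⁻¹' {(x : Z)} := by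
      ext w; exact ⟨fun h' => congrArg Subtype.val h', fun h' => Subtype.ext h'⟩
    rw [he]
    exact (h x).preimage continuous_subtype_val
  have := U.2.isOpenMap_subtype_val _ (isOpen_discrete ({⟨z, hzU⟩} : Set (U : Set Z)))
  rwa [Set.image_singleton] at this

/-- Sheaves on discrete spaces are flasque. -/
theorem isFlasque_of_discrete {T : TopCat.{u}} [DiscreteTopology T] (F : CohTop.Ab T) :
    TopCat.Sheaf.IsFlasque F := by
  refine ⟨fun {U V} i => (AddCommGrpCat.epi_iff_surjective _).2 fun t => ?_⟩
  let W : Opens T := ⟨(U.unop : Set T) \ V.unop, isOpen_discrete _⟩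
  let O : Bool → Opens T := fun b => cond b V.unop W
  have hle : ∀ b, O b ≤ U.unop := fun b => by
    cases b
    · exact fun x hx => hx.1
    · exact i.unop.le
  let s : ∀ b, F.obj.obj (op (O b)) := fun b => match b with
    | true => t
    | false => 0
  have hs : TopCat.Presheaf.IsCompatible F.obj O s := by
    rintro (_ | _) (_ | _)
    · rfl
    · exact (Subsingleton.elim (α := F.obj.obj (op (O false ⊓ O true))) (h := by
        rw [show O false ⊓ O true = ⊥ from le_bot_iff.1 fun x hx => hx.1.2 hx.2]
        exact AddCommGrpCat.subsingleton_of_isZero (TopCat.Sheaf.isTerminalOfEmpty F).isZero) _ _)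
    · exact (Subsingleton.elim (α := F.obj.obj (op (O true ⊓ O false))) (h := by
        rw [show O true ⊓ O false = ⊥ from le_bot_iff.1 fun x hx => hx.2.2 hx.1]
        exact AddCommGrpCat.subsingleton_of_isZero (TopCat.Sheaf.isTerminalOfEmpty F).isZero) _ _)
    · rfl
  obtain ⟨g, hg, -⟩ := TopCat.Sheaf.existsUnique_gluing' F O U.unop (fun b => homOfLE (hle b))
    (fun x hx => by
      by_cases hxV : x ∈ V.unop
      · exact Opens.mem_iSup.2 ⟨true, hxV⟩
      · exact Opens.mem_iSup.2 ⟨false, hx, hxV⟩) s hs
  exact ⟨g, hg true⟩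

/-- A coherent module supported in closed points is acyclic. -/
theorem subsingleton_HH {X : Scheme.{u}} [IsLocallyNoetherian X] (M : X.Modules) (hM : Coh.IsCoh M)
    (h0 : ∀ x ∈ CohB1.support M, IsClosed ({x} : Set X)) (i : ℕ) :
    Subsingleton (Coh.HH X M (i + 1)) := by
  let J := SchSupport.annIdeal hM
  haveI := SchSupport.isIso_unit_annIdeal hM
  let e : M ≅ (Coh.push J.subschemeι).obj ((Scheme.Modules.pullback J.subschemeι).obj M) :=
    asIso ((Scheme.Modules.pullbackPushforwardAdjunction J.subschemeι).unit.app M)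
  haveI : IsLocallyNoetherian J.subscheme := LocallyOfFiniteType.isLocallyNoetherian J.subschemeι
  haveI : DiscreteTopology J.subscheme := discrete_of_isLocallyNoetherian fun z => by
    have hz : J.subschemeι z ∈ CohB1.support M := by
      rw [← SchSupport.coe_support_annIdeal hM, ← Scheme.IdealSheafData.range_subschemeι]
      exact ⟨z, rfl⟩
    have := (h0 _ hz).preimage J.subschemeι.continuous
    rwa [← Set.image_singleton, Set.preimage_image_eq _ J.subschemeι.isClosedEmbedding.injective] at this
  let N := (Scheme.Modules.pullback J.subschemeι).obj M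
  haveI : DiscreteTopology J.subscheme.toTopCat := ‹DiscreteTopology J.subscheme›
  have hN := Groth.L10.TopCoh.subsingleton_H_of_flasque (X := J.subscheme.toTopCat) (Coh.toAb N)
    (isFlasque_of_discrete _) i
  obtain ⟨φ⟩ := Groth.L17.nonempty_HH_push_of_isClosedImmersion J.subschemeι N (i + 1)
  haveI : Subsingleton (Coh.HH X ((Coh.push J.subschemeι).obj N) (i + 1)) := @Equiv.subsingleton _ _ φ.symm.toEquiv hN
  refine subsingleton_of_forall_eq 0 fun x => ?_
  rw [← CohLinear.hmap_id (i + 1) x, ← e.hom_inv_id, CohLinear.hmap_comp,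
    Subsingleton.elim (CohLinear.hmap e.hom (i + 1) x) 0, map_zero]

end Groth.L16.ZeroDim
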